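import Cfsg.Prelude.Def_Blocks
import Mathlib.RingTheory.Ideal.Quotient.Basic
import Mathlib.RingTheory.LocalRing.Basic
import Mathlib.Algebra.CharP.Lemmas
import Mathlib.Algebra.CharP.Basic
import Mathlib.Algebra.BigOperators.Field

/-!
# The local ring of the algebraic integers at a maximal ideal, inside ℂ
-/

set_option autoImplicit false

namespace CfsgLib.Blocks

open Cfsg
open scoped ComplexConjugate

/-- The residue ring of the algebraic integers at `M`. -/
abbrev ResField (M : Ideal AlgInt) := AlgInt ⧸ M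

theorem isMaximal_of_isPModular {p : ℕ} {M : Ideal AlgInt} (hM : IsPModular p M) : M.IsMaximal :=
  hM.2.1

theorem natCast_mem_of_isPModular {p : ℕ} {M : Ideal AlgInt} (hM : IsPModular p M) :
    (p : AlgInt) ∈ M :=
  hM.2.2

variable (M : Ideal AlgInt)

noncomputable instance instFieldResField [M.IsMaximal] : Field (ResField M) :=
  Ideal.Quotient.field M

noncomputable instance (priority := high) instCommRingResField : CommRing (ResField M) :=
  Ideal.Quotient.commRing M

noncomputable instance (priority := high) instCommSemiringResField : CommSemiring (ResField M) :=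
  CommRing.toCommSemiring

noncomputable instance (priority := high) instRingResField : Ring (ResField M) :=
  CommRing.toRing

noncomputable instance (priority := high) instSemiringResField : Semiring (ResField M) :=
  Ring.toSemiring

theorem algInt_coe_ne_zero {M : Ideal AlgInt} {b : AlgInt} (hb : b ∉ M) : (b : ℂ) ≠ 0 := by
  intro h
  exact hb (by rw [show b = 0 from Subtype.ext h]; exact M.zero_mem)

/-- The local ring at `M`, as a subring of `ℂ`. -/
def locRing [M.IsPrime] : Subring ℂ where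
  carrier := {z | MemLocalRing M z}
  one_mem' := ⟨1, 1, fun h => Ideal.IsPrime.ne_top ‹_› ((Ideal.eq_top_iff_one M).2 h), by simp⟩
  zero_mem' := ⟨0, 1, fun h => Ideal.IsPrime.ne_top ‹_› ((Ideal.eq_top_iff_one M).2 h), by simp⟩
  mul_mem' := by
    rintro x y ⟨a, b, hb, rfl⟩ ⟨c, d, hd, rfl⟩
    refine ⟨a * c, b * d, fun h => (Ideal.IsPrime.mem_or_mem ‹_› h).elim hb hd, ?_⟩
    push_cast
    rw [mul_div_mul_comm]
  add_mem' := by
    rintro x y ⟨a, b, hb, rfl⟩ ⟨c, d, hd, rfl⟩
    refine ⟨a * d + b * c, b * d, fun h => (Ideal.IsPrime.mem_or_mem ‹_› h).elim hb hd, ?_⟩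
    push_cast
    rw [div_add_div _ _ (algInt_coe_ne_zero hb) (algInt_coe_ne_zero hd)]
  neg_mem' := by
    rintro x ⟨a, b, hb, rfl⟩
    exact ⟨-a, b, hb, by push_cast; rw [neg_div]⟩

variable {M}

theorem mem_locRing_iff [M.IsPrime] {z : ℂ} : z ∈ locRing M ↔ MemLocalRing M z := Iff.rfl

theorem algInt_mem_locRing [M.IsPrime] (a : AlgInt) : (a : ℂ) ∈ locRing M :=
  ⟨a, 1, fun h => Ideal.IsPrime.ne_top ‹_› ((Ideal.eq_top_iff_one M).2 h), by simp⟩

theorem isIntegral_mem_locRing [M.IsPrime] {z : ℂ} (hz : IsIntegral ℤ z) : z ∈ locRing M :=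
  algInt_mem_locRing ⟨z, hz⟩

/-- The inclusion of the algebraic integers into the local ring. -/
def toLocRing [M.IsPrime] : AlgInt →+* locRing M where
  toFun a := ⟨a, algInt_mem_locRing a⟩
  map_one' := by ext; simp
  map_mul' x y := by ext; simp
  map_zero' := by ext; simp
  map_add' x y := by ext; simp

@[simp] theorem coe_toLocRing [M.IsPrime] (a : AlgInt) : ((toLocRing (M := M) a : locRing M) : ℂ) = a :=
  rfl

noncomputable instance (priority := high) instCommRingLocRing [M.IsPrime] :
    CommRing (locRing M) := Subring.toCommRing _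

noncomputable instance (priority := high) instCommSemiringLocRing [M.IsPrime] :
    CommSemiring (locRing M) := CommRing.toCommSemiring

noncomputable instance (priority := high) instRingLocRing [M.IsPrime] :
    Ring (locRing M) := CommRing.toRing

noncomputable instance (priority := high) instSemiringLocRing [M.IsPrime] :
    Semiring (locRing M) := Ring.toSemiring

theorem mk_mul_eq_of_div_eq {a b a' b' : AlgInt} (hb : b ∉ M) (hb' : b' ∉ M)
    (h : (a : ℂ) / b = (a' : ℂ) / b') :
    Ideal.Quotient.mk M a * Ideal.Quotient.mk M b'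
      = Ideal.Quotient.mk M a' * Ideal.Quotient.mk M b := by
  have : a * b' = a' * b := by
    apply Subtype.ext
    push_cast
    rwa [div_eq_div_iff (algInt_coe_ne_zero hb) (algInt_coe_ne_zero hb')] at h
  rw [← map_mul, this, map_mul]

section

variable [M.IsMaximal]

theorem mk_ne_zero {b : AlgInt} (hb : b ∉ M) : Ideal.Quotient.mk M b ≠ 0 :=
  fun h => hb (Ideal.Quotient.eq_zero_iff_mem.1 h)

/-- The value of the reduction map. -/
noncomputable def redFun (z : locRing M) : ResField M :=
  Ideal.Quotient.mk M (Classical.choose (mem_locRing_iff.1 z.2)) /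
    Ideal.Quotient.mk M (Classical.choose (Classical.choose_spec (mem_locRing_iff.1 z.2)))

theorem redFun_eq (z : locRing M) {a b : AlgInt} (hb : b ∉ M) (h : (a : ℂ) / b = (z : ℂ)) :
    redFun z = Ideal.Quotient.mk M a / Ideal.Quotient.mk M b := by
  have hspec := Classical.choose_spec (Classical.choose_spec (mem_locRing_iff.1 z.2))
  rw [redFun, div_eq_div_iff (mk_ne_zero hspec.1) (mk_ne_zero hb)]
  exact mk_mul_eq_of_div_eq hspec.1 hb (by rw [hspec.2, h])

/-- Reduction modulo the maximal ideal of the local ring. -/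
noncomputable def red (M : Ideal AlgInt) [M.IsMaximal] : locRing M →+* ResField M where
  toFun := redFun
  map_one' := by
    rw [redFun_eq (a := 1) (b := 1) _ (fun h => (‹M.IsMaximal›).ne_top ((Ideal.eq_top_iff_one M).2 h))
      (by simp)]
    simp
  map_zero' := by
    rw [redFun_eq (a := 0) (b := 1) _ (fun h => (‹M.IsMaximal›).ne_top ((Ideal.eq_top_iff_one M).2 h))
      (by simp)]
    simp
  map_mul' x y := by
    obtain ⟨a, b, hb, hx⟩ := mem_locRing_iff.1 x.2
    obtain ⟨c, d, hd, hy⟩ := mem_locRing_iff.1 y.2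
    rw [redFun_eq x hb hx, redFun_eq y hd hy,
      redFun_eq (x * y) (a := a * c) (b := b * d)
        (fun h => (Ideal.IsPrime.mem_or_mem inferInstance h).elim hb hd)
        (by push_cast; rw [← hx, ← hy, mul_div_mul_comm]),
      map_mul, map_mul, mul_div_mul_comm]
  map_add' x y := by
    obtain ⟨a, b, hb, hx⟩ := mem_locRing_iff.1 x.2
    obtain ⟨c, d, hd, hy⟩ := mem_locRing_iff.1 y.2
    rw [redFun_eq x hb hx, redFun_eq y hd hy,
      redFun_eq (x + y) (a := a * d + b * c) (b := b * d)
        (fun h => (Ideal.IsPrime.mem_or_mem inferInstance h).elim hb hd)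
        (by push_cast
            rw [← hx, ← hy, div_add_div _ _ (algInt_coe_ne_zero hb) (algInt_coe_ne_zero hd)]),
      map_add, map_mul, map_mul, map_mul, div_add_div _ _ (mk_ne_zero hb) (mk_ne_zero hd)]

theorem red_apply_div (z : locRing M) {a b : AlgInt} (hb : b ∉ M) (h : (a : ℂ) / b = (z : ℂ)) :
    red M z = Ideal.Quotient.mk M a / Ideal.Quotient.mk M b :=
  redFun_eq z hb h

@[simp] theorem red_toLocRing (a : AlgInt) : red M (toLocRing a) = Ideal.Quotient.mk M a := by
  rw [red_apply_div (a := a) (b := 1) _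
    (fun h => (‹M.IsMaximal›).ne_top ((Ideal.eq_top_iff_one M).2 h)) (by simp)]
  simp

theorem red_surjective : Function.Surjective (red M) := by
  intro x
  obtain ⟨a, rfl⟩ := Ideal.Quotient.mk_surjective x
  exact ⟨toLocRing a, red_toLocRing a⟩

theorem red_eq_zero {z : locRing M} : red M z = 0 ↔ MemLocalIdeal M (z : ℂ) := by
  constructor
  · intro h
    obtain ⟨a, b, hb, hz⟩ := mem_locRing_iff.1 z.2
    rw [red_apply_div z hb hz, div_eq_zero_iff] at h
    exact ⟨a, b, Ideal.Quotient.eq_zero_iff_mem.1 (h.resolve_right (mk_ne_zero hb)), hb, hz⟩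
  · rintro ⟨a, b, ha, hb, hz⟩
    rw [red_apply_div z hb hz, Ideal.Quotient.eq_zero_iff_mem.2 ha, zero_div]

theorem red_mk_eq_zero {z : ℂ} (hz : z ∈ locRing M) : red M ⟨z, hz⟩ = 0 ↔ MemLocalIdeal M z :=
  red_eq_zero

theorem memLocalIdeal_iff {z : ℂ} :
    MemLocalIdeal M z ↔ ∃ h : z ∈ locRing M, red M ⟨z, h⟩ = 0 := by
  constructor
  · rintro ⟨a, b, ha, hb, hz⟩
    exact ⟨⟨a, b, hb, hz⟩, red_eq_zero.2 ⟨a, b, ha, hb, hz⟩⟩
  · rintro ⟨h, h0⟩
    exact red_eq_zero.1 h0

theorem memLocalIdeal_sub_iff {x y : locRing M} :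
    MemLocalIdeal M ((x : ℂ) - (y : ℂ)) ↔ red M x = red M y := by
  rw [← sub_eq_zero, ← map_sub, red_eq_zero, AddSubgroupClass.coe_sub]

theorem memLocalIdeal_algInt_iff (a : AlgInt) : MemLocalIdeal M (a : ℂ) ↔ a ∈ M := by
  rw [← Ideal.Quotient.eq_zero_iff_mem, ← red_toLocRing, red_eq_zero]
  rfl

theorem memLocalIdeal_mem {z : ℂ} (h : MemLocalIdeal M z) : z ∈ locRing M :=
  (memLocalIdeal_iff.1 h).1

theorem not_memLocalIdeal_one : ¬ MemLocalIdeal M (1 : ℂ) := by
  intro h
  obtain ⟨h1, h0⟩ := memLocalIdeal_iff.1 h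
  exact one_ne_zero ((show red M ⟨1, h1⟩ = 1 from map_one (red M)).symm.trans h0)

theorem isUnit_of_red_ne_zero {z : locRing M} (h : red M z ≠ 0) : IsUnit z := by
  obtain ⟨a, b, hb, hz⟩ := mem_locRing_iff.1 z.2
  have ha : a ∉ M := by
    intro ha
    exact h (red_eq_zero.2 ⟨a, b, ha, hb, hz⟩)
  refine IsUnit.of_mul_eq_one ⟨(b : ℂ) / a, b, a, ha, rfl⟩ (Subtype.ext ?_)
  rw [MulMemClass.coe_mul, OneMemClass.coe_one, ← hz]
  field_simp [algInt_coe_ne_zero ha, algInt_coe_ne_zero hb]

theorem isUnit_iff_red_ne_zero {z : locRing M} : IsUnit z ↔ red M z ≠ 0 :=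
  ⟨fun h => (h.map (red M)).ne_zero, isUnit_of_red_ne_zero⟩

instance instIsLocalRingLocRing : IsLocalRing (locRing M) :=
  IsLocalRing.of_nonunits_add (by
    intro a b ha hb
    simp only [mem_nonunits_iff, isUnit_iff_red_ne_zero, not_not] at ha hb ⊢
    rw [map_add, ha, hb, add_zero])

theorem charP_resField {p : ℕ} (hp : p.Prime) (hmem : (p : AlgInt) ∈ M) : CharP (ResField M) p := by
  refine (CharP.charP_iff_prime_eq_zero hp).2 ?_
  rw [← map_natCast (Ideal.Quotient.mk M)]
  exact Ideal.Quotient.eq_zero_iff_mem.2 hmem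

theorem red_natCast (n : ℕ) : red M (n : locRing M) = (n : ResField M) := map_natCast _ _

/-- A `p`-power root of unity reduces to one. -/
theorem red_eq_one_of_pow_prime_pow {p k : ℕ} (hp : p.Prime) (hmem : (p : AlgInt) ∈ M)
    {z : locRing M} (h : z ^ p ^ k = 1) : red M z = 1 := by
  haveI := charP_resField hp hmem
  haveI := Fact.mk hp
  have h2 : (red M z - 1) ^ p ^ k = 0 := by
    rw [sub_pow_char_pow, one_pow, ← map_pow, h, map_one, sub_self]
  exact sub_eq_zero.1 (eq_zero_of_pow_eq_zero h2)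

end

end CfsgLib.Blocks
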