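import Cfsg.Agent.Lib.Blocks.CentralChar
import Cfsg.Agent.Lib.Char.Linear

/-!
# Blocks and their idempotents (Osima's theorem)
-/

set_option autoImplicit false

namespace CfsgLib.Blocks

open Cfsg CfsgLib.Char
open scoped ComplexConjugate Classical

universe u

variable {G : Type u} [Group G] [Finite G] {M : Ideal AlgInt} [M.IsMaximal]

theorem sameBlock_iff_red {χ ψ : IrrCharacter G} :
    SameBlock M (χ : G → ℂ) (ψ : G → ℂ)
      ↔ ∀ g, red M (centralR M χ g) = red M (centralR M ψ g) :=
  forall_congr' fun _ => memLocalIdeal_sub_iff (x := centralR M χ _) (y := centralR M ψ _)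

theorem sameBlock_iff_lam {χ ψ : IrrCharacter G} :
    SameBlock M (χ : G → ℂ) (ψ : G → ℂ) ↔ lam M χ = lam M ψ := by
  rw [sameBlock_iff_red]
  constructor
  · intro h
    refine AlgHom.ext fun a => ?_
    rw [lam_apply, lam_apply]
    simp only [h]
  · intro h g
    rw [← lam_classSumC, ← lam_classSumC, h]

theorem sameBlock_refl (χ : IrrCharacter G) : SameBlock M (χ : G → ℂ) (χ : G → ℂ) :=
  sameBlock_iff_lam.2 rfl

theorem SameBlock.symm' {χ ψ : IrrCharacter G} (h : SameBlock M (χ : G → ℂ) (ψ : G → ℂ)) :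
    SameBlock M (ψ : G → ℂ) (χ : G → ℂ) :=
  sameBlock_iff_lam.2 (sameBlock_iff_lam.1 h).symm

theorem SameBlock.trans' {χ ψ φ : IrrCharacter G} (h : SameBlock M (χ : G → ℂ) (ψ : G → ℂ))
    (h' : SameBlock M (ψ : G → ℂ) (φ : G → ℂ)) : SameBlock M (χ : G → ℂ) (φ : G → ℂ) :=
  sameBlock_iff_lam.2 ((sameBlock_iff_lam.1 h).trans (sameBlock_iff_lam.1 h'))

theorem mem_blockOf_self (χ : IrrCharacter G) : χ ∈ blockOf M (χ : G → ℂ) := sameBlock_refl χ

theorem isPBlock_blockOf (χ : IrrCharacter G) : IsPBlock M (blockOf M (χ : G → ℂ)) := ⟨χ, rfl⟩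

theorem mem_blockOf_iff {χ ψ : IrrCharacter G} :
    ψ ∈ blockOf M (χ : G → ℂ) ↔ lam M χ = lam M ψ := sameBlock_iff_lam

theorem blockOf_eq_iff {χ ψ : IrrCharacter G} :
    blockOf M (χ : G → ℂ) = blockOf M (ψ : G → ℂ) ↔ lam M χ = lam M ψ := by
  constructor
  · intro h
    exact mem_blockOf_iff.1 (h ▸ mem_blockOf_self ψ)
  · intro h
    ext φ
    rw [mem_blockOf_iff, mem_blockOf_iff, h]

theorem IsPBlock.nonempty {B : Set (IrrCharacter G)} (hB : IsPBlock M B) : B.Nonempty := by
  obtain ⟨χ, rfl⟩ := hB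
  exact ⟨χ, mem_blockOf_self χ⟩

theorem IsPBlock.eq_blockOf {B : Set (IrrCharacter G)} (hB : IsPBlock M B) {χ : IrrCharacter G}
    (hχ : χ ∈ B) : B = blockOf M (χ : G → ℂ) := by
  obtain ⟨ψ, rfl⟩ := hB
  exact blockOf_eq_iff.2 (mem_blockOf_iff.1 hχ)

theorem IsPBlock.mem_iff {B : Set (IrrCharacter G)} (hB : IsPBlock M B) {χ ψ : IrrCharacter G}
    (hχ : χ ∈ B) : ψ ∈ B ↔ lam M χ = lam M ψ := by
  rw [IsPBlock.eq_blockOf hB hχ, mem_blockOf_iff]

theorem IsPBlock.lam_eq {B : Set (IrrCharacter G)} (hB : IsPBlock M B) {χ ψ : IrrCharacter G}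
    (hχ : χ ∈ B) (hψ : ψ ∈ B) : lam M χ = lam M ψ := (IsPBlock.mem_iff hB hχ).1 hψ

theorem IsPBlock.eq_of_mem {B B' : Set (IrrCharacter G)} (hB : IsPBlock M B) (hB' : IsPBlock M B')
    {χ : IrrCharacter G} (h : χ ∈ B) (h' : χ ∈ B') : B = B' :=
  (IsPBlock.eq_blockOf hB h).trans (IsPBlock.eq_blockOf hB' h').symm

omit [Finite G] [M.IsMaximal] in
theorem isPBlock_principalBlock : IsPBlock M (principalBlock M G) :=
  ⟨principalIrr, rfl⟩

theorem principalIrr_mem_principalBlock :
    (principalIrr : IrrCharacter G) ∈ principalBlock M G := mem_blockOf_self principalIrr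

/-- The indicator of a set of characters. -/
noncomputable def blockInd {R : Type*} [CommRing R] (A : Set (IrrCharacter G))
    (χ : IrrCharacter G) : R :=
  if χ ∈ A then 1 else 0

omit [Finite G] [M.IsMaximal] in
theorem blockCoeff_conj (A : Set (IrrCharacter G)) (u x : G) :
    blockCoeff A (u * x * u⁻¹) = blockCoeff A x := by
  unfold blockCoeff
  congr 1
  refine finsum_congr fun χ => finsum_congr fun _ => ?_
  rw [IsIrrCharacter.isClassFunction χ.2 x u]

omit [M.IsMaximal] in
theorem blockCoeff_eq_sum (A : Set (IrrCharacter G)) (g : G) :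
    blockCoeff A g = (Nat.card G : ℂ)⁻¹ *
      ∑ χ : IrrCharacter G, blockInd A χ * ((χ : G → ℂ) 1 * conj ((χ : G → ℂ) g)) := by
  rw [blockCoeff, finsum_mem_def, finsum_eq_sum_of_fintype]
  simp [blockInd, Set.indicator_apply]

/-- The sum of the central idempotents of a set of characters. -/
noncomputable def idemC (A : Set (IrrCharacter G)) :
    Subalgebra.center ℂ (MonoidAlgebra ℂ G) :=
  ⟨ofFun (blockCoeff A), ofFun_mem_center (blockCoeff_conj A)⟩

omit [M.IsMaximal] in
@[simp] theorem coe_idemC (A : Set (IrrCharacter G)) :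
    (idemC A : MonoidAlgebra ℂ G) = ofFun (blockCoeff A) := rfl

omit [M.IsMaximal] in
theorem omega_idemC (A : Set (IrrCharacter G)) (χ : IrrCharacter G) :
    omega χ (idemC A) = blockInd A χ := by
  haveI := Fintype.ofFinite G
  rw [omega_eq_sum, coe_idemC]
  simp only [coeff_ofFun, blockCoeff_eq_sum]
  have h1 := IsIrrCharacter.apply_one_ne_zero χ.2
  rw [div_eq_iff h1]
  calc ∑ g : G, (Nat.card G : ℂ)⁻¹ *
        (∑ ψ : IrrCharacter G, blockInd A ψ * ((ψ : G → ℂ) 1 * conj ((ψ : G → ℂ) g))) *
          (χ : G → ℂ) g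
      = ∑ ψ : IrrCharacter G, blockInd A ψ * (ψ : G → ℂ) 1 *
          Cfsg.classInner (χ : G → ℂ) (ψ : G → ℂ) := by
        simp only [Cfsg.classInner, Finset.mul_sum, Finset.sum_mul]
        rw [Finset.sum_comm]
        refine Finset.sum_congr rfl fun ψ _ => Finset.sum_congr rfl fun g _ => ?_
        ring
    _ = blockInd A χ * (χ : G → ℂ) 1 := by
        simp [classInner_irrCharacter]

/-- The product separating `B` from the other blocks. -/
theorem exists_sep {B : Set (IrrCharacter G)} (hB : IsPBlock M B) :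
    ∃ z : Subalgebra.center (locRing M) (MonoidAlgebra (locRing M) G),
      ∀ χ, red M (lamR M χ z) = blockInd B χ := by
  obtain ⟨ξ, hξ⟩ := IsPBlock.nonempty hB
  have hsep : ∀ η : IrrCharacter G, η ∉ B →
      ∃ z, red M (lamR M η z) = 0 ∧ red M (lamR M ξ z) = 1 := by
    intro η hη
    have hne : ¬ ∀ g, red M (centralR M ξ g) = red M (centralR M η g) := fun h =>
      hη (by
        rw [IsPBlock.eq_blockOf hB hξ]
        exact sameBlock_iff_red.2 h)
    obtain ⟨g, hg⟩ := not_forall.1 hne
    obtain ⟨c, hc⟩ := red_surjective (M := M)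
      (red M (centralR M ξ g) - red M (centralR M η g))⁻¹
    refine ⟨c • (classSumC (locRing M) g - algebraMap (locRing M) _ (centralR M η g)), ?_, ?_⟩
    · simp
    · simp [map_smul, hc, inv_mul_cancel₀ (sub_ne_zero.2 hg)]
  choose z hz0 hz1 using hsep
  refine ⟨∏ η : {η : IrrCharacter G // η ∉ B}, z η η.2, fun χ => ?_⟩
  simp only [map_prod]
  by_cases hχ : χ ∈ B
  · rw [blockInd, if_pos hχ]
    refine Finset.prod_eq_one fun η _ => ?_
    rw [← lam_mapCenter, ← IsPBlock.lam_eq hB hξ hχ, lam_mapCenter, hz1]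
  · rw [blockInd, if_neg hχ]
    exact Finset.prod_eq_zero (i := ⟨χ, hχ⟩) (Finset.mem_univ _) (hz0 χ hχ)

theorem exists_idem {B : Set (IrrCharacter G)} (hB : IsPBlock M B) :
    ∃ f : Subalgebra.center (locRing M) (MonoidAlgebra (locRing M) G),
      ∀ χ, lamR M χ f = blockInd B χ := by
  obtain ⟨z, hz⟩ := exists_sep hB
  let α : IrrCharacter G → locRing M := fun χ => lamR M χ z
  have hu : ∀ ξ : IrrCharacter G, ξ ∈ B →
      IsUnit (∏ η : {η : IrrCharacter G // η ∉ B}, (α ξ - α η.1)) := by
    intro ξ hξ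
    refine isUnit_of_red_ne_zero ?_
    simp only [map_prod, map_sub, α, hz]
    rw [Finset.prod_ne_zero_iff]
    intro η _
    simp [blockInd, hξ, η.2]
  choose u hu using hu
  let h : {ξ : IrrCharacter G // ξ ∈ B} →
      Subalgebra.center (locRing M) (MonoidAlgebra (locRing M) G) := fun ξ =>
    ((↑(u ξ.1 ξ.2)⁻¹ : locRing M)) •
      ∏ η : {η : IrrCharacter G // η ∉ B}, (z - algebraMap (locRing M) _ (α η.1))
  refine ⟨1 - ∏ ξ : {ξ : IrrCharacter G // ξ ∈ B}, (1 - h ξ), fun χ => ?_⟩
  simp only [map_sub, map_one, map_prod, h, map_smul, AlgHom.commutes, Algebra.algebraMap_self,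
    RingHom.id_apply, smul_eq_mul]
  by_cases hχ : χ ∈ B
  · rw [Finset.prod_eq_zero (i := ⟨χ, hχ⟩) (Finset.mem_univ _), sub_zero, blockInd, if_pos hχ]
    show 1 - (↑(u χ hχ)⁻¹ : locRing M) * ∏ η : {η : IrrCharacter G // η ∉ B}, (α χ - α η.1) = 0
    rw [← hu χ hχ, Units.inv_mul, sub_self]
  · rw [Finset.prod_eq_one, sub_self, blockInd, if_neg hχ]
    intro ξ _
    have : ∏ η : {η : IrrCharacter G // η ∉ B}, (lamR M χ z - α η.1) = 0 :=
      Finset.prod_eq_zero (i := ⟨χ, hχ⟩) (Finset.mem_univ _) (sub_self _)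
    rw [this, mul_zero, sub_zero]

theorem coe_blockInd (B : Set (IrrCharacter G)) (χ : IrrCharacter G) :
    ((blockInd B χ : locRing M) : ℂ) = blockInd B χ := by
  unfold blockInd
  split_ifs <;> simp

/-- **Osima's theorem**: the block idempotent has coefficients in the local ring. -/
theorem blockCoeff_mem {B : Set (IrrCharacter G)} (hB : IsPBlock M B) (g : G) :
    blockCoeff B g ∈ locRing M := by
  obtain ⟨f, hf⟩ := exists_idem hB
  have hfC : mapCenter (locRing M).subtype f = idemC B :=
    omega_ext fun χ => by rw [omega_idemC, ← coe_lamR, hf, coe_blockInd]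
  have := congrArg
    (fun a : Subalgebra.center ℂ (MonoidAlgebra ℂ G) => (a : MonoidAlgebra ℂ G).coeff g) hfC
  simp [coe_mapCenter] at this
  rw [← this]
  exact ((f : MonoidAlgebra (locRing M) G).coeff g).2

/-- The central idempotent of a set of characters with local integral coefficients. -/
noncomputable def idemR (M : Ideal AlgInt) [M.IsPrime] (A : Set (IrrCharacter G))
    (hA : ∀ g, blockCoeff A g ∈ locRing M) :
    Subalgebra.center (locRing M) (MonoidAlgebra (locRing M) G) :=
  ⟨ofFun fun g => ⟨blockCoeff A g, hA g⟩,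
    ofFun_mem_center fun u x => Subtype.ext (blockCoeff_conj A u x)⟩

theorem coe_coeff_idemR {A : Set (IrrCharacter G)} (hA : ∀ g, blockCoeff A g ∈ locRing M) (g : G) :
    (((idemR M A hA : MonoidAlgebra (locRing M) G).coeff g : locRing M) : ℂ) = blockCoeff A g := by
  simp [idemR]

theorem lamR_idemR {A : Set (IrrCharacter G)} (hA : ∀ g, blockCoeff A g ∈ locRing M)
    (χ : IrrCharacter G) : lamR M χ (idemR M A hA) = blockInd A χ := by
  apply Subtype.ext
  rw [coe_lamR, coe_blockInd, ← omega_idemC]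
  congr 1
  refine Subtype.ext (MonoidAlgebra.ext (Finsupp.ext fun x => ?_))
  simp [coe_mapCenter, coe_coeff_idemR]

/-- The idempotent of a block in the centre of the group ring over the local ring. -/
noncomputable def blockIdemR {B : Set (IrrCharacter G)} (hB : IsPBlock M B) :
    Subalgebra.center (locRing M) (MonoidAlgebra (locRing M) G) :=
  idemR M B (blockCoeff_mem hB)

theorem coe_coeff_blockIdemR {B : Set (IrrCharacter G)} (hB : IsPBlock M B) (g : G) :
    (((blockIdemR hB : MonoidAlgebra (locRing M) G).coeff g : locRing M) : ℂ) = blockCoeff B g :=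
  coe_coeff_idemR _ g

theorem lamR_blockIdemR {B : Set (IrrCharacter G)} (hB : IsPBlock M B) (χ : IrrCharacter G) :
    lamR M χ (blockIdemR hB) = blockInd B χ :=
  lamR_idemR _ χ

theorem isIdempotentElem_idemR {A : Set (IrrCharacter G)} (hA : ∀ g, blockCoeff A g ∈ locRing M) :
    IsIdempotentElem (idemR M A hA) :=
  lamR_ext fun χ => by rw [map_mul, lamR_idemR]; unfold blockInd; split_ifs <;> simp

theorem isIdempotentElem_blockIdemR {B : Set (IrrCharacter G)} (hB : IsPBlock M B) :
    IsIdempotentElem (blockIdemR hB) :=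
  isIdempotentElem_idemR _

/-- The block idempotent in the modular group algebra. -/
noncomputable def blockIdem {B : Set (IrrCharacter G)} (hB : IsPBlock M B) :
    Subalgebra.center (ResField M) (MonoidAlgebra (ResField M) G) :=
  mapCenter (red M) (blockIdemR hB)

theorem coeff_blockIdem {B : Set (IrrCharacter G)} (hB : IsPBlock M B) (g : G) :
    (blockIdem hB : MonoidAlgebra (ResField M) G).coeff g
      = red M ⟨blockCoeff B g, blockCoeff_mem hB g⟩ := by
  simp [blockIdem, coe_mapCenter, blockIdemR, idemR]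

theorem coeff_blockIdem_eq_zero_iff {B : Set (IrrCharacter G)} (hB : IsPBlock M B) (g : G) :
    (blockIdem hB : MonoidAlgebra (ResField M) G).coeff g = 0
      ↔ MemLocalIdeal M (blockCoeff B g) := by
  rw [coeff_blockIdem, red_eq_zero]

theorem red_blockInd (B : Set (IrrCharacter G)) (χ : IrrCharacter G) :
    red M (blockInd B χ) = blockInd B χ := by
  unfold blockInd
  split_ifs <;> simp

theorem lam_blockIdem {B : Set (IrrCharacter G)} (hB : IsPBlock M B) (χ : IrrCharacter G) :
    lam M χ (blockIdem hB) = blockInd B χ := by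
  rw [blockIdem, lam_mapCenter, lamR_blockIdemR, red_blockInd]

theorem lam_blockIdem_of_mem {B : Set (IrrCharacter G)} (hB : IsPBlock M B) {χ : IrrCharacter G}
    (h : χ ∈ B) : lam M χ (blockIdem hB) = 1 := by
  rw [lam_blockIdem, blockInd, if_pos h]

theorem isIdempotentElem_blockIdem {B : Set (IrrCharacter G)} (hB : IsPBlock M B) :
    IsIdempotentElem (blockIdem hB) :=
  (isIdempotentElem_blockIdemR hB).map (mapCenter (red M))

/-- A set of characters with local integral idempotent is a union of blocks. -/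
theorem blockOf_subset_of_memLocalRing {A : Set (IrrCharacter G)}
    (hA : ∀ g, blockCoeff A g ∈ locRing M) {χ : IrrCharacter G} (hχ : χ ∈ A) :
    blockOf M (χ : G → ℂ) ⊆ A := by
  intro ψ hψ
  by_contra hψA
  have h := DFunLike.congr_fun (mem_blockOf_iff.1 hψ) (mapCenter (red M) (idemR M A hA))
  rw [lam_mapCenter, lam_mapCenter, lamR_idemR, lamR_idemR, red_blockInd, red_blockInd,
    blockInd, blockInd, if_pos hχ, if_neg hψA] at h
  exact one_ne_zero h

/-- The product over all irreducible characters of `z - ω(z)` vanishes. -/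
theorem prod_sub_lamR_eq_zero
    (z : Subalgebra.center (locRing M) (MonoidAlgebra (locRing M) G)) :
    ∏ χ : IrrCharacter G, (z - algebraMap (locRing M) _ (lamR M χ z)) = 0 :=
  lamR_ext fun ψ => by
    rw [map_zero, map_prod]
    exact Finset.prod_eq_zero (i := ψ) (Finset.mem_univ _) (by simp)

theorem prod_sub_lam_eq_zero
    (z : Subalgebra.center (ResField M) (MonoidAlgebra (ResField M) G)) :
    ∏ χ : IrrCharacter G, (z - algebraMap (ResField M) _ (lam M χ z)) = 0 := by
  obtain ⟨z', rfl⟩ := mapCenter_surjective (red_surjective (M := M)) z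
  have h := congrArg (mapCenter (red M)) (prod_sub_lamR_eq_zero z')
  rw [map_zero, map_prod] at h
  simpa only [map_sub, mapCenter_algebraMap, lam_mapCenter] using h

/-- An element of the centre killed by all central characters is nilpotent. -/
theorem isNilpotent_of_lam_eq_zero
    (z : Subalgebra.center (ResField M) (MonoidAlgebra (ResField M) G))
    (h : ∀ χ, lam M χ z = 0) : IsNilpotent z := by
  refine ⟨Fintype.card (IrrCharacter G), ?_⟩
  simpa [h] using prod_sub_lam_eq_zero z

/-- Every algebra homomorphism from the centre to the residue field is a central character. -/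
theorem exists_eq_lam
    (μ : Subalgebra.center (ResField M) (MonoidAlgebra (ResField M) G) →ₐ[ResField M] ResField M) :
    ∃ χ, μ = lam M χ := by
  by_contra hcon
  push Not at hcon
  have hne : ∀ χ : IrrCharacter G, ∃ z, μ z ≠ lam M χ z := fun χ => by
    by_contra h
    push Not at h
    exact hcon χ (AlgHom.ext h)
  choose z hz using hne
  let w := ∏ χ : IrrCharacter G, (z χ - algebraMap (ResField M) _ (lam M χ (z χ)))
  have hw : ∀ ψ, lam M ψ w = 0 := fun ψ => by
    rw [map_prod]
    exact Finset.prod_eq_zero (i := ψ) (Finset.mem_univ _) (by simp)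
  have h0 : μ w = 0 := ((isNilpotent_of_lam_eq_zero w hw).map μ).eq_zero
  rw [map_prod, Finset.prod_eq_zero_iff] at h0
  obtain ⟨χ, -, hχ⟩ := h0
  exact hz χ (sub_eq_zero.1 (by simpa using hχ))

/-- An element with nonzero central character value is invertible in the block algebra. -/
theorem exists_blockIdem_eq_mul {B : Set (IrrCharacter G)} (hB : IsPBlock M B)
    {χ : IrrCharacter G} (hχ : χ ∈ B)
    (z : Subalgebra.center (ResField M) (MonoidAlgebra (ResField M) G)) (hz : lam M χ z ≠ 0) :
    ∃ s, blockIdem hB = blockIdem hB * z * s := by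
  set c := lam M χ z
  obtain ⟨N, hN⟩ := isNilpotent_of_lam_eq_zero
    (blockIdem hB * (algebraMap (ResField M) _ c - z)) (fun ψ => by
      rw [map_mul, lam_blockIdem, map_sub, AlgHom.commutes]
      by_cases hψ : ψ ∈ B
      · simp [blockInd, hψ, c, IsPBlock.lam_eq hB hχ hψ]
      · simp [blockInd, hψ])
  have hN1 : blockIdem hB * (algebraMap (ResField M) _ c - z) ^ (N + 1) = 0 := by
    have h2 : (blockIdem hB * (algebraMap (ResField M) _ c - z)) ^ (N + 1) = 0 := by
      rw [pow_succ, hN, zero_mul]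
    rwa [mul_pow, (isIdempotentElem_blockIdem hB).pow_succ_eq] at h2
  obtain ⟨t, ht⟩ := sub_dvd_pow_sub_pow
    (algebraMap (ResField M) (Subalgebra.center (ResField M) (MonoidAlgebra (ResField M) G)) c)
    (algebraMap (ResField M) _ c - z) (N + 1)
  replace ht := ht.trans (congrArg (· * t) (sub_sub_cancel _ z))
  refine ⟨t * algebraMap (ResField M) _ (c ^ (N + 1))⁻¹, ?_⟩
  calc blockIdem hB
      = blockIdem hB * (algebraMap (ResField M) _ (c ^ (N + 1))
          * algebraMap (ResField M) _ (c ^ (N + 1))⁻¹) := by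
        rw [← map_mul, mul_inv_cancel₀ (pow_ne_zero _ hz), map_one, mul_one]
    _ = blockIdem hB * (z * t) * algebraMap (ResField M) _ (c ^ (N + 1))⁻¹ := by
        rw [← mul_assoc, map_pow, ← ht]
        refine congrArg (· * _) (Eq.symm ?_)
        exact (mul_sub _ _ _).trans ((congrArg (fun w => _ - w) hN1).trans (sub_zero _))
    _ = _ := by simp only [mul_assoc]

end CfsgLib.Blocks
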