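import Cfsg.Prelude.Def_Blocks
import Mathlib.Data.Nat.ChineseRemainder
import Mathlib.GroupTheory.OrderOfElement
import Mathlib.Tactic.Group

/-!
# The `p`-part of a group element
-/

set_option autoImplicit false

namespace CfsgLib.Blocks

open Cfsg

variable {G : Type*} [Group G]

theorem exists_isPPart [Finite G] {p : ℕ} (hp : p.Prime) (g : G) : ∃ x : G, IsPPart p g x := by
  have hn : orderOf g ≠ 0 := (orderOf_pos g).ne'
  obtain ⟨k, m, hm, hkm⟩ := Nat.exists_eq_pow_mul_and_not_dvd hn p hp.ne_one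
  have hcop : Nat.Coprime (p ^ k) m := Nat.Coprime.pow_left _ (hp.coprime_iff_not_dvd.2 hm)
  obtain ⟨u, hu1, hu0⟩ := Nat.chineseRemainder hcop 1 0
  obtain ⟨v, hv0, hv1⟩ := Nat.chineseRemainder hcop 0 1
  refine ⟨g ^ u, g ^ v, ?_, (Commute.refl g).pow_pow _ _, ?_, ?_⟩
  · rw [← pow_add]
    conv_rhs => rw [← pow_one g]
    rw [pow_eq_pow_iff_modEq, hkm]
    exact (Nat.modEq_and_modEq_iff_modEq_mul hcop).1
      ⟨by simpa using hu1.add hv0, by simpa using hu0.add hv1⟩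
  · have h : (g ^ u) ^ (p ^ k) = 1 := by
      rw [← pow_mul, ← orderOf_dvd_iff_pow_eq_one, hkm, mul_comm u]
      exact mul_dvd_mul_left _ ((Nat.modEq_zero_iff_dvd).1 hu0)
    obtain ⟨i, -, hi⟩ := (Nat.dvd_prime_pow hp).1 (orderOf_dvd_of_pow_eq_one h)
    exact ⟨i, hi⟩
  · have h : (g ^ v) ^ m = 1 := by
      rw [← pow_mul, ← orderOf_dvd_iff_pow_eq_one, hkm]
      exact mul_dvd_mul ((Nat.modEq_zero_iff_dvd).1 hv0) dvd_rfl
    exact fun h2 => hm (h2.trans (orderOf_dvd_of_pow_eq_one h))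

theorem exists_pow_pow_eq {x : G} {n k p : ℕ} (hp : p.Prime) (hx : orderOf x = p ^ k)
    (hn : ¬ p ∣ n) : ∃ t : ℕ, (x ^ n) ^ t = x := by
  apply exists_pow_eq_self_of_coprime
  rw [hx]
  exact Nat.Coprime.pow_right _ ((hp.coprime_iff_not_dvd.2 hn).symm)

theorem IsPPart.eq_pow {p : ℕ} (hp : p.Prime) {g x : G} (h : IsPPart p g x) {l : ℕ} (hl : ¬ p ∣ l) :
    ∃ n : ℕ, (g ^ l) ^ n = x := by
  obtain ⟨y, hxy, hcomm, ⟨k, hk⟩, hy⟩ := h
  obtain ⟨t, ht⟩ := exists_pow_pow_eq hp hk (n := l * orderOf y)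
    (fun hd => (hp.dvd_mul.1 hd).elim hl hy)
  refine ⟨orderOf y * t, ?_⟩
  rw [← pow_mul, ← mul_assoc, pow_mul, ← hxy, hcomm.mul_pow]
  rw [show y ^ (l * orderOf y) = 1 by rw [mul_comm, pow_mul, pow_orderOf_eq_one, one_pow], mul_one]
  exact ht

theorem IsPPart.mem_zpowers {p : ℕ} (hp : p.Prime) {g x : G} (h : IsPPart p g x) :
    x ∈ Subgroup.zpowers g := by
  obtain ⟨n, hn⟩ := IsPPart.eq_pow hp h (l := 1) hp.not_dvd_one
  rw [← hn, pow_one]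
  exact Subgroup.pow_mem _ (Subgroup.mem_zpowers g) _

/-- Two commuting factorisations into a `p`-element and a `p`-regular element agree. -/
theorem IsPPart.unique [Finite G] {p : ℕ} (hp : p.Prime) {g x x' : G} (h : IsPPart p g x)
    (h' : IsPPart p g x') : x = x' := by
  obtain ⟨y, hxy, hcomm, ⟨k, hk⟩, hy⟩ := h
  obtain ⟨y', hxy', hcomm', ⟨k', hk'⟩, hy'⟩ := h'
  have hcop : Nat.Coprime (p ^ (k + k')) (orderOf y * orderOf y') :=
    Nat.Coprime.pow_left _ (Nat.Coprime.mul_right (hp.coprime_iff_not_dvd.2 hy)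
      (hp.coprime_iff_not_dvd.2 hy'))
  obtain ⟨u, hu1, hu0⟩ := Nat.chineseRemainder hcop 1 0
  have key : ∀ {a b : G} {i : ℕ}, Commute a b → a * b = g → orderOf a = p ^ i → i ≤ k + k' →
      orderOf b ∣ orderOf y * orderOf y' → g ^ u = a := by
    intro a b i hc hab ha hi hb
    rw [← hab, hc.mul_pow, orderOf_dvd_iff_pow_eq_one.1 (hb.trans (Nat.modEq_zero_iff_dvd.1 hu0)),
      mul_one]
    conv_rhs => rw [← pow_one a]
    rw [pow_eq_pow_iff_modEq, ha]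
    exact hu1.of_dvd (pow_dvd_pow p hi)
  rw [← key hcomm hxy hk (Nat.le_add_right _ _) (dvd_mul_right _ _),
    key hcomm' hxy' hk' (Nat.le_add_left _ _) (dvd_mul_left _ _)]

theorem IsPPart.conj {p : ℕ} {g x : G} (h : IsPPart p g x) (c : G) :
    IsPPart p (c * g * c⁻¹) (c * x * c⁻¹) := by
  obtain ⟨y, hxy, hcomm, hk, hy⟩ := h
  refine ⟨c * y * c⁻¹, ?_, ?_, ?_, ?_⟩
  · rw [← hxy]; group
  · exact hcomm.map (MulAut.conj c)
  · obtain ⟨k, hk⟩ := hk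
    exact ⟨k, by rw [← hk]; exact MulEquiv.orderOf_eq (MulAut.conj c) x⟩
  · rwa [show orderOf (c * y * c⁻¹) = orderOf y from MulEquiv.orderOf_eq (MulAut.conj c) y]

theorem IsPPart.inv {p : ℕ} {g x : G} (h : IsPPart p g x) : IsPPart p g⁻¹ x⁻¹ := by
  obtain ⟨y, hxy, hcomm, ⟨k, hk⟩, hy⟩ := h
  refine ⟨y⁻¹, ?_, hcomm.inv_inv, ⟨k, by rw [orderOf_inv, hk]⟩, by rwa [orderOf_inv]⟩
  rw [← hxy, ← mul_inv_rev, hcomm.eq]

theorem isPPart_of_commute {p k : ℕ} {x y : G} (h : Commute x y) (hx : orderOf x = p ^ k)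
    (hy : ¬ p ∣ orderOf y) : IsPPart p (x * y) x :=
  ⟨y, rfl, h, ⟨k, hx⟩, hy⟩

theorem isPPart_one_of_regular {p : ℕ} {g : G} (hg : ¬ p ∣ orderOf g) : IsPPart p g 1 :=
  ⟨g, one_mul g, Commute.one_left g, ⟨0, by simp⟩, hg⟩

theorem not_dvd_orderOf_iff [Finite G] {p : ℕ} (hp : p.Prime) {g x : G} (h : IsPPart p g x) :
    ¬ p ∣ orderOf g ↔ x = 1 := by
  constructor
  · intro hg
    exact IsPPart.unique hp h (isPPart_one_of_regular hg)
  · rintro rfl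
    obtain ⟨y, hxy, -, -, hy⟩ := h
    rwa [← hxy, one_mul]

theorem IsPPart.pow {p : ℕ} (hp : p.Prime) {g x : G} (h : IsPPart p g x) (l : ℕ) :
    IsPPart p (g ^ l) (x ^ l) := by
  obtain ⟨v, hv, hvc, ⟨k, hk⟩, hv'⟩ := h
  obtain ⟨a, -, ha⟩ := (Nat.dvd_prime_pow hp).1 (hk ▸ orderOf_pow_dvd (x := x) l)
  exact ⟨v ^ l, by rw [← hvc.mul_pow, hv], hvc.pow_pow _ _, ⟨a, ha⟩,
    fun hd => hv' (hd.trans (orderOf_pow_dvd _))⟩

theorem pow_inj_of_orderOf {p k k' l : ℕ} (hp : p.Prime) {a b : G} (ha : orderOf a = p ^ k)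
    (hb : orderOf b = p ^ k') (hl : ¬ p ∣ l) (h : a ^ l = b ^ l) : a = b := by
  have hcop : Nat.Coprime l (p ^ (k + k')) := Nat.Coprime.pow_right _ ((hp.coprime_iff_not_dvd.2 hl).symm)
  obtain ⟨u, hu0, hu1⟩ := Nat.chineseRemainder hcop 0 1
  obtain ⟨s, rfl⟩ := Nat.modEq_zero_iff_dvd.1 hu0
  have key : ∀ (c : G) (i : ℕ), i ≤ k + k' → orderOf c = p ^ i → (c ^ l) ^ s = c := by
    intro c i hi hc
    rw [← pow_mul]
    conv_rhs => rw [← pow_one c]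
    rw [pow_eq_pow_iff_modEq, hc]
    exact hu1.of_dvd (pow_dvd_pow p hi)
  rw [← key a k (Nat.le_add_right _ _) ha, h, key b k' (Nat.le_add_left _ _) hb]

end CfsgLib.Blocks
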