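import Cfsg.Agent.Lib.Blocks.Trace
import Cfsg.Agent.Lib.Blocks.PPart

/-!
# Class sums of an idempotent times a group element
-/

set_option autoImplicit false

namespace CfsgLib.Blocks

open Cfsg Matrix

variable {R F G : Type*} [CommRing R] [IsDomain R] [Field F] [Group G] [Fintype G]

/-- If `e` is an idempotent of the group ring commuting with `h`, and `e` vanishes in the residue
field on the centralizer of the `p`-part of `h` whenever the `p`-parts of `c⁻¹` and `h` are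
conjugate, then the sum of the coefficients of `h⁻¹`-translated `e` over a class vanishes. -/
theorem sum_conj_coeff_eq_zero (f : R →+* F) (hf : ∀ r, f r ≠ 0 → IsUnit r) {p : ℕ}
    (hp : p.Prime) {η : R} (hη : η ^ p = 1) (hη1 : η ≠ 1) (hηf : f η = 1)
    (e : G → R) (he : ∀ g, ∑ y, e y * e (y⁻¹ * g) = e g) (h c : G)
    (hcomm : ∀ g, e (h⁻¹ * g * h) = e g)
    (hz : ∀ z w, IsPPart p h z → IsPPart p c w → IsConj w z⁻¹ →
      ∀ k, Commute k z → f (e k) = 0) :
    ∑ x, e (h⁻¹ * x⁻¹ * c⁻¹ * x) = 0 := by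
  classical
  let σ : Equiv.Perm G := (Equiv.mulLeft c).trans (Equiv.mulRight h)
  have hσ : ∀ x, σ x = c * x * h := fun x => rfl
  have hσpow : ∀ (j : ℕ) x, (σ ^ j) x = c ^ j * x * h ^ j := by
    intro j
    induction j with
    | zero => simp
    | succ j ih =>
      intro x
      rw [pow_succ', Equiv.Perm.mul_apply, ih, hσ, pow_succ', pow_succ h]
      simp only [mul_assoc]
  let Φ : Set G := {x | ∃ j : ℕ, ¬ p ∣ j ∧ (σ ^ j) x = x}
  have hΦ : ∀ x, σ x ∈ Φ ↔ x ∈ Φ := by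
    intro x
    have : ∀ j : ℕ, (σ ^ j) (σ x) = σ x ↔ (σ ^ j) x = x := by
      intro j
      rw [← Equiv.Perm.mul_apply, ← pow_succ, pow_succ', Equiv.Perm.mul_apply]
      exact σ.injective.eq_iff
    simp only [Φ, Set.mem_setOf_eq, this]
  have hper : ∀ x, x ∉ Φ → ∀ j : ℕ, (σ ^ j) x = x → p ∣ j := by
    intro x hx j hj
    by_contra hpj
    exact hx ⟨j, hpj, hj⟩
  let E : Matrix G G R := fun x y => e (x⁻¹ * y)
  have hE : E * E = E := by
    ext x w
    rw [Matrix.mul_apply]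
    calc ∑ y, e (x⁻¹ * y) * e (y⁻¹ * w) = ∑ u, e u * e (u⁻¹ * (x⁻¹ * w)) := by
          refine Fintype.sum_equiv (Equiv.mulLeft x⁻¹) _ _ fun y => ?_
          simp [mul_assoc]
      _ = e (x⁻¹ * w) := he _
  have hEσ : ∀ x y, E (σ x) (σ y) = E x y := by
    intro x y
    simp only [E, hσ]
    rw [show (c * x * h)⁻¹ * (c * y * h) = h⁻¹ * (x⁻¹ * y) * h by group]
    exact hcomm _
  have hEΦ : ∀ x ∈ Φ, ∀ y ∈ Φ, f (E x y) = 0 := by
    rintro x ⟨i, hi, hxi⟩ y ⟨j, hj, hyj⟩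
    obtain ⟨z, hz'⟩ := exists_isPPart hp h
    obtain ⟨w, hw'⟩ := exists_isPPart hp c
    have hfix : ∀ (u : G) (a b : ℕ), (σ ^ a) u = u → (σ ^ (a * b)) u = u := by
      intro u a b hu
      rw [pow_mul]
      exact (σ ^ a).pow_apply_eq_self_of_apply_eq_self hu b
    have hx := hfix x i j hxi
    have hy := hfix y j i hyj
    rw [hσpow] at hx
    rw [mul_comm j i, hσpow] at hy
    have hl : ¬ p ∣ i * j := fun hd => (hp.dvd_mul.1 hd).elim hi hj
    have hx' : x⁻¹ * c ^ (i * j) * x = (h ^ (i * j))⁻¹ := by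
      apply eq_inv_of_mul_eq_one_left
      rw [show x⁻¹ * c ^ (i * j) * x * h ^ (i * j) = x⁻¹ * (c ^ (i * j) * x * h ^ (i * j)) by
        group, hx, inv_mul_cancel]
    have hy' : y⁻¹ * c ^ (i * j) * y = (h ^ (i * j))⁻¹ := by
      apply eq_inv_of_mul_eq_one_left
      rw [show y⁻¹ * c ^ (i * j) * y * h ^ (i * j) = y⁻¹ * (c ^ (i * j) * y * h ^ (i * j)) by
        group, hy, inv_mul_cancel]
    apply hz z w hz' hw'
    · rw [isConj_iff]
      refine ⟨x⁻¹, ?_⟩
      have hw1 : IsPPart p (x⁻¹ * c * x) (x⁻¹ * w * x) := by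
        simpa using IsPPart.conj hw' x⁻¹
      have hcp : (x⁻¹ * c * x) ^ (i * j) = h⁻¹ ^ (i * j) := by
        rw [inv_pow, ← hx']
        exact (show x⁻¹ * c * x = MulAut.conj x⁻¹ c by simp) ▸ (by rw [← map_pow]; simp)
      have h1 := IsPPart.pow hp hw1 (i * j)
      rw [hcp] at h1
      have h3 := IsPPart.unique hp h1 (IsPPart.pow hp (IsPPart.inv hz') (i * j))
      obtain ⟨-, -, -, ⟨k, hk⟩, -⟩ := hw1
      obtain ⟨-, -, -, ⟨k', hk'⟩, -⟩ := IsPPart.inv hz'
      simpa using pow_inj_of_orderOf hp hk hk' hl h3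
    · obtain ⟨n, hn⟩ := IsPPart.eq_pow hp hz' hl
      rw [← hn]
      refine (Commute.pow_right ?_ n)
      rw [← Commute.inv_right_iff, ← hx']
      show x⁻¹ * y * (x⁻¹ * c ^ (i * j) * x) = x⁻¹ * c ^ (i * j) * x * (x⁻¹ * y)
      conv_lhs => rw [hx', ← hy']
      group
  have key := sum_apply_perm_eq_zero f hf hp.pos hη hη1 hηf σ Φ hΦ hper E hE hEσ hEΦ
  convert key using 2 with x
  simp only [E, hσ]
  congr 1
  group

end CfsgLib.Blocks
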