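import Cfsg.Agent.Lib.Blocks.ClassSum

/-!
# The Brauer map

For a `p`-subgroup `P` and a subgroup `H` containing the centralizer of `P`, truncation to the
centralizer, with values in the group algebra of `H`, is multiplicative on the elements of the
group algebra (in characteristic `p`) whose coefficients are invariant under conjugation by `P`.
-/

set_option autoImplicit false

namespace CfsgLib.Blocks

open scoped Classical

universe u v

variable {R : Type v} [CommRing R] {G : Type u} [Group G] [Finite G]

/-- Truncation to the centralizer of `P`, read in the group algebra of `H`. -/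
noncomputable def brTo (P H : Subgroup G) (a : MonoidAlgebra R G) : MonoidAlgebra R H :=
  ofFun fun h => if (h : G) ∈ Subgroup.centralizer (P : Set G) then a.coeff h else 0

@[simp] lemma coeff_brTo (P H : Subgroup G) (a : MonoidAlgebra R G) (h : H) :
    (brTo P H a).coeff h =
      if (h : G) ∈ Subgroup.centralizer (P : Set G) then a.coeff h else 0 := rfl

lemma brTo_add (P H : Subgroup G) (a b : MonoidAlgebra R G) :
    brTo P H (a + b) = brTo P H a + brTo P H b := by
  ext h; by_cases hc : (h : G) ∈ Subgroup.centralizer (P : Set G) <;> simp [hc]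

lemma brTo_smul (P H : Subgroup G) (r : R) (a : MonoidAlgebra R G) :
    brTo P H (r • a) = r • brTo P H a := by
  ext h; by_cases hc : (h : G) ∈ Subgroup.centralizer (P : Set G) <;> simp [hc]

@[simp] lemma brTo_zero (P H : Subgroup G) : brTo P H (0 : MonoidAlgebra R G) = 0 := by
  ext h; simp

lemma brTo_sum {ι : Type*} (P H : Subgroup G) (s : Finset ι) (a : ι → MonoidAlgebra R G) :
    brTo P H (∑ i ∈ s, a i) = ∑ i ∈ s, brTo P H (a i) := by
  induction s using Finset.induction with
  | empty => simp
  | insert i s hi ih => rw [Finset.sum_insert hi, Finset.sum_insert hi, brTo_add, ih]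

@[simp] lemma brTo_one (P H : Subgroup G) : brTo P H (1 : MonoidAlgebra R G) = 1 := by
  ext h
  by_cases hh : h = 1
  · subst hh; simp [Subgroup.one_mem]
  · have : (h : G) ≠ 1 := by simpa using hh
    simp [MonoidAlgebra.one_def, Finsupp.single_eq_of_ne hh, Finsupp.single_eq_of_ne this]

lemma conj_eq_self_of_mem_centralizer {P : Subgroup G} {u c : G} (hu : u ∈ P)
    (hc : c ∈ Subgroup.centralizer (P : Set G)) : u * c * u⁻¹ = c := by
  rw [Subgroup.mem_centralizer_iff.1 hc u hu, mul_inv_cancel_right]

variable {p : ℕ} [Fact p.Prime] [CharP R p]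

/-- The coefficient at an element centralizing the `p`-group `P` of a product of `P`-invariant
elements only sees the factors centralizing `P`. -/
lemma coeff_mul_eq_sum_centralizer [Fintype G] {P : Subgroup G} (hP : IsPGroup p P)
    {a b : MonoidAlgebra R G} (ha : ConjFixed P a) (hb : ConjFixed P b) {c : G}
    (hc : c ∈ Subgroup.centralizer (P : Set G)) :
    (a * b).coeff c =
      ∑ x ∈ Finset.univ.filter (fun x : G => x ∈ Subgroup.centralizer (P : Set G)),
        a.coeff x * b.coeff (x⁻¹ * c) := by
  letI : MulAction P G := MulAction.compHom G ((ConjAct.toConjAct : G ≃* ConjAct G).toMonoidHom.comp P.subtype)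
  have hsm : ∀ (u : P) (x : G), u • x = (u : G) * x * (u : G)⁻¹ := fun u x =>
    ConjAct.smul_def (ConjAct.toConjAct (u : G)) x
  rw [coeff_mul_group, sum_eq_sum_fixed hP]
  · refine Finset.sum_congr (Finset.filter_congr fun x _ => ?_) fun x _ => rfl
    constructor
    · intro hx
      rw [Subgroup.mem_centralizer_iff]
      intro u hu
      have h1 := hx ⟨u, hu⟩
      rw [hsm] at h1
      calc u * x = u * x * u⁻¹ * u := by group
        _ = x * u := by rw [h1]
    · intro hx u
      rw [hsm]
      exact conj_eq_self_of_mem_centralizer u.2 hx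
  · intro u x
    rw [hsm, ha _ u.2 x]
    congr 1
    have e : ((u : G) * x * (u : G)⁻¹)⁻¹ * c
        = (u : G) * (x⁻¹ * c) * (u : G)⁻¹ := by
      conv_lhs => rw [← conj_eq_self_of_mem_centralizer u.2 hc]
      group
    rw [e]
    exact hb _ u.2 _

/-- The Brauer map is multiplicative. -/
theorem brTo_mul {P H : Subgroup G} (hP : IsPGroup p P)
    (hH : Subgroup.centralizer (P : Set G) ≤ H) {a b : MonoidAlgebra R G}
    (ha : ConjFixed P a) (hb : ConjFixed P b) :
    brTo P H (a * b) = brTo P H a * brTo P H b := by
  haveI := Fintype.ofFinite G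
  ext h
  rw [coeff_mul_group (brTo P H a) (brTo P H b) h, coeff_brTo]
  by_cases hc : (h : G) ∈ Subgroup.centralizer (P : Set G)
  · rw [if_pos hc, coeff_mul_eq_sum_centralizer hP ha hb hc]
    refine (Finset.sum_bij_ne_zero (fun (x : H) _ _ => (x : G)) ?_ ?_ ?_ ?_).symm
    · intro x _ hne
      simp only [coeff_brTo] at hne
      by_cases hx : (x : G) ∈ Subgroup.centralizer (P : Set G)
      · simp [hx]
      · simp [hx] at hne
    · intro x _ _ y _ _ hxy; exact Subtype.ext hxy
    · intro x hx hne
      simp only [Finset.mem_filter, Finset.mem_univ, true_and] at hx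
      refine ⟨⟨x, hH hx⟩, Finset.mem_univ _, ?_, rfl⟩
      have h2 : x⁻¹ * (h : G) ∈ Subgroup.centralizer (P : Set G) := mul_mem (inv_mem hx) hc
      simpa [coeff_brTo, hx, h2] using hne
    · intro x _ hne
      simp only [coeff_brTo] at hne ⊢
      by_cases hx : (x : G) ∈ Subgroup.centralizer (P : Set G)
      · have h2 : (x : G)⁻¹ * (h : G) ∈ Subgroup.centralizer (P : Set G) := mul_mem (inv_mem hx) hc
        simp [hx, h2]
      · simp [hx] at hne
  · rw [if_neg hc]
    refine (Finset.sum_eq_zero fun x _ => ?_).symm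
    simp only [coeff_brTo]
    by_cases hx : (x : G) ∈ Subgroup.centralizer (P : Set G)
    · have h2 : ¬ (x : G)⁻¹ * (h : G) ∈ Subgroup.centralizer (P : Set G) := by
        intro h2
        exact hc (by simpa using mul_mem hx h2)
      simp [h2]
    · simp [hx]

/-- Conjugation by an element normalizing `P` fixes its centralizer. -/
lemma conj_mem_centralizer_iff {P : Subgroup G} {n : G}
    (hn : n ∈ Subgroup.normalizer (P : Set G)) (x : G) :
    n * x * n⁻¹ ∈ Subgroup.centralizer (P : Set G) ↔ x ∈ Subgroup.centralizer (P : Set G) := by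
  have key : ∀ m ∈ Subgroup.normalizer (P : Set G), ∀ y ∈ Subgroup.centralizer (P : Set G),
      m * y * m⁻¹ ∈ Subgroup.centralizer (P : Set G) := by
    intro m hm y hy
    rw [Subgroup.mem_centralizer_iff]
    intro u hu
    have h1 : m⁻¹ * u * m ∈ P := (Subgroup.mem_normalizer_iff''.1 hm u).1 hu
    have h2 := Subgroup.mem_centralizer_iff.1 hy _ h1
    calc u * (m * y * m⁻¹) = m * ((m⁻¹ * u * m) * y) * m⁻¹ := by group
      _ = m * (y * (m⁻¹ * u * m)) * m⁻¹ := by rw [h2]
      _ = m * y * m⁻¹ * u := by group
  refine ⟨fun h => ?_, key n hn x⟩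
  have h2 := key n⁻¹ (inv_mem hn) _ h
  simpa [mul_assoc] using h2

omit [Fact p.Prime] [CharP R p] in
/-- The Brauer image of a central element is central. -/
lemma brTo_mem_center {P H : Subgroup G} (hN : H ≤ Subgroup.normalizer (P : Set G))
    {a : MonoidAlgebra R G} (ha : a ∈ Subalgebra.center R (MonoidAlgebra R G)) :
    brTo P H a ∈ Subalgebra.center R (MonoidAlgebra R H) := by
  rw [mem_center_iff_conjFixed]
  intro u _ x
  simp only [coeff_brTo, Subgroup.coe_mul, InvMemClass.coe_inv]
  refine if_congr (conj_mem_centralizer_iff (hN u.2) x) ?_ rfl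
  exact (((mem_center_iff_conjFixed a).1 ha) u trivial x)

omit [Fact p.Prime] [CharP R p] in
lemma brTo_ne_zero_iff {P H : Subgroup G} (hH : Subgroup.centralizer (P : Set G) ≤ H)
    (a : MonoidAlgebra R G) :
    brTo P H a ≠ 0 ↔ ∃ c ∈ Subgroup.centralizer (P : Set G), a.coeff c ≠ 0 := by
  constructor
  · intro h
    by_contra hh
    push_neg at hh
    apply h
    ext x
    by_cases hc : (x : G) ∈ Subgroup.centralizer (P : Set G) <;> simp [hc, hh]
  · rintro ⟨c, hc, hne⟩ h
    apply hne
    have h1 := congrArg (fun z : MonoidAlgebra R H => z.coeff ⟨c, hH hc⟩) h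
    simpa [hc] using h1

omit [Fact p.Prime] [CharP R p] in
lemma coeff_brTo_classSum (P H : Subgroup G) (g : G) (h : H) :
    (brTo P H (classSum R g)).coeff h =
      if IsConj g (h : G) ∧ (h : G) ∈ Subgroup.centralizer (P : Set G) then 1 else 0 := by
  by_cases hc : (h : G) ∈ Subgroup.centralizer (P : Set G) <;> simp [hc, -isConj_iff]

end CfsgLib.Blocks
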