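import Cfsg.Agent.Lib.Blocks.Osima
import Mathlib.Algebra.MonoidAlgebra.MapDomain

/-!
# Restriction of central elements to a subgroup and induced blocks
-/

set_option autoImplicit false

namespace CfsgLib.Blocks

open Cfsg CfsgLib.Char
open scoped Classical

universe u v w

variable {G : Type u} [Group G] [Finite G] {R : Type v} [CommRing R] {S : Type w} [CommRing S]

/-- Restriction of coefficients from the centre of `R[G]` to the centre of `R[H]`. -/
noncomputable def resCenter (H : Subgroup G) :
    Subalgebra.center R (MonoidAlgebra R G) →ₗ[R] Subalgebra.center R (MonoidAlgebra R H) where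
  toFun a := ⟨ofFun fun h => (a : MonoidAlgebra R G).coeff h,
    ofFun_mem_center fun u x => (coeff_eq_of_isConj a.2
      (isConj_iff.2 ⟨(u : G), by simp⟩ : IsConj (x : G) ((u * x * u⁻¹ : H) : G))).symm⟩
  map_add' a b := Subtype.ext (MonoidAlgebra.ext (Finsupp.ext fun h => by simp))
  map_smul' r a := Subtype.ext (MonoidAlgebra.ext (Finsupp.ext fun h => by simp))

@[simp] theorem coeff_resCenter (H : Subgroup G) (a : Subalgebra.center R (MonoidAlgebra R G))
    (h : H) : (resCenter H a : MonoidAlgebra R H).coeff h = (a : MonoidAlgebra R G).coeff h := by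
  simp [resCenter]

theorem mapCenter_resCenter (f : R →+* S) (H : Subgroup G)
    (a : Subalgebra.center R (MonoidAlgebra R G)) :
    mapCenter f (resCenter H a) = resCenter H (mapCenter f a) :=
  Subtype.ext (MonoidAlgebra.ext (Finsupp.ext fun h => by simp [coe_mapCenter]))

theorem inducedCentralChar_conj (H : Subgroup G) (ξ : H → ℂ) (u x : G) :
    inducedCentralChar H ξ (u * x * u⁻¹) = inducedCentralChar H ξ x := by
  have : {h : H | IsConj (u * x * u⁻¹) (h : G)} = {h : H | IsConj x (h : G)} := by
    ext h
    have hc : IsConj x (u * x * u⁻¹) := isConj_iff.2 ⟨u, rfl⟩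
    exact ⟨fun hh => hc.trans hh, fun hh => hc.symm.trans hh⟩
  rw [inducedCentralChar, inducedCentralChar, this]

/-- The induced central character is the central character of the restricted class sum. -/
theorem omega_resCenter_classSumC (H : Subgroup G) (ξ : IrrCharacter H) (g : G) :
    omega ξ (resCenter H (classSumC ℂ g)) = inducedCentralChar H (ξ : H → ℂ) g := by
  haveI := Fintype.ofFinite H
  rw [omega_eq_sum, inducedCentralChar, finsum_mem_def, finsum_eq_sum_of_fintype, Finset.sum_div]
  refine Finset.sum_congr rfl fun h _ => ?_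
  rw [coeff_resCenter, coe_classSumC, coeff_classSum, Set.indicator_apply]
  by_cases hh : IsConj g (h : G)
  · simp [hh, -isConj_iff]
  · simp [hh, -isConj_iff]

theorem center_eq_sum_classSumC (a : Subalgebra.center R (MonoidAlgebra R G)) :
    a = ∑ C : ConjClasses G, (a : MonoidAlgebra R G).coeff (Quotient.out C) •
      classSumC R (Quotient.out C) := by
  apply Subtype.ext
  rw [AddSubmonoidClass.coe_finsetSum]
  exact center_eq_sum_classSum a.2

theorem omega_resCenter (H : Subgroup G) (ξ : IrrCharacter H)
    (a : Subalgebra.center ℂ (MonoidAlgebra ℂ G)) :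
    omega ξ (resCenter H a)
      = classEval (inducedCentralChar H (ξ : H → ℂ)) (a : MonoidAlgebra ℂ G) := by
  conv_lhs => rw [center_eq_sum_classSumC a]
  simp [map_sum, classEval, omega_resCenter_classSumC]

variable {M : Ideal AlgInt}

theorem inducedCentralChar_mem [M.IsPrime] (H : Subgroup G) (ξ : IrrCharacter H) (g : G) :
    inducedCentralChar H (ξ : H → ℂ) g ∈ locRing M := by
  have h : ((lamR M ξ (resCenter H (classSumC (locRing M) g)) : locRing M) : ℂ)
      = inducedCentralChar H (ξ : H → ℂ) g := by
    rw [coe_lamR, mapCenter_resCenter, mapCenter_classSumC, omega_resCenter_classSumC]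
  rw [← h]
  exact SetLike.coe_mem _

/-- The induced central character as an element of the local ring. -/
noncomputable def inducedR (M : Ideal AlgInt) [M.IsPrime] (H : Subgroup G) (ξ : IrrCharacter H)
    (g : G) : locRing M :=
  ⟨inducedCentralChar H (ξ : H → ℂ) g, inducedCentralChar_mem H ξ g⟩

@[simp] theorem coe_inducedR [M.IsPrime] (H : Subgroup G) (ξ : IrrCharacter H) (g : G) :
    (inducedR M H ξ g : ℂ) = inducedCentralChar H (ξ : H → ℂ) g := rfl

theorem lamR_resCenter [M.IsPrime] (H : Subgroup G) (ξ : IrrCharacter H)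
    (a : Subalgebra.center (locRing M) (MonoidAlgebra (locRing M) G)) :
    lamR M ξ (resCenter H a) = classEval (inducedR M H ξ) (a : MonoidAlgebra (locRing M) G) := by
  apply Subtype.ext
  rw [coe_lamR, mapCenter_resCenter, omega_resCenter]
  exact (classEval_map (locRing M).subtype (inducedR M H ξ) _).symm

theorem lam_resCenter [M.IsMaximal] (H : Subgroup G) (ξ : IrrCharacter H)
    (a : Subalgebra.center (ResField M) (MonoidAlgebra (ResField M) G)) :
    lam M ξ (resCenter H a) = classEval (fun g => red M (inducedR M H ξ g))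
      (a : MonoidAlgebra (ResField M) G) := by
  obtain ⟨b, rfl⟩ := mapCenter_surjective (red_surjective (M := M)) a
  rw [← mapCenter_resCenter, lam_mapCenter, lamR_resCenter, classEval_map, coe_mapCenter]

theorem lam_resCenter_classSumC [M.IsMaximal] (H : Subgroup G) (ξ : IrrCharacter H) (g : G) :
    lam M ξ (resCenter H (classSumC (ResField M) g)) = red M (inducedR M H ξ g) := by
  rw [lam_resCenter, coe_classSumC, classEval_classSum]
  intro u x
  congr 1
  exact Subtype.ext (inducedCentralChar_conj H (ξ : H → ℂ) u x)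

/-- Agreement of the induced central character with a central character, on the whole centre. -/
theorem forall_memLocalIdeal_iff_lam_resCenter [M.IsMaximal] (H : Subgroup G)
    (ξ : IrrCharacter H) (χ : IrrCharacter G) :
    (∀ g : G, MemLocalIdeal M
        (inducedCentralChar H (ξ : H → ℂ) g - centralChar (χ : G → ℂ) g))
      ↔ ∀ a : Subalgebra.center (ResField M) (MonoidAlgebra (ResField M) G),
          lam M ξ (resCenter H a) = lam M χ a := by
  constructor
  · intro h a
    rw [lam_resCenter, lam_apply]
    unfold classEval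
    refine Finset.sum_congr rfl fun C _ => ?_
    congr 1
    exact (memLocalIdeal_sub_iff (x := inducedR M H ξ (Quotient.out C))
      (y := centralR M χ (Quotient.out C))).1 (h _)
  · intro h g
    refine (memLocalIdeal_sub_iff (x := inducedR M H ξ g) (y := centralR M χ g)).2 ?_
    rw [← lam_resCenter_classSumC, h, lam_classSumC]

/-- Induced blocks in terms of the algebra homomorphisms. -/
theorem IsInducedBlock.lam_resCenter_eq [M.IsMaximal] {H : Subgroup G}
    {b : Set (IrrCharacter H)} {B : Set (IrrCharacter G)} (hind : IsInducedBlock M H b B)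
    {ξ : IrrCharacter H} (hξ : ξ ∈ b) {χ : IrrCharacter G} (hχ : χ ∈ B)
    (a : Subalgebra.center (ResField M) (MonoidAlgebra (ResField M) G)) :
    lam M ξ (resCenter H a) = lam M χ a :=
  (forall_memLocalIdeal_iff_lam_resCenter H ξ χ).1 (hind.2.2 ξ hξ χ hχ) a

theorem isInducedBlock_of_lam_resCenter_eq [M.IsMaximal] {H : Subgroup G}
    (ξ : IrrCharacter H) (χ : IrrCharacter G)
    (h : ∀ a, lam M ξ (resCenter H a) = lam M χ a) :
    IsInducedBlock M H (blockOf M (ξ : H → ℂ)) (blockOf M (χ : G → ℂ)) := by
  refine ⟨isPBlock_blockOf ξ, isPBlock_blockOf χ, fun ξ' hξ' χ' hχ' => ?_⟩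
  rw [forall_memLocalIdeal_iff_lam_resCenter]
  intro a
  rw [← mem_blockOf_iff.1 hξ', ← mem_blockOf_iff.1 hχ', h]

/-- A block induces at most one block. -/
theorem IsInducedBlock.unique [M.IsMaximal] {H : Subgroup G} {b : Set (IrrCharacter H)}
    {B B' : Set (IrrCharacter G)} (h : IsInducedBlock M H b B) (h' : IsInducedBlock M H b B') :
    B = B' := by
  obtain ⟨ξ, hξ⟩ := IsPBlock.nonempty h.1
  obtain ⟨χ, hχ⟩ := IsPBlock.nonempty h.2.1
  obtain ⟨χ', hχ'⟩ := IsPBlock.nonempty h'.2.1
  refine IsPBlock.eq_of_mem h.2.1 h'.2.1 hχ ((IsPBlock.mem_iff h'.2.1 hχ').2 (AlgHom.ext fun a => ?_))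
  rw [← IsInducedBlock.lam_resCenter_eq h' hξ hχ', IsInducedBlock.lam_resCenter_eq h hξ hχ]

/-- The idempotent of a block `B` restricted to `H` is `1` exactly for the blocks inducing `B`. -/
theorem IsInducedBlock.lam_resCenter_blockIdem [M.IsMaximal] {H : Subgroup G}
    {b : Set (IrrCharacter H)} {B B' : Set (IrrCharacter G)} (hind : IsInducedBlock M H b B)
    (hB' : IsPBlock M B') {ξ : IrrCharacter H} (hξ : ξ ∈ b) :
    lam M ξ (resCenter H (blockIdem hB')) = if B = B' then 1 else 0 := by
  obtain ⟨χ, hχ⟩ := IsPBlock.nonempty hind.2.1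
  rw [IsInducedBlock.lam_resCenter_eq hind hξ hχ, lam_blockIdem, blockInd]
  refine if_congr ⟨fun h => ?_, fun h => h ▸ hχ⟩ rfl rfl
  exact IsPBlock.eq_of_mem hind.2.1 hB' hχ h

end CfsgLib.Blocks
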