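import Cfsg.Agent.Lib.Blocks.GroupTrace
import Cfsg.Agent.Lib.Blocks.Restrict
import Cfsg.Agent.Lib.Blocks.BrauerMap
import Cfsg.Agent.Lib.BlockReg.Foundation
import Mathlib.RingTheory.RootsOfUnity.Complex

/-!
# Block orthogonality on `p`-sections and Nagao's form of the second main theorem
-/

set_option autoImplicit false

namespace CfsgLib.Blocks

open Cfsg CfsgLib.Char
open scoped ComplexConjugate Classical

universe u

variable {G : Type u} [Group G] [Finite G] {M : Ideal AlgInt} [M.IsMaximal]

omit [Finite G] in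
theorem exists_root_red_one {p : ℕ} (hp : p.Prime) (hmem : (p : AlgInt) ∈ M) :
    ∃ η : locRing M, η ^ p = 1 ∧ η ≠ 1 ∧ red M η = 1 := by
  have hζ := Complex.isPrimitiveRoot_exp p hp.ne_zero
  have hint : IsIntegral ℤ (Complex.exp (2 * Real.pi * Complex.I / p)) :=
    IsIntegral.of_pow hp.pos (by rw [hζ.pow_eq_one]; exact isIntegral_one)
  refine ⟨⟨_, isIntegral_mem_locRing hint⟩, ?_, ?_, ?_⟩
  · exact Subtype.ext (by simpa using hζ.pow_eq_one)
  · intro h
    exact hζ.ne_one hp.one_lt (congrArg Subtype.val h)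
  · refine red_eq_one_of_pow_prime_pow hp hmem (k := 1) ?_
    rw [pow_one]
    exact Subtype.ext (by simpa using hζ.pow_eq_one)

/-- **Block orthogonality**: columns in different `p`-sections are orthogonal on every block. -/
theorem block_orthogonality_section {p : ℕ} (hp : p.Prime) (hmem : (p : AlgInt) ∈ M)
    {B : Set (IrrCharacter G)} (hB : IsPBlock M B) {g h x y : G} (hx : IsPPart p g x)
    (hy : IsPPart p h y) (hxy : ¬ IsConj x y) :
    ∑ᶠ χ ∈ B, (χ : G → ℂ) g * (χ : G → ℂ) h⁻¹ = 0 := by
  haveI := Fintype.ofFinite G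
  obtain ⟨η, hη, hη1, hηf⟩ := exists_root_red_one (M := M) hp hmem
  set e : G → locRing M := fun k => (blockIdemR hB : MonoidAlgebra (locRing M) G).coeff k
  have he : ∀ k, ∑ t, e t * e (t⁻¹ * k) = e k := by
    intro k
    rw [← coeff_mul_group, ← Subalgebra.coe_mul, (isIdempotentElem_blockIdemR hB).eq]
  have hcomm : ∀ k, e (g⁻¹ * k * g) = e k := fun k =>
    (coeff_eq_of_isConj (blockIdemR hB).2 (isConj_iff.2 ⟨g⁻¹, by simp⟩ :
      IsConj k (g⁻¹ * k * g))).symm
  have key := sum_conj_coeff_eq_zero (red M) (fun r hr => isUnit_of_red_ne_zero hr) hp hη hη1 hηf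
    e he g h⁻¹ hcomm (by
      intro z w hz hw hwz
      exfalso
      have hz' := IsPPart.unique hp hz hx
      have hw' := IsPPart.unique hp hw (IsPPart.inv hy)
      rw [hz', hw'] at hwz
      obtain ⟨c, hc⟩ := isConj_iff.1 hwz
      apply hxy
      refine (isConj_iff.2 ⟨c, ?_⟩ : IsConj y x).symm
      rw [← inv_inj, ← hc]
      group)
  have key2 : ∑ t, blockCoeff B (g⁻¹ * t⁻¹ * h * t) = 0 := by
    have := congrArg Subtype.val key
    simpa [e, coe_coeff_blockIdemR] using this
  rw [finsum_mem_def, finsum_eq_sum_of_fintype]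
  simp only [blockCoeff_eq_sum] at key2
  rw [← Finset.mul_sum, mul_eq_zero] at key2
  replace key2 := key2.resolve_left (by simp)
  rw [Finset.sum_comm] at key2
  have hval : ∀ χ : IrrCharacter G,
      ∑ t, blockInd B χ * ((χ : G → ℂ) 1 * conj ((χ : G → ℂ) (g⁻¹ * t⁻¹ * h * t)))
        = blockInd B χ * ((Nat.card G : ℂ) * ((χ : G → ℂ) g * (χ : G → ℂ) h⁻¹)) := by
    intro χ
    rw [← Finset.mul_sum]
    congr 1
    have h1 := IsIrrCharacter.apply_one_ne_zero χ.2
    rw [← Finset.mul_sum, ← map_sum]
    simp only [mul_assoc g⁻¹]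
    rw [BlockReg.sum_char_mul_conj χ g⁻¹ h]
    have e1 : conj ((χ : G → ℂ) 1) = (χ : G → ℂ) 1 := by
      rw [← IsIrrCharacter.apply_inv χ.2, inv_one]
    rw [map_div₀, map_mul, map_mul, map_natCast, ← IsIrrCharacter.apply_inv χ.2,
      ← IsIrrCharacter.apply_inv χ.2, inv_inv, e1]
    field_simp
  simp only [hval] at key2
  calc ∑ χ : IrrCharacter G, Set.indicator B (fun χ => (χ : G → ℂ) g * (χ : G → ℂ) h⁻¹) χ
      = (Nat.card G : ℂ)⁻¹ * ∑ χ : IrrCharacter G,
          blockInd B χ * ((Nat.card G : ℂ) * ((χ : G → ℂ) g * (χ : G → ℂ) h⁻¹)) := by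
        rw [Finset.mul_sum]
        refine Finset.sum_congr rfl fun χ _ => ?_
        by_cases hχ : χ ∈ B <;> simp [blockInd, hχ]
    _ = 0 := by rw [key2, mul_zero]

/-- The block idempotent fixes the translates of the characters of the block. -/
theorem sum_blockCoeff_mul_char_translate [Fintype G] {B : Set (IrrCharacter G)}
    (hB : IsPBlock M B) {χ : IrrCharacter G} (hχ : χ ∈ B) (g : G) :
    ∑ t, blockCoeff B t * (χ : G → ℂ) (t * g) = (χ : G → ℂ) g := by
  obtain ⟨n, ρ, hρ, hρχ⟩ := χ.2
  haveI := hρ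
  have hf : Cfsg.IsClassFunction G (blockCoeff B) := fun x u => blockCoeff_conj B u x
  obtain ⟨c, hc, hc'⟩ := exists_scalar_sum_smul ρ (blockCoeff B) hf
  have h1 : (∑ g, blockCoeff B g * (χ : G → ℂ) g) / (χ : G → ℂ) 1 = 1 := by
    have h := omega_idemC B χ
    rw [omega_eq_sum, blockInd, if_pos hχ] at h
    simpa using h
  have hn : (Module.finrank ℂ (Fin n → ℂ) : ℂ) ≠ 0 := by
    exact_mod_cast (finrank_pos_of_isIrreducible ρ).ne'
  rw [← hρχ, Representation.char_one, ← hc', mul_div_cancel_right₀ _ hn] at h1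
  have h2 := congrArg (fun T => LinearMap.trace ℂ (Fin n → ℂ) (T * ρ g)) hc
  rw [← hρχ]
  simpa [Finset.sum_mul, map_sum, Representation.character, h1, map_mul] using h2

/-- An idempotent of the group ring over the local ring commuting with `h` and vanishing modulo `M`
on the centralizer of the `p`-part of `h` is killed, times `h`, by every class function. -/
theorem sum_coeff_mul_classFun_eq_zero [Fintype G] {p : ℕ} (hp : p.Prime)
    (hmem : (p : AlgInt) ∈ M) (e : MonoidAlgebra (locRing M) G) (he : IsIdempotentElem e)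
    {h z : G} (hz : IsPPart p h z)
    (hcomm : ∀ k, e.coeff (h⁻¹ * k * h) = e.coeff k)
    (hvan : ∀ k, Commute k z → red M (e.coeff k) = 0)
    {θ : G → ℂ} (hθ : IsClassFunction G θ) :
    ∑ k, (e.coeff k : ℂ) * θ (k * h) = 0 := by
  obtain ⟨η, hη, hη1, hηf⟩ := exists_root_red_one (M := M) hp hmem
  have he' : ∀ k, ∑ t, e.coeff t * e.coeff (t⁻¹ * k) = e.coeff k := by
    intro k
    rw [← coeff_mul_group, he.eq]
  have key : ∀ c, ∑ x, (e.coeff (h⁻¹ * (x⁻¹ * c * x)) : ℂ) = 0 := by
    intro c
    have := sum_conj_coeff_eq_zero (red M) (fun r hr => isUnit_of_red_ne_zero hr) hp hη hη1 hηf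
      (fun k => e.coeff k) he' h c⁻¹ hcomm (fun z' w hz' _ _ => by
        rw [IsPPart.unique hp hz' hz]; exact hvan)
    simpa [mul_assoc] using congrArg Subtype.val this
  have h1 : (Nat.card G : ℂ) * ∑ c, (e.coeff (h⁻¹ * c) : ℂ) * θ c = 0 := by
    calc (Nat.card G : ℂ) * ∑ c, (e.coeff (h⁻¹ * c) : ℂ) * θ c
        = ∑ x : G, ∑ c, (e.coeff (h⁻¹ * c) : ℂ) * θ c := by
          rw [Finset.sum_const, Finset.card_univ, nsmul_eq_mul, Nat.card_eq_fintype_card]
      _ = ∑ x : G, ∑ c, (e.coeff (h⁻¹ * (x⁻¹ * c * x)) : ℂ) * θ c := by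
          refine Finset.sum_congr rfl fun x _ => ?_
          refine Fintype.sum_equiv (MulAut.conj x).toEquiv _ _ fun c => ?_
          simp only [MulEquiv.toEquiv_eq_coe, EquivLike.coe_coe, MulAut.conj_apply]
          rw [hθ c x]
          congr 2
          group
      _ = 0 := by
          rw [Finset.sum_comm]
          refine Finset.sum_eq_zero fun c _ => ?_
          rw [← Finset.sum_mul, key, zero_mul]
  replace h1 := (mul_eq_zero.1 h1).resolve_left (by simp)
  rw [← h1]
  refine Fintype.sum_equiv (Equiv.mulLeft h) _ _ fun k => ?_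
  rw [Equiv.coe_mulLeft, inv_mul_cancel_left, IsClassFunction.mul_comm' hθ]

theorem coeff_pow_conjFixed {R : Type*} [CommRing R] {P : Subgroup G} {a : MonoidAlgebra R G}
    (ha : ∀ u ∈ P, Commute (MonoidAlgebra.single u (1 : R)) a) (n : ℕ) :
    ConjFixed P (a ^ n) := by
  intro u hu x
  have h := congrArg (fun b : MonoidAlgebra R G => b.coeff (u * x)) ((ha u hu).pow_right n).eq
  simp only [coeff_single_mul_group, coeff_mul_single_group, one_mul, mul_one,
    inv_mul_cancel_left] at h
  exact h.symm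

theorem commute_single_of_conjFixed {R : Type*} [CommRing R] {P : Subgroup G}
    {a : MonoidAlgebra R G} (ha : ConjFixed P a) {u : G} (hu : u ∈ P) :
    Commute (MonoidAlgebra.single u (1 : R)) a := by
  refine MonoidAlgebra.ext (Finsupp.ext fun c => ?_)
  rw [coeff_single_mul_group, coeff_mul_single_group, one_mul, mul_one]
  rw [← ha u hu (u⁻¹ * c)]
  congr 1
  group

/-- A `p`-power-order cyclic group. -/
theorem isPGroup_zpowers {p k : ℕ} [Fact p.Prime] {z : G} (hz : orderOf z = p ^ k) :
    IsPGroup p (Subgroup.zpowers z) :=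
  IsPGroup.of_card (n := k) (by rw [Nat.card_zpowers, hz])

omit [Finite G] in
theorem mem_centralizer_zpowers_iff {z k : G} :
    k ∈ Subgroup.centralizer (Subgroup.zpowers z : Set G) ↔ Commute k z := by
  rw [Subgroup.mem_centralizer_iff]
  constructor
  · intro h
    exact (h z (Subgroup.mem_zpowers z)).symm
  · intro h a ha
    obtain ⟨i, rfl⟩ := Subgroup.mem_zpowers_iff.1 ha
    exact (h.zpow_right i).symm

/-- **Nagao's form of the second main theorem**: if `b` induces `B` and `χ` lies outside `B`, then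
`χ` annihilates `f_b h` when the centralizer of the `p`-part of `h` lies in `H`. -/
theorem sum_blockCoeff_mul_char_eq_zero {p : ℕ} (hp : p.Prime) (hmem : (p : AlgInt) ∈ M)
    {H : Subgroup G} {b : Set (IrrCharacter H)} {B : Set (IrrCharacter G)}
    (hind : IsInducedBlock M H b B) {h : H} {z : G} (hz : IsPPart p (h : G) z)
    (hC : Subgroup.centralizer ({z} : Set G) ≤ H) {χ : IrrCharacter G} (hχ : χ ∉ B) :
    ∑ᶠ k : H, blockCoeff b k * (χ : G → ℂ) ((k : G) * (h : G)) = 0 := by
  haveI := Fintype.ofFinite G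
  haveI := Fintype.ofFinite H
  haveI := Fact.mk hp
  haveI := charP_resField (M := M) hp hmem
  have hb := hind.1
  set B' := blockOf M (χ : G → ℂ) with hB'def
  have hB' : IsPBlock M B' := isPBlock_blockOf χ
  have hne : B ≠ B' := fun h => hχ (h ▸ mem_blockOf_self χ)
  let ι : ∀ (R : Type) [CommRing R], MonoidAlgebra R H →+* MonoidAlgebra R G :=
    fun R _ => MonoidAlgebra.mapDomainRingHom R H.subtype
  have hι : ∀ (R : Type) [CommRing R] (a : MonoidAlgebra R H) (k : H),
      (ι R a).coeff (k : G) = a.coeff k := by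
    intro R _ a k
    exact Finsupp.mapDomain_apply Subtype.val_injective a.coeff k
  have hι' : ∀ (R : Type) [CommRing R] (a : MonoidAlgebra R H) (g : G), g ∉ H →
      (ι R a).coeff g = 0 := by
    intro R _ a g hg
    refine Finsupp.mapDomain_notin_range _ _ ?_
    rintro ⟨k, rfl⟩
    exact hg k.2
  set fb : MonoidAlgebra (locRing M) H := (blockIdemR hb : MonoidAlgebra (locRing M) H)
  set fB : MonoidAlgebra (locRing M) G := (blockIdemR hB' : MonoidAlgebra (locRing M) G)
  have hfBc : ∀ a, a * fB = fB * a := Subalgebra.mem_center_iff.1 (blockIdemR hB').2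
  set e := ι (locRing M) fb * fB with he_def
  have he : IsIdempotentElem e := by
    unfold IsIdempotentElem
    rw [he_def, mul_assoc, ← mul_assoc fB, ← hfBc, mul_assoc, ← mul_assoc, ← map_mul]
    congr 1
    · exact congrArg _ (congrArg Subtype.val (isIdempotentElem_blockIdemR hb).eq)
    · exact congrArg Subtype.val (isIdempotentElem_blockIdemR hB').eq
  -- invariance under conjugation by elements of `H`
  have hfix : ConjFixed H e := by
    intro u hu x
    have hc : Commute (MonoidAlgebra.single u (1 : locRing M)) e := by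
      refine Commute.mul_right ?_ (hfBc _)
      have h1 : Commute (MonoidAlgebra.single (⟨u, hu⟩ : H) (1 : locRing M)) fb :=
        Subalgebra.mem_center_iff.1 (blockIdemR hb).2 _
      have h2 := h1.map (ι (locRing M))
      simpa [ι, MonoidAlgebra.mapDomainRingHom_apply] using h2
    simpa using coeff_pow_conjFixed (P := Subgroup.zpowers u) (a := e) (fun v hv => by
      obtain ⟨i, rfl⟩ := (mem_powers_iff_mem_zpowers).2 hv
      show Commute (MonoidAlgebra.single (u ^ i) (1 : locRing M)) e
      rw [← one_pow (M := locRing M) i, ← MonoidAlgebra.single_pow]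
      exact hc.pow_left i) 1 u (Subgroup.mem_zpowers u) x
  have hcomm : ∀ k, e.coeff ((h : G)⁻¹ * k * (h : G)) = e.coeff k := fun k => by
    simpa using hfix (h : G)⁻¹ (inv_mem h.2) k
  -- the product inside the centre of `R[H]`
  set u := blockIdemR hb * resCenter H (blockIdemR hB') with hu_def
  have hu0 : ∀ ψ : IrrCharacter H, lam M ψ (mapCenter (red M) u) = 0 := by
    intro ψ
    rw [hu_def, map_mul, map_mul, mapCenter_resCenter]
    show lam M ψ (blockIdem hb) * lam M ψ (resCenter H (blockIdem hB')) = 0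
    by_cases hψ : ψ ∈ b
    · rw [IsInducedBlock.lam_resCenter_blockIdem hind hB' hψ, if_neg hne, mul_zero]
    · rw [lam_blockIdem, blockInd, if_neg hψ, zero_mul]
  obtain ⟨N, hN⟩ := isNilpotent_of_lam_eq_zero (mapCenter (red M) u) hu0
  have hzmem : z ∈ H := by
    have := IsPPart.mem_zpowers hp hz
    exact (Subgroup.zpowers_le.2 h.2) this
  obtain ⟨-, -, -, ⟨k0, hk0⟩, -⟩ := id hz
  set P := Subgroup.zpowers z with hPdef
  have hPp : IsPGroup p P := isPGroup_zpowers hk0
  have hCH : Subgroup.centralizer (P : Set G) ≤ H := by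
    intro k hk
    exact hC (Subgroup.mem_centralizer_singleton_iff.2 (mem_centralizer_zpowers_iff.1 hk).eq)
  have hPH : P ≤ H := Subgroup.zpowers_le.2 hzmem
  set ebar := MonoidAlgebra.mapRingHom G (red M) e with hebar
  set ubar := ι (ResField M) (mapCenter (red M) u : MonoidAlgebra (ResField M) H) with hubar
  have hebarfix : ConjFixed P ebar := fun v hv x => by
    simp [hebar, coeff_map, hfix v (hPH hv) x]
  have hubarcomm : ∀ v ∈ P, Commute (MonoidAlgebra.single v (1 : ResField M)) ubar := by
    intro v hv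
    have h1 : Commute (MonoidAlgebra.single (⟨v, hPH hv⟩ : H) (1 : ResField M))
        (mapCenter (red M) u : MonoidAlgebra (ResField M) H) :=
      Subalgebra.mem_center_iff.1 (mapCenter (red M) u).2 _
    have h2 := h1.map (ι (ResField M))
    have he1 : ι (ResField M) (MonoidAlgebra.single (⟨v, hPH hv⟩ : H) (1 : ResField M))
        = MonoidAlgebra.single v 1 := by simp [ι, MonoidAlgebra.mapDomainRingHom_apply]
    rw [← he1]
    exact h2
  have hagree : brTo P H ebar = brTo P H ubar := by
    ext k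
    simp only [coeff_brTo]
    by_cases hk : (k : G) ∈ Subgroup.centralizer (P : Set G)
    · rw [if_pos hk, if_pos hk, hubar, hι, coe_mapCenter, hebar, coeff_map, coeff_map, he_def,
        hu_def]
      congr 1
      rw [Subalgebra.coe_mul, coeff_mul_group, coeff_mul_group]
      refine (Finset.sum_bij_ne_zero (fun (t : H) _ _ => (t : G)) (fun _ _ _ => Finset.mem_univ _)
        (fun _ _ _ _ _ _ hst => Subtype.ext hst) ?_ ?_).symm
      · intro g _ hg
        have hgH : g ∈ H := by
          by_contra hgH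
          exact hg (by rw [hι' _ _ _ hgH, zero_mul])
        refine ⟨⟨g, hgH⟩, Finset.mem_univ _, ?_, rfl⟩
        rwa [← hι (locRing M) fb ⟨g, hgH⟩, coeff_resCenter]
      · intro t _ _
        rw [hι, coeff_resCenter]
        rfl
    · rw [if_neg hk, if_neg hk]
  have hpow : ∀ (a : MonoidAlgebra (ResField M) G),
      (∀ v ∈ P, Commute (MonoidAlgebra.single v (1 : ResField M)) a) → ∀ n : ℕ,
        brTo P H (a ^ n) = brTo P H a ^ n := by
    intro a ha n
    induction n with
    | zero => simp
    | succ n ih =>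
      have h1 : ConjFixed P a := by simpa using coeff_pow_conjFixed ha 1
      rw [pow_succ, pow_succ, brTo_mul hPp hCH (coeff_pow_conjFixed ha n) h1, ih]
  have hebar0 : brTo P H ebar = 0 := by
    have h1 : ebar ^ (N + 1) = ebar := by
      rw [hebar, ← map_pow, he.pow_succ_eq]
    have h2 := hpow ebar (fun v hv => commute_single_of_conjFixed hebarfix hv) (N + 1)
    rw [h1, hagree, ← hpow ubar hubarcomm] at h2
    rw [hagree, h2, hubar, ← map_pow, ← SubmonoidClass.coe_pow, pow_succ, hN, zero_mul,
      ZeroMemClass.coe_zero, map_zero, brTo_zero]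
  have hvan : ∀ k, Commute k z → red M (e.coeff k) = 0 := by
    intro k hk
    have hk' := mem_centralizer_zpowers_iff.2 hk
    have := congrArg (fun a : MonoidAlgebra (ResField M) H => a.coeff ⟨k, hCH hk'⟩) hebar0
    simpa [hPdef, hk', hebar] using this
  -- pass to the orbit of `χ`
  have hθ : IsClassFunction G (χ : G → ℂ) := IsIrrCharacter.isClassFunction χ.2
  have key := sum_coeff_mul_classFun_eq_zero hp hmem e he hz hcomm hvan hθ
  have hfBχ : ∀ g, ∑ t, blockCoeff B' t * (χ : G → ℂ) (t * g) = (χ : G → ℂ) g := by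
    intro g
    exact sum_blockCoeff_mul_char_translate hB' (mem_blockOf_self χ) g
  rw [finsum_eq_sum_of_fintype]
  rw [← key]
  calc ∑ k : H, blockCoeff b k * (χ : G → ℂ) ((k : G) * (h : G))
      = ∑ a : G, ((ι (locRing M) fb).coeff a : ℂ) * (χ : G → ℂ) (a * (h : G)) := by
        refine Finset.sum_bij_ne_zero (fun (t : H) _ _ => (t : G)) (fun _ _ _ => Finset.mem_univ _)
          (fun _ _ _ _ _ _ hst => Subtype.ext hst) ?_ ?_
        · intro g _ hg
          have hgH : g ∈ H := by
            by_contra hgH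
            exact hg (by rw [hι' _ _ _ hgH, ZeroMemClass.coe_zero, zero_mul])
          refine ⟨⟨g, hgH⟩, Finset.mem_univ _, ?_, rfl⟩
          rwa [← coe_coeff_blockIdemR hb, ← hι (locRing M) fb ⟨g, hgH⟩]
        · intro t _ _
          rw [hι, coe_coeff_blockIdemR]
    _ = ∑ a : G, ∑ t, ((ι (locRing M) fb).coeff a : ℂ) * (blockCoeff B' t *
          (χ : G → ℂ) (t * (a * (h : G)))) := by
        refine Finset.sum_congr rfl fun a _ => ?_
        rw [← Finset.mul_sum, hfBχ]
    _ = ∑ k : G, (e.coeff k : ℂ) * (χ : G → ℂ) (k * (h : G)) := by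
        rw [he_def, hfBc]
        simp only [coeff_mul_group, AddSubmonoidClass.coe_finsetSum, MulMemClass.coe_mul,
          Finset.sum_mul]
        rw [Finset.sum_comm]
        conv_rhs => rw [Finset.sum_comm]
        refine Finset.sum_congr rfl fun t _ => ?_
        refine Fintype.sum_equiv (Equiv.mulLeft t) _ _ fun a => ?_
        rw [coe_coeff_blockIdemR, Equiv.coe_mulLeft, inv_mul_cancel_left, mul_assoc t]
        ring

end CfsgLib.Blocks
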