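import Cfsg.Agent.Lib.Blocks.Restrict
import Cfsg.Agent.Lib.BlockReg.Height

/-!
# Okuyama's restriction criterion and Brauer's third main theorem
-/

set_option autoImplicit false

namespace CfsgLib.Blocks

open Cfsg CfsgLib.Char
open scoped ComplexConjugate Classical

universe u

variable {G : Type u} [Group G] [Finite G] {M : Ideal AlgInt} [M.IsMaximal]

omit [M.IsMaximal] in
theorem char_mem_locRing' [M.IsPrime] (χ : IrrCharacter G) (g : G) :
    (χ : G → ℂ) g ∈ locRing M :=
  isIntegral_mem_locRing (BlockReg.isIntegral_char χ g)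

/-- The regular part of a character, as a central element of the group ring. -/
noncomputable def regChar (M : Ideal AlgInt) [M.IsPrime] (p : ℕ) (χ : IrrCharacter G) :
    Subalgebra.center (locRing M) (MonoidAlgebra (locRing M) G) :=
  ⟨ofFun fun x => if p ∣ orderOf x then 0 else ⟨(χ : G → ℂ) x⁻¹, char_mem_locRing' χ x⁻¹⟩,
    ofFun_mem_center fun u x => by
      have h1 : orderOf (u * x * u⁻¹) = orderOf x := MulEquiv.orderOf_eq (MulAut.conj u) x
      simp only [h1]
      split_ifs with h
      · rfl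
      · apply Subtype.ext
        show (χ : G → ℂ) (u * x * u⁻¹)⁻¹ = (χ : G → ℂ) x⁻¹
        rw [← IsIrrCharacter.isClassFunction χ.2 x⁻¹ u]
        congr 1
        group⟩

theorem coe_lamR_regChar [Fintype G] (p : ℕ) (hp : p.Prime) (χ η : IrrCharacter G) :
    ((lamR M η (regChar M p χ) : locRing M) : ℂ)
      = BlockReg.rInner p (χ : G → ℂ) (η : G → ℂ) / BlockReg.pUnit p G := by
  rw [coe_lamR, omega_eq_sum, BlockReg.rInner, classInner, BlockReg.pUnit]
  have hpa : ((p ^ (Nat.card G).factorization p : ℕ) : ℂ) ≠ 0 := by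
    exact_mod_cast pow_ne_zero _ hp.ne_zero
  have hG : (Nat.card G : ℂ) ≠ 0 := by exact_mod_cast Nat.card_pos.ne'
  have h1 := IsIrrCharacter.apply_one_ne_zero η.2
  field_simp
  rw [Finset.sum_mul]
  refine Fintype.sum_equiv (Equiv.inv G) _ _ fun x => ?_
  simp only [coe_mapCenter, coeff_map, regChar, coeff_ofFun, Equiv.inv_apply, BlockReg.tilde,
    orderOf_inv, ← IsIrrCharacter.apply_inv η.2, inv_inv, Subring.coe_subtype]
  split_ifs
  · simp
  · ring

/-- The regular part of a height zero character is invertible exactly on its own block. -/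
theorem red_lamR_regChar_ne_zero_iff {p : ℕ} [Fact p.Prime] (hM : IsPModular p M)
    {χ η : IrrCharacter G} {B : Set (IrrCharacter G)} (hB : IsPBlock M B) (hχ : χ ∈ B)
    (h0 : blockHeight p B (χ : G → ℂ) = 0) :
    red M (lamR M η (regChar M p χ)) ≠ 0 ↔ η ∈ B := by
  haveI := Fintype.ofFinite G
  have hdeg : (charDegree (χ : G → ℂ)).factorization p = BlockReg.minExp p B := by
    have h1 := BlockReg.minExp_le (p := p) hχ
    rw [BlockReg.blockHeight_eq] at h0
    omega
  rw [ne_eq, red_eq_zero, coe_lamR_regChar p (Fact.out : p.Prime), div_eq_mul_inv]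
  constructor
  · intro h
    by_contra hη
    refine h ?_
    rw [BlockReg.rInner, BlockReg.classInner_tilde_eq_zero hM hB hχ hη, zero_div, zero_mul]
    exact BlockReg.memIdeal_zero hM
  · intro hη
    have hu := BlockReg.pUnit_spec (G := G) hM
    exact BlockReg.not_memIdeal_mul hM (BlockReg.rInner_memRing hM χ η)
      (BlockReg.memRing_inv hM hu.1 hu.2) (BlockReg.rInner_not_memIdeal hM hB hχ hη hdeg)
      (BlockReg.not_memIdeal_inv hM hu.1 hu.2)

/-- **Okuyama's criterion**. -/
theorem isInducedBlock_iff_of_restrict {p : ℕ} [Fact p.Prime] (hM : IsPModular p M)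
    {H : Subgroup G} {χ : IrrCharacter G} {ψ : IrrCharacter H}
    (hψ : ∀ h : H, (ψ : H → ℂ) h = (χ : G → ℂ) h)
    (hχ0 : blockHeight p (blockOf M (χ : G → ℂ)) (χ : G → ℂ) = 0)
    (hψ0 : blockHeight p (blockOf M (ψ : H → ℂ)) (ψ : H → ℂ) = 0)
    {e : Set (IrrCharacter H)} (he : InducedBlockDefined M H e) :
    IsInducedBlock M H e (blockOf M (χ : G → ℂ)) ↔ e = blockOf M (ψ : H → ℂ) := by
  obtain ⟨B', hB'⟩ := he
  obtain ⟨ξ, hξ⟩ := IsPBlock.nonempty hB'.1
  obtain ⟨η, hη⟩ := IsPBlock.nonempty hB'.2.1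
  have hres : resCenter H (regChar M p χ) = regChar M p ψ := by
    refine Subtype.ext (MonoidAlgebra.ext (Finsupp.ext fun h => ?_))
    simp only [coeff_resCenter, regChar, coeff_ofFun, Subgroup.orderOf_coe]
    split_ifs
    · rfl
    · exact Subtype.ext (by simp [hψ])
  have key : red M (lamR M ξ (regChar M p ψ)) = red M (lamR M η (regChar M p χ)) := by
    rw [← hres, ← lam_mapCenter, ← lam_mapCenter, mapCenter_resCenter,
      IsInducedBlock.lam_resCenter_eq hB' hξ hη]
  have hiff : ξ ∈ blockOf M (ψ : H → ℂ) ↔ η ∈ blockOf M (χ : G → ℂ) := by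
    rw [← red_lamR_regChar_ne_zero_iff hM (isPBlock_blockOf ψ) (mem_blockOf_self ψ) hψ0,
      ← red_lamR_regChar_ne_zero_iff hM (isPBlock_blockOf χ) (mem_blockOf_self χ) hχ0, key]
  constructor
  · intro h
    have hBB := IsInducedBlock.unique h hB'
    exact IsPBlock.eq_of_mem hB'.1 (isPBlock_blockOf ψ) hξ (hiff.2 (hBB ▸ hη))
  · intro h
    rw [h] at hξ
    rw [IsPBlock.eq_of_mem (isPBlock_blockOf χ) hB'.2.1 (hiff.1 hξ) hη]
    exact hB'

theorem blockHeight_principal {p : ℕ} (B : Set (IrrCharacter G)) :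
    blockHeight p B (fun _ : G => (1 : ℂ)) = 0 := by
  simp [blockHeight, charDegree]

/-- **Brauer's third main theorem.** -/
theorem isInducedBlock_principal_iff {p : ℕ} [Fact p.Prime] (hM : IsPModular p M) {H : Subgroup G}
    {b : Set (IrrCharacter H)} (hdef : InducedBlockDefined M H b) :
    IsInducedBlock M H b (principalBlock M G) ↔ b = principalBlock M H :=
  isInducedBlock_iff_of_restrict hM (χ := principalIrr) (ψ := principalIrr) (fun _ => rfl)
    (blockHeight_principal _) (blockHeight_principal _) hdef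

end CfsgLib.Blocks
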