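import Cfsg.Agent.Lib.Blocks.Restrict
import Cfsg.Agent.Lib.Blocks.Pairs.Transport
import Cfsg.Agent.Lib.BlockReg.Regular
import Cfsg.Agent.Lib.Char.Clifford

/-!
# Blocks of a group over the blocks of a normal subgroup
-/

set_option autoImplicit false
set_option maxHeartbeats 1000000
set_option synthInstance.maxHeartbeats 400000

namespace CfsgLib.Blocks

open Cfsg CfsgLib.Char CfsgLib.CharTwist
open scoped ComplexConjugate Classical

universe u v

variable {G : Type u} [Group G] {M : Ideal AlgInt}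

section Union

variable [Finite G] [M.IsMaximal]

/-- A union of blocks has an idempotent with coefficients in the local ring. -/
theorem blockCoeff_mem_of_isUnion {A : Set (IrrCharacter G)}
    (hA : ∀ χ ∈ A, blockOf M (χ : G → ℂ) ⊆ A) (g : G) : blockCoeff A g ∈ locRing M := by
  let f : IrrCharacter G → ℂ := fun χ => (χ : G → ℂ) 1 * conj ((χ : G → ℂ) g)
  have hsum : blockCoeff A g =
      ∑ B ∈ A.toFinset.image (fun χ : IrrCharacter G => blockOf M (χ : G → ℂ)), blockCoeff B g := by
    simp only [blockCoeff, finsum_mem_eq_toFinset_sum, ← Finset.mul_sum]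
    congr 1
    rw [← Finset.sum_fiberwise_of_maps_to
      (fun χ hχ => Finset.mem_image_of_mem (fun χ : IrrCharacter G => blockOf M (χ : G → ℂ)) hχ) f]
    refine Finset.sum_congr rfl fun B hB => ?_
    obtain ⟨χ, hχ, rfl⟩ := Finset.mem_image.1 hB
    refine Finset.sum_congr ?_ fun _ _ => rfl
    ext ψ
    simp only [Finset.mem_filter, Set.mem_toFinset]
    refine ⟨fun h => h.2 ▸ mem_blockOf_self ψ, fun h => ⟨hA χ (Set.mem_toFinset.1 hχ) h, ?_⟩⟩
    exact (IsPBlock.eq_blockOf (isPBlock_blockOf χ) h).symm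
  rw [hsum]
  refine Subring.sum_mem _ fun B hB => ?_
  obtain ⟨χ, -, rfl⟩ := Finset.mem_image.1 hB
  exact blockCoeff_mem (isPBlock_blockOf χ) g

end Union

variable (N : Subgroup G) [hN : N.Normal]

/-- The conjugate of an irreducible character of a normal subgroup. -/
noncomputable def conjIrr (θ : IrrCharacter N) (g : G) : IrrCharacter N :=
  ⟨conjFun N (θ : N → ℂ) g, isIrrCharacter_conjFun N θ.2 g⟩

@[simp] theorem coe_conjIrr (θ : IrrCharacter N) (g : G) :
    (conjIrr N θ g : N → ℂ) = conjFun N (θ : N → ℂ) g := rfl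

theorem conjIrr_one (θ : IrrCharacter N) : conjIrr N θ 1 = θ :=
  Subtype.ext (conjFun_one N _)

theorem conjIrr_mul (θ : IrrCharacter N) (g h : G) :
    conjIrr N θ (g * h) = conjIrr N (conjIrr N θ g) h :=
  Subtype.ext (conjFun_mul N _ g h)

theorem conjIrr_eq_pull (θ : IrrCharacter N) (g : G) :
    conjIrr N θ g = Pairs.pull (MulAut.conjNormal (H := N) g) θ :=
  Subtype.ext (conjFun_eq_comp N _ g)

theorem sameBlock_conjIrr {θ ψ : IrrCharacter N}
    (h : SameBlock M (θ : N → ℂ) (ψ : N → ℂ)) (g : G) :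
    SameBlock M (conjIrr N θ g : N → ℂ) (conjIrr N ψ g : N → ℂ) := by
  rw [conjIrr_eq_pull, conjIrr_eq_pull, Pairs.sameBlock_pull_iff]
  exact h

/-- The union of the conjugates of a set of characters of a normal subgroup. -/
noncomputable def conjClosure (b : Set (IrrCharacter N)) : Set (IrrCharacter N) :=
  {ψ | ∃ g : G, conjIrr N ψ g ∈ b}

theorem subset_conjClosure (b : Set (IrrCharacter N)) : b ⊆ conjClosure N b :=
  fun θ hθ => ⟨1, by rwa [conjIrr_one]⟩

theorem conjIrr_mem_conjClosure_iff (b : Set (IrrCharacter N)) (θ : IrrCharacter N) (g : G) :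
    conjIrr N θ g ∈ conjClosure N b ↔ θ ∈ conjClosure N b := by
  constructor
  · rintro ⟨h, hh⟩
    exact ⟨g * h, by rwa [conjIrr_mul]⟩
  · rintro ⟨h, hh⟩
    exact ⟨g⁻¹ * h, by rwa [← conjIrr_mul, mul_inv_cancel_left]⟩

/-- Extension by zero from the normal subgroup. -/
noncomputable def extZero {R : Type v} [Zero R] (φ : N → R) (g : G) : R :=
  if h : g ∈ N then φ ⟨g, h⟩ else 0

theorem extZero_coe {R : Type v} [Zero R] (φ : N → R) (n : N) : extZero N φ (n : G) = φ n := by
  simp [extZero]

theorem extZero_of_not_mem {R : Type v} [Zero R] (φ : N → R) {g : G} (hg : g ∉ N) :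
    extZero N φ g = 0 := dif_neg hg

variable [Finite G]

theorem sum_blockCoeff_conjClosure (b : Set (IrrCharacter N)) (u : G) (n : N) :
    blockCoeff (conjClosure N b) ⟨u * n * u⁻¹, hN.conj_mem n n.2 u⟩ =
      blockCoeff (conjClosure N b) n := by
  simp only [blockCoeff, finsum_mem_eq_toFinset_sum]
  congr 1
  refine Finset.sum_equiv ⟨fun θ => conjIrr N θ u, fun θ => conjIrr N θ u⁻¹,
    fun θ => by simp [← conjIrr_mul, conjIrr_one], fun θ => by simp [← conjIrr_mul, conjIrr_one]⟩
    (fun θ => ?_) fun θ _ => ?_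
  · simp [conjIrr_mem_conjClosure_iff]
  · simp only [Equiv.coe_fn_mk, coe_conjIrr, conjFun]
    congr 1
    exact congrArg (θ : N → ℂ) (Subtype.ext (by simp))

theorem inducedCentralChar_eq_zero_of_not_mem (θ : N → ℂ) {g : G} (hg : g ∉ N) :
    inducedCentralChar N θ g = 0 := by
  refine finsum_mem_of_eqOn_zero fun h hh => ?_
  exfalso
  obtain ⟨c, hc⟩ := isConj_iff.1 (IsConj.symm hh)
  exact hg (hc ▸ hN.conj_mem _ h.2 c)

theorem inducedCentralChar_conjFun (θ : N → ℂ) (u g : G) :
    inducedCentralChar N (conjFun N θ u) g = inducedCentralChar N θ g := by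
  haveI := Fintype.ofFinite N
  have h1 : conjFun N θ u 1 = θ 1 := congrArg θ (Subtype.ext (by simp))
  simp only [inducedCentralChar, finsum_mem_eq_toFinset_sum, h1, Set.toFinset_setOf]
  refine Finset.sum_equiv (MulAut.conjNormal (H := N) u).toEquiv (fun h => ?_) fun h _ => ?_
  · simp only [Finset.mem_filter, Finset.mem_univ, true_and, MulEquiv.toEquiv_eq_coe,
      EquivLike.coe_coe, MulAut.conjNormal_apply]
    have hc : IsConj (h : G) (u * h * u⁻¹) := isConj_iff.2 ⟨u, rfl⟩
    exact ⟨fun hh => hh.trans hc, fun hh => hh.trans hc.symm⟩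
  · rw [conjFun_eq_comp]
    rfl

/-- The central character at `n ∈ N` is computed from any constituent of the restriction. -/
theorem centralChar_eq_inducedCentralChar [Fintype N] {χ : IrrCharacter G} {θ : IrrCharacter N}
    (hc : classInner (fun n : N => (χ : G → ℂ) n) (θ : N → ℂ) ≠ 0) (n : N) :
    centralChar (χ : G → ℂ) (n : G) = inducedCentralChar N (θ : N → ℂ) (n : G) := by
  haveI := Fintype.ofFinite G
  set e := classInner (fun n : N => (χ : G → ℂ) n) (θ : N → ℂ) with he
  set O := Clifford.orbit N (θ : N → ℂ) with hO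
  have hres := Clifford.res_eq N χ.2 θ.2 hc
  rw [← he, ← hO] at hres
  have hval : ∀ m : N, (χ : G → ℂ) m = e * ∑ ψ ∈ O, ψ m := fun m => by
    have h := congrFun hres m
    simpa [Finset.sum_apply] using h
  set S : Finset N := Finset.univ.filter fun m : N => IsConj (n : G) (m : G) with hS
  set I := ∑ m ∈ S, (θ : N → ℂ) m with hI
  have hI' : inducedCentralChar N (θ : N → ℂ) (n : G) = I / (θ : N → ℂ) 1 := by
    rw [inducedCentralChar, finsum_mem_eq_toFinset_sum, Set.toFinset_setOf, hI, Finset.sum_div]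
  have horb : ∀ ψ ∈ O, ∑ m ∈ S, ψ m = I := by
    intro ψ hψ
    obtain ⟨u, rfl⟩ := (Clifford.mem_orbit N).1 hψ
    rw [hI]
    refine Finset.sum_equiv (MulAut.conjNormal (H := N) u).toEquiv (fun h => ?_) fun h _ => ?_
    · simp only [hS, Finset.mem_filter, Finset.mem_univ, true_and, MulEquiv.toEquiv_eq_coe,
        EquivLike.coe_coe, MulAut.conjNormal_apply]
      have hc' : IsConj (h : G) (u * h * u⁻¹) := isConj_iff.2 ⟨u, rfl⟩
      exact ⟨fun hh => hh.trans hc', fun hh => hh.trans hc'.symm⟩
    · rw [conjFun_eq_comp]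
      rfl
  have hcard : S.card = (Subgroup.centralizer ({(n : G)} : Set G)).index := by
    rw [index_centralizer_eq_card_isConj, hS, ← Fintype.card_subtype, ← Nat.card_eq_fintype_card]
    refine Nat.card_congr ⟨fun m => ⟨(m.1 : G), m.2⟩, fun y => ⟨⟨y.1, ?_⟩, y.2⟩,
      fun m => rfl, fun y => rfl⟩
    obtain ⟨c, hc'⟩ := isConj_iff.1 y.2
    exact hc' ▸ hN.conj_mem _ n.2 c
  have hsum : (S.card : ℂ) * (χ : G → ℂ) n = e * ((O.card : ℂ) * I) := by
    have h1 : ∀ m ∈ S, (χ : G → ℂ) (m : G) = (χ : G → ℂ) n := by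
      intro m hm
      obtain ⟨c, hc'⟩ := isConj_iff.1 (Finset.mem_filter.1 hm).2
      rw [← hc', IsIrrCharacter.isClassFunction χ.2]
    rw [← nsmul_eq_mul, ← Finset.sum_const, ← Finset.sum_congr rfl h1]
    simp only [hval, ← Finset.mul_sum]
    rw [Finset.sum_comm, Finset.sum_congr rfl horb, Finset.sum_const, nsmul_eq_mul]
  have hone : (χ : G → ℂ) 1 = e * ((O.card : ℂ) * (θ : N → ℂ) 1) := by
    rw [← OneMemClass.coe_one N, hval, Finset.sum_congr rfl (fun ψ hψ => ?_), Finset.sum_const,
      nsmul_eq_mul]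
    obtain ⟨u, rfl⟩ := (Clifford.mem_orbit N).1 hψ
    exact congrArg (θ : N → ℂ) (Subtype.ext (by simp))
  have hO0 : (O.card : ℂ) ≠ 0 := Nat.cast_ne_zero.2
    (Finset.card_pos.2 ⟨_, Clifford.self_mem_orbit N (θ : N → ℂ)⟩).ne'
  rw [hI', centralChar, ← hcard, hsum, hone, mul_div_mul_left _ _ hc, mul_div_mul_left _ _ hO0]

/-- Constituents of the restrictions are detected by conjugation invariant functions on `N`. -/
theorem classInner_ne_zero_of_inducedCentralChar_eq [Fintype N] {χ : IrrCharacter G}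
    {θ : IrrCharacter N}
    (h : ∀ n : N, centralChar (χ : G → ℂ) (n : G) = inducedCentralChar N (θ : N → ℂ) (n : G)) :
    classInner (fun n : N => (χ : G → ℂ) n) (θ : N → ℂ) ≠ 0 := by
  haveI := Fintype.ofFinite G
  obtain ⟨θ₀, hθ₀, hc⟩ := Clifford.exists_constituent_res N χ.2
  set t : IrrCharacter N := ⟨θ₀, hθ₀⟩ with ht
  have hcc : ∀ u x : G, extZero N (blockCoeff (conjClosure N {t})) (u * x * u⁻¹) =
      extZero N (blockCoeff (conjClosure N {t})) x := by
    intro u x
    by_cases hx : x ∈ N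
    · rw [extZero, dif_pos (hN.conj_mem x hx u), extZero, dif_pos hx]
      exact sum_blockCoeff_conjClosure N {t} u ⟨x, hx⟩
    · rw [extZero_of_not_mem N _ hx, extZero_of_not_mem]
      intro hux
      exact hx (by simpa [mul_assoc] using hN.conj_mem _ hux u⁻¹)
  let z : Subalgebra.center ℂ (MonoidAlgebra ℂ G) :=
    ⟨ofFun (extZero N (blockCoeff (conjClosure N {t}))), ofFun_mem_center hcc⟩
  have hz : resCenter N z = idemC (conjClosure N {t}) :=
    Subtype.ext (MonoidAlgebra.ext (Finsupp.ext fun n => by simp [z, extZero_coe]))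
  have hfun : ∀ g : G, inducedCentralChar N (θ : N → ℂ) g =
      inducedCentralChar N (t : N → ℂ) g := by
    intro g
    by_cases hg : g ∈ N
    · rw [← h ⟨g, hg⟩, ← centralChar_eq_inducedCentralChar N (θ := t) hc ⟨g, hg⟩]
    · rw [inducedCentralChar_eq_zero_of_not_mem N _ hg,
        inducedCentralChar_eq_zero_of_not_mem N _ hg]
  have e1 : omega θ (resCenter N z) = omega t (resCenter N z) := by
    rw [omega_resCenter, omega_resCenter, funext hfun]
  rw [hz, omega_idemC, omega_idemC, blockInd, blockInd,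
    if_pos (subset_conjClosure N {t} rfl)] at e1
  have hmem : θ ∈ conjClosure N {t} := by
    by_contra hn
    rw [if_neg hn] at e1
    exact zero_ne_one e1
  obtain ⟨g, hg⟩ := hmem
  have : (θ : N → ℂ) = conjFun N θ₀ g⁻¹ := by
    have h1 : conjIrr N θ g = t := hg
    have h2 := congrArg (fun s => (conjIrr N s g⁻¹ : N → ℂ)) h1
    simp only [← conjIrr_mul, mul_inv_cancel, conjIrr_one] at h2
    rw [h2]; rfl
  rw [this, Clifford.classInner_res_conjFun N (IsIrrCharacter.isClassFunction χ.2)]
  exact hc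

section Modular

variable [M.IsMaximal]

/-- The idempotent, inside the centre of the modular group algebra of `G`, of the union of the
conjugates of a block of `N`. -/
theorem exists_extIdem {b : Set (IrrCharacter N)} (hb : IsPBlock M b) :
    ∃ z : Subalgebra.center (ResField M) (MonoidAlgebra (ResField M) G),
      (∀ g, g ∉ N → (z : MonoidAlgebra (ResField M) G).coeff g = 0) ∧
      ∀ θ : IrrCharacter N, lam M θ (resCenter N z) = blockInd (conjClosure N b) θ := by
  have hU : ∀ θ ∈ conjClosure N b, blockOf M (θ : N → ℂ) ⊆ conjClosure N b := by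
    rintro θ ⟨g, hg⟩ ψ hψ
    refine ⟨g, ?_⟩
    rw [IsPBlock.eq_blockOf hb hg]
    exact sameBlock_conjIrr N hψ g
  have hA := blockCoeff_mem_of_isUnion (M := M) hU
  let φ : N → locRing M := fun n => ⟨blockCoeff (conjClosure N b) n, hA n⟩
  have hcc : ∀ u x : G, red M (extZero N φ (u * x * u⁻¹)) = red M (extZero N φ x) := by
    intro u x
    by_cases hx : x ∈ N
    · rw [extZero, dif_pos (hN.conj_mem x hx u), extZero, dif_pos hx]
      exact congrArg (red M) (Subtype.ext (sum_blockCoeff_conjClosure N b u ⟨x, hx⟩))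
    · rw [extZero_of_not_mem N _ hx, extZero_of_not_mem]
      intro hux
      exact hx (by simpa [mul_assoc] using hN.conj_mem _ hux u⁻¹)
  refine ⟨⟨ofFun fun g => red M (extZero N φ g), ofFun_mem_center hcc⟩,
    fun g hg => by simp [extZero_of_not_mem N _ hg], fun θ => ?_⟩
  have e : resCenter N (⟨ofFun fun g => red M (extZero N φ g), ofFun_mem_center hcc⟩ :
      Subalgebra.center (ResField M) (MonoidAlgebra (ResField M) G)) =
      mapCenter (red M) (idemR M (conjClosure N b) hA) :=
    Subtype.ext (MonoidAlgebra.ext (Finsupp.ext fun n => by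
      simp [coe_mapCenter, idemR, extZero_coe, φ]))
  rw [e, lam_mapCenter, lamR_idemR, red_blockInd]

/-- On central elements supported in `N`, a central character is given by any constituent. -/
theorem lam_eq_lam_resCenter_of_constituent [Fintype N] {χ : IrrCharacter G} {θ : IrrCharacter N}
    (hc : classInner (fun n : N => (χ : G → ℂ) n) (θ : N → ℂ) ≠ 0)
    (z : Subalgebra.center (ResField M) (MonoidAlgebra (ResField M) G))
    (hz : ∀ g, g ∉ N → (z : MonoidAlgebra (ResField M) G).coeff g = 0) :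
    lam M χ z = lam M θ (resCenter N z) := by
  rw [lam_resCenter, lam_apply]
  unfold classEval
  refine Finset.sum_congr rfl fun C _ => ?_
  by_cases hC : Quotient.out C ∈ N
  · have e : centralR M χ (Quotient.out C) = inducedR M N θ (Quotient.out C) :=
      Subtype.ext (by
        rw [coe_centralR, coe_inducedR]
        exact centralChar_eq_inducedCentralChar N hc ⟨Quotient.out C, hC⟩)
    simp only [e]
  · rw [hz _ hC, zero_mul, zero_mul]

/-- Characters of `N` in one block have congruent induced central characters. -/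
theorem lam_resCenter_congr {θ θ' : IrrCharacter N} (h : SameBlock M (θ : N → ℂ) (θ' : N → ℂ))
    (a : Subalgebra.center (ResField M) (MonoidAlgebra (ResField M) G)) :
    lam M θ (resCenter N a) = lam M θ' (resCenter N a) := by
  rw [sameBlock_iff_lam.1 h]

/-- Blocks of constituents over one block of `G` are conjugate. -/
theorem constituent_mem_conjClosure [Fintype N] {b : Set (IrrCharacter N)} (hb : IsPBlock M b)
    {χ χ' : IrrCharacter G} (hχ : SameBlock M (χ : G → ℂ) (χ' : G → ℂ))
    {θ ψ : IrrCharacter N} (hθ : θ ∈ b)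
    (hθc : classInner (fun n : N => (χ : G → ℂ) n) (θ : N → ℂ) ≠ 0)
    (hψc : classInner (fun n : N => (χ' : G → ℂ) n) (ψ : N → ℂ) ≠ 0) :
    ψ ∈ conjClosure N b := by
  obtain ⟨z, hz, hzl⟩ := exists_extIdem (M := M) N hb
  have h1 := lam_eq_lam_resCenter_of_constituent (M := M) N hθc z hz
  have h2 := lam_eq_lam_resCenter_of_constituent (M := M) N hψc z hz
  rw [← sameBlock_iff_lam.1 hχ, h1, hzl, hzl, blockInd, blockInd,
    if_pos (subset_conjClosure N b hθ)] at h2
  by_contra hn
  rw [if_neg hn] at h2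
  exact one_ne_zero h2

/-- Passman's criterion, from congruent central characters to a constituent in the block. -/
theorem exists_constituent_mem [Fintype N] {b : Set (IrrCharacter N)} (hb : IsPBlock M b)
    {χ : IrrCharacter G} {θ : IrrCharacter N} (hθ : θ ∈ b)
    (h : ∀ n : N, MemLocalIdeal M
      (centralChar (χ : G → ℂ) (n : G) - inducedCentralChar N (θ : N → ℂ) (n : G))) :
    ∃ θ' ∈ b, classInner (fun n : N => (χ : G → ℂ) n) (θ' : N → ℂ) ≠ 0 := by
  haveI := Fintype.ofFinite G
  obtain ⟨θ₀, hθ₀, hc⟩ := Clifford.exists_constituent_res N χ.2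
  set t : IrrCharacter N := ⟨θ₀, hθ₀⟩ with ht
  obtain ⟨z, hz, hzl⟩ := exists_extIdem (M := M) N (isPBlock_blockOf (M := M) t)
  have h1 := lam_eq_lam_resCenter_of_constituent (M := M) N (θ := t) hc z hz
  have h2 : lam M χ z = lam M θ (resCenter N z) := by
    rw [lam_resCenter, lam_apply]
    unfold classEval
    refine Finset.sum_congr rfl fun C _ => ?_
    by_cases hC : Quotient.out C ∈ N
    · congr 1
      exact (memLocalIdeal_sub_iff (x := centralR M χ (Quotient.out C))
        (y := inducedR M N θ (Quotient.out C))).1 (h ⟨_, hC⟩)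
    · rw [hz _ hC, zero_mul, zero_mul]
  rw [h1, hzl, hzl, blockInd, blockInd,
    if_pos (subset_conjClosure N _ (mem_blockOf_self t))] at h2
  have hmem : θ ∈ conjClosure N (blockOf M (t : N → ℂ)) := by
    by_contra hn
    rw [if_neg hn] at h2
    exact one_ne_zero h2
  obtain ⟨g, hg⟩ := hmem
  refine ⟨conjIrr N t g⁻¹, ?_, ?_⟩
  · have h3 := sameBlock_conjIrr N (hg : SameBlock M (t : N → ℂ) (conjIrr N θ g : N → ℂ)) g⁻¹
    rw [← conjIrr_mul, mul_inv_cancel, conjIrr_one] at h3
    rw [IsPBlock.eq_blockOf hb hθ]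
    exact SameBlock.symm' h3
  · rw [coe_conjIrr, Clifford.classInner_res_conjFun N (IsIrrCharacter.isClassFunction χ.2)]
    exact hc

/-- Over a normal subgroup containing all regular elements, the covered blocks determine the
block. -/
theorem sameBlock_of_constituent_sameBlock [Fintype N] {p : ℕ} [Fact p.Prime]
    (hM : IsPModular p M) (hreg : ∀ g : G, ¬ p ∣ orderOf g → g ∈ N) {χ χ' : IrrCharacter G}
    {θ θ' : IrrCharacter N} (hθ : SameBlock M (θ : N → ℂ) (θ' : N → ℂ))
    (hc : classInner (fun n : N => (χ : G → ℂ) n) (θ : N → ℂ) ≠ 0)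
    (hc' : classInner (fun n : N => (χ' : G → ℂ) n) (θ' : N → ℂ) ≠ 0) :
    SameBlock M (χ : G → ℂ) (χ' : G → ℂ) := by
  have hB := isPBlock_blockOf (M := M) χ
  have hsupp : ∀ g, g ∉ N → (blockIdem hB : MonoidAlgebra (ResField M) G).coeff g = 0 := by
    intro g hg
    rw [coeff_blockIdem_eq_zero_iff hB]
    have hp : p ∣ orderOf g := by
      by_contra h
      exact hg (hreg g h)
    rw [CfsgLib.BlockReg.blockCoeff_singular hM hB g hp]
    exact CfsgLib.BlockReg.memIdeal_zero hM
  have e1 := lam_eq_lam_resCenter_of_constituent (M := M) N hc _ hsupp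
  have e2 := lam_eq_lam_resCenter_of_constituent (M := M) N hc' _ hsupp
  rw [← lam_resCenter_congr N hθ, ← e1, lam_blockIdem_of_mem hB (mem_blockOf_self χ)] at e2
  rw [lam_blockIdem, blockInd] at e2
  by_contra hn
  have hmem : χ' ∉ blockOf M (χ : G → ℂ) := hn
  rw [if_neg hmem] at e2
  exact zero_ne_one e2

end Modular

omit hN [Finite G] in
/-- A subgroup of `p`-power index that is normal contains all regular elements. -/
theorem mem_of_regular_of_index [N.Normal] {p : ℕ} (hp : p.Prime) {k : ℕ} (hidx : N.index = p ^ k)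
    (g : G) (hg : ¬ p ∣ orderOf g) : g ∈ N := by
  have h1 : g ^ N.index ∈ N := Subgroup.pow_index_mem N g
  have hco : (orderOf g).Coprime N.index := by
    rw [hidx]; exact Nat.Coprime.pow_right _ ((hp.coprime_iff_not_dvd.2 hg).symm)
  obtain ⟨m, hm⟩ : ∃ m : ℕ, (g ^ N.index) ^ m = g := by
    obtain ⟨m, hm⟩ := exists_pow_eq_self_of_coprime hco.symm
    exact ⟨m, hm⟩
  rw [← hm]
  exact pow_mem h1 m

end CfsgLib.Blocks
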