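import Cfsg.Agent.Lib.Blocks.CentSylow
import Mathlib.GroupTheory.Nilpotent

/-!
# Classes with a given defect group in a group and in the normalizer of that group
-/

set_option autoImplicit false

namespace CfsgLib.Blocks

universe u

variable {G : Type u} [Group G] {p : ℕ} [Fact p.Prime] [Finite G]

/-- If a `p`-group `P` centralizing `c` is as large as a `p`-subgroup of `C(c) ⊓ N(P)` can be,
then it is a Sylow subgroup of `C(c)`. -/
lemma isCentSylow_of_local {P : Subgroup G} (hP : IsPGroup p P) {c : G}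
    (hc : c ∈ Subgroup.centralizer (P : Set G))
    (hmax : ∀ T : Subgroup G, IsPGroup p T →
      T ≤ Subgroup.centralizer ({c} : Set G) ⊓ Subgroup.normalizer (P : Set G) → P ≤ T → T = P) :
    IsCentSylow p c P := by
  obtain ⟨S, hS, hPS⟩ := exists_centSylow_ge hP (le_centralizer_singleton_iff.2 hc)
  by_cases hSP : S = P
  · exact hSP ▸ hS
  exfalso
  haveI : Group.IsNilpotent S := hS.isPGroup.isNilpotent
  have hne : P.subgroupOf S < ⊤ := by
    rw [lt_top_iff_ne_top]
    intro h
    exact hSP (le_antisymm (Subgroup.subgroupOf_eq_top.1 h) hPS)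
  have h1 := (Group.normalizerCondition_of_isNilpotent (G := S)) _ hne
  obtain ⟨u, hu, huP⟩ := SetLike.exists_of_lt h1
  have hun : (u : G) ∈ Subgroup.normalizer (P : Set G) := by
    rw [Subgroup.mem_normalizer_iff]
    intro w
    have key := fun hw : w ∈ S => Subgroup.mem_normalizer_iff.1 hu ⟨w, hw⟩
    constructor
    · intro hw
      exact (key (hPS hw)).1 hw
    · intro hw
      have hwS : w ∈ S := by
        have h2 := mul_mem (mul_mem (inv_mem u.2) (hPS hw)) u.2
        have e : (u : G)⁻¹ * ((u : G) * w * (u : G)⁻¹) * (u : G) = w := by group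
        rwa [e] at h2
      exact (key hwS).2 hw
  have hTS : P ⊔ Subgroup.zpowers (u : G) ≤ S :=
    sup_le hPS (Subgroup.zpowers_le.2 u.2)
  have hT := hmax _ (hS.isPGroup.to_le hTS) (le_inf (hTS.trans hS.le)
    (sup_le Subgroup.le_normalizer (Subgroup.zpowers_le.2 hun))) le_sup_left
  exact huP (hT.le (Subgroup.mem_sup_right (Subgroup.mem_zpowers _)))

/-- A `P`-centralizing element whose local Sylow subgroup is `P`. -/
lemma isCentSylow_of_local_sylow {P : Subgroup G} (hP : IsPGroup p P) {c : G}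
    (hc : c ∈ Subgroup.centralizer (P : Set G)) (K : Subgroup G)
    (hK : Subgroup.centralizer ({c} : Set G) ⊓ Subgroup.normalizer (P : Set G) = K)
    (S : Sylow p K) (hS : (S : Subgroup K).map K.subtype = P) : IsCentSylow p c P := by
  subst hK
  refine isCentSylow_of_local hP hc fun T hT hle hPT => le_antisymm ?_ hPT
  have hT' : IsPGroup p (T.subgroupOf (Subgroup.centralizer ({c} : Set G) ⊓
      Subgroup.normalizer (P : Set G))) := hT.of_equiv (Subgroup.subgroupOfEquivOfLe hle).symm
  have hle' : (S : Subgroup _) ≤ T.subgroupOf (Subgroup.centralizer ({c} : Set G) ⊓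
      Subgroup.normalizer (P : Set G)) := by
    intro u hu
    exact hPT (hS.le ⟨u, hu, rfl⟩)
  have h3 := S.3 hT' hle'
  intro t ht
  rw [← hS, ← h3]
  exact ⟨⟨t, hle ht⟩, ht, rfl⟩

/-- Two conjugate elements with the same Sylow subgroup `P` of their centralizers are conjugate in
the normalizer of `P`. -/
lemma exists_normalizer_conj {P : Subgroup G} {c₁ c₂ : G} (h1 : IsCentSylow p c₁ P)
    (h2 : IsCentSylow p c₂ P) (hc : IsConj c₁ c₂) :
    ∃ n ∈ Subgroup.normalizer (P : Set G), n * c₁ * n⁻¹ = c₂ := by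
  obtain ⟨z, rfl⟩ := isConj_iff.1 hc
  obtain ⟨w, hw, hwP⟩ := (h1.conj z).exists_conj_eq h2
  have hmap : P.map (MulAut.conj (w * z)).toMonoidHom = P := by
    rw [map_mul]
    conv_rhs => rw [← hwP]
    rw [Subgroup.map_map]
    rfl
  refine ⟨w * z, ?_, ?_⟩
  · rw [Subgroup.mem_normalizer_iff]
    intro u
    constructor
    · intro hu
      exact hmap.le ⟨u, hu, rfl⟩
    · intro hu
      obtain ⟨v, hv, hv'⟩ := hmap.ge hu
      have : v = u := (MulAut.conj (w * z)).injective hv'
      exact this ▸ hv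
  · have hw' := Subgroup.mem_centralizer_singleton_iff.1 hw
    calc w * z * c₁ * (w * z)⁻¹ = w * (z * c₁ * z⁻¹) * w⁻¹ := by group
      _ = z * c₁ * z⁻¹ * w * w⁻¹ := by rw [hw']
      _ = z * c₁ * z⁻¹ := by group

end CfsgLib.Blocks
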