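import Cfsg.Agent.Lib.Blocks.Defect
import Cfsg.Agent.Lib.Blocks.CentSylowLocal
import Cfsg.Agent.Lib.Blocks.Restrict

/-!
# Induced blocks and Brauer's first main theorem
-/

set_option autoImplicit false

namespace CfsgLib.Blocks

open Cfsg
open scoped Classical

universe u v w

variable {G : Type u} [Group G] [Finite G]

section Generic

variable {R : Type v} [CommRing R] {S : Type w} [CommRing S]

/-- The Brauer map between centres. -/
noncomputable def brCenter (P H : Subgroup G) (hN : H ≤ Subgroup.normalizer (P : Set G)) :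
    Subalgebra.center R (MonoidAlgebra R G) →ₗ[R] Subalgebra.center R (MonoidAlgebra R H) where
  toFun a := ⟨brTo P H (a : MonoidAlgebra R G), brTo_mem_center hN a.2⟩
  map_add' a b := Subtype.ext (brTo_add P H _ _)
  map_smul' r a := Subtype.ext (brTo_smul P H r _)

@[simp] theorem coe_brCenter (P H : Subgroup G) (hN : H ≤ Subgroup.normalizer (P : Set G))
    (a : Subalgebra.center R (MonoidAlgebra R G)) :
    (brCenter P H hN a : MonoidAlgebra R H) = brTo P H (a : MonoidAlgebra R G) := rfl

theorem mapCenter_brCenter (f : R →+* S) (P H : Subgroup G)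
    (hN : H ≤ Subgroup.normalizer (P : Set G)) (a : Subalgebra.center R (MonoidAlgebra R G)) :
    mapCenter f (brCenter P H hN a) = brCenter P H hN (mapCenter f a) := by
  refine Subtype.ext (MonoidAlgebra.ext (Finsupp.ext fun h => ?_))
  by_cases hc : (h : G) ∈ Subgroup.centralizer (P : Set G) <;> simp [coe_mapCenter, hc]

/-- The class sum of an element with defect group `D`, under the Brauer map at `D`. -/
theorem brTo_classSum_eq {p : ℕ} [Fact p.Prime] {D : Subgroup G}
    (h : Subgroup.normalizer (D : Set G)) (hh : IsCentSylow p (h : G) D) :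
    brTo D (Subgroup.normalizer (D : Set G)) (classSum R (h : G)) = classSum R h := by
  ext x
  rw [coeff_brTo_classSum, coeff_classSum]
  refine if_congr ⟨fun ⟨hc, hx⟩ => ?_, fun hc => ?_⟩ rfl rfl
  · have hxD : IsCentSylow p (x : G) D := isCentSylow_of_card (le_centralizer_singleton_iff.2 hx)
      (by rw [hh.card, card_centralizer_eq_of_isConj hc])
    obtain ⟨n, hn, hnx⟩ := exists_normalizer_conj hh hxD hc
    exact isConj_iff.2 ⟨⟨n, hn⟩, Subtype.ext hnx⟩
  · obtain ⟨n, rfl⟩ := isConj_iff.1 hc
    exact ⟨isConj_iff.2 ⟨n, rfl⟩, by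
      simpa using (conj_mem_centralizer_iff n.2 (h : G)).2 hh.mem_centralizer⟩

end Generic

theorem omega_brCenter_classSumC (P H : Subgroup G) (hN : H ≤ Subgroup.normalizer (P : Set G))
    (ξ : IrrCharacter H) (g : G) :
    omega ξ (brCenter P H hN (classSumC ℂ g)) = brauerCentralChar P H (ξ : H → ℂ) g := by
  haveI := Fintype.ofFinite H
  rw [omega_eq_sum, brauerCentralChar, finsum_mem_def, finsum_eq_sum_of_fintype, Finset.sum_div]
  refine Finset.sum_congr rfl fun h _ => ?_
  rw [coe_brCenter, coe_classSumC, coeff_brTo_classSum, Set.indicator_apply]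
  by_cases hh : IsConj g (h : G) ∧ (h : G) ∈ Subgroup.centralizer (P : Set G)
  · simp only [Set.mem_ofPred_eq]
    rw [if_pos hh, one_mul]
    simp [hh, -isConj_iff]
  · simp only [Set.mem_ofPred_eq]
    rw [if_neg hh, zero_mul, zero_div]
    simp [hh, -isConj_iff]

variable {p : ℕ} {M : Ideal AlgInt} [M.IsMaximal]

theorem brauerCentralChar_mem (P H : Subgroup G) (hN : H ≤ Subgroup.normalizer (P : Set G))
    (ξ : IrrCharacter H) (g : G) : brauerCentralChar P H (ξ : H → ℂ) g ∈ locRing M := by
  rw [← omega_brCenter_classSumC P H hN, ← mapCenter_classSumC (locRing M).subtype,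
    ← mapCenter_brCenter, ← coe_lamR]
  exact SetLike.coe_mem _

theorem red_brauerCentralChar (P H : Subgroup G) (hN : H ≤ Subgroup.normalizer (P : Set G))
    (ξ : IrrCharacter H) (g : G) :
    red M ⟨brauerCentralChar P H (ξ : H → ℂ) g, brauerCentralChar_mem P H hN ξ g⟩ =
      lam M ξ (brCenter P H hN (classSumC (ResField M) g)) := by
  rw [← mapCenter_classSumC (red M), ← mapCenter_brCenter, lam_mapCenter]
  congr 1
  apply Subtype.ext
  rw [coe_lamR, mapCenter_brCenter, mapCenter_classSumC, omega_brCenter_classSumC]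

variable [Fact p.Prime]

/-- The Brauer map as a homomorphism of algebras. -/
noncomputable def brHom (hM : IsPModular p M) {P H : Subgroup G} (hP : IsPGroup p P)
    (hCH : Subgroup.centralizer (P : Set G) ≤ H) (hN : H ≤ Subgroup.normalizer (P : Set G)) :
    Subalgebra.center (ResField M) (MonoidAlgebra (ResField M) G) →ₐ[ResField M]
      Subalgebra.center (ResField M) (MonoidAlgebra (ResField M) H) :=
  AlgHom.ofLinearMap (brCenter P H hN) (Subtype.ext (brTo_one P H)) fun a b => by
    haveI : CharP (ResField M) p := charP_resField hM.1 hM.2.2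
    exact Subtype.ext (brTo_mul hP hCH (conjFixed_of_mem_center a.2) (conjFixed_of_mem_center b.2))

@[simp] theorem brHom_apply (hM : IsPModular p M) {P H : Subgroup G} (hP : IsPGroup p P)
    (hCH : Subgroup.centralizer (P : Set G) ≤ H) (hN : H ≤ Subgroup.normalizer (P : Set G))
    (a : Subalgebra.center (ResField M) (MonoidAlgebra (ResField M) G)) :
    brHom hM hP hCH hN a = brCenter P H hN a := rfl

/-- For a normal `p`-subgroup of `H`, restriction and the Brauer map agree under central
characters. -/
theorem lam_resCenter_eq_brCenter (hM : IsPModular p M) {P H : Subgroup G} (hP : IsPGroup p P)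
    (hPH : P ≤ H) (hN : H ≤ Subgroup.normalizer (P : Set G)) (ξ : IrrCharacter H)
    (a : Subalgebra.center (ResField M) (MonoidAlgebra (ResField M) G)) :
    lam M ξ (resCenter H a) = lam M ξ (brCenter P H hN a) := by
  haveI : CharP (ResField M) p := charP_resField hM.1 hM.2.2
  haveI hnorm : (P.subgroupOf H).Normal := (Subgroup.normal_subgroupOf_iff hPH).2
    fun u n hu hn => (Subgroup.mem_normalizer_iff.1 (hN hn) u).1 hu
  have hP' : IsPGroup p (P.subgroupOf H) := hP.of_equiv (Subgroup.subgroupOfEquivOfLe hPH).symm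
  set d := resCenter H a - brCenter P H hN a with hd
  have hzero : ∀ x ∈ Subgroup.centralizer ((P.subgroupOf H : Subgroup H) : Set H),
      (d : MonoidAlgebra (ResField M) H).coeff x = 0 := by
    intro x hx
    have hxc : (x : G) ∈ Subgroup.centralizer (P : Set G) := by
      rw [Subgroup.mem_centralizer_iff]
      intro u hu
      exact congrArg Subtype.val (Subgroup.mem_centralizer_iff.1 hx ⟨u, hPH hu⟩ hu)
    simp [hd, hxc]
  obtain ⟨n, hn⟩ := isNilpotent_of_cosetSum hP' d.2
    (cosetSum_eq_zero_of_centralizer (p := p) hP' (conjFixed_of_mem_center d.2) hzero)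
  have h0 : lam M ξ d = 0 := by
    refine eq_zero_of_pow_eq_zero (n := n) ?_
    rw [← map_pow, show d ^ n = 0 from Subtype.ext (by simpa using hn), map_zero]
  rwa [hd, map_sub, sub_eq_zero] at h0

/-- Induced blocks from a local subgroup exist. -/
theorem exists_isInducedBlock (hM : IsPModular p M) {P H : Subgroup G} (hP : IsPGroup p P)
    (hPH : P ≤ H) (hCH : Subgroup.centralizer (P : Set G) ≤ H)
    (hN : H ≤ Subgroup.normalizer (P : Set G)) {b : Set (IrrCharacter H)} (hb : IsPBlock M b) :
    ∃ B, IsInducedBlock M H b B := by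
  obtain ⟨ξ, hξ⟩ := IsPBlock.nonempty hb
  obtain ⟨χ, hχ⟩ := exists_eq_lam ((lam M ξ).comp (brHom hM hP hCH hN))
  refine ⟨blockOf M (χ : G → ℂ), ?_⟩
  rw [IsPBlock.eq_blockOf hb hξ]
  refine isInducedBlock_of_lam_resCenter_eq ξ χ fun a => ?_
  rw [← hχ, lam_resCenter_eq_brCenter hM hP hPH hN]
  rfl

/-- The Brauer map computes the induced block. -/
theorem lam_brCenter_eq (hM : IsPModular p M) {P H : Subgroup G} (hP : IsPGroup p P)
    (hPH : P ≤ H) (hN : H ≤ Subgroup.normalizer (P : Set G)) {b : Set (IrrCharacter H)}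
    {B : Set (IrrCharacter G)} (hind : IsInducedBlock M H b B) {ξ : IrrCharacter H} (hξ : ξ ∈ b)
    {χ : IrrCharacter G} (hχ : χ ∈ B)
    (a : Subalgebra.center (ResField M) (MonoidAlgebra (ResField M) G)) :
    lam M ξ (brCenter P H hN a) = lam M χ a := by
  rw [← lam_resCenter_eq_brCenter hM hP hPH hN, IsInducedBlock.lam_resCenter_eq hind hξ hχ]

/-! ### Defect groups of induced blocks -/

omit [Fact p.Prime] [M.IsMaximal] in
theorem isDefectClass_conj {B : Set (IrrCharacter G)} {g : G} (hg : IsDefectClass M B g) (x : G) :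
    IsDefectClass M B (x * g * x⁻¹) := by
  unfold IsDefectClass
  rw [blockCoeff_conj]
  exact ⟨hg.1, hg.2.1, fun χ hχ => by rw [centralChar_conj]; exact hg.2.2 χ hχ⟩

omit [M.IsMaximal] in
theorem IsDefectGroup.conj' {B : Set (IrrCharacter G)} {D : Subgroup G}
    (hD : IsDefectGroup p M B D) (x : G) :
    IsDefectGroup p M B (D.map (MulAut.conj x).toMonoidHom) := by
  obtain ⟨g, hg, hgD⟩ := (isDefectGroup_iff D).1 hD
  exact ⟨x * g * x⁻¹, isDefectClass_conj hg x, hgD.conj x⟩

/-- A subgroup of the right order inside a conjugate of a defect group is a defect group. -/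
theorem isDefectGroup_of_conj_le {B : Set (IrrCharacter G)} {D E : Subgroup G}
    (hE : IsDefectGroup p M B E) {x : G} (hx : D.map (MulAut.conj x).toMonoidHom ≤ E)
    (hcard : Nat.card E ≤ Nat.card D) : IsDefectGroup p M B D := by
  have h := Subgroup.eq_of_le_of_card_ge hx (by rw [card_map_conj]; exact hcard)
  have h2 := IsDefectGroup.conj' hE x⁻¹
  rw [← h, Subgroup.map_map] at h2
  convert h2
  ext u
  simp [mul_assoc]

/-- A defect group of a block is contained in a defect group of its induced block. -/
theorem exists_defectGroup_ge (hM : IsPModular p M) {H : Subgroup G} {b : Set (IrrCharacter H)}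
    {B : Set (IrrCharacter G)} (hind : IsInducedBlock M H b B) {D : Subgroup H}
    (hD : IsDefectGroup p M b D) :
    ∃ E : Subgroup G, IsDefectGroup p M B E ∧ D.map H.subtype ≤ E := by
  obtain ⟨E, hE⟩ := exists_defectGroup hM hind.2.1
  obtain ⟨g, hg, hgE⟩ := (isDefectGroup_iff E).1 hE
  obtain ⟨χ, hχ⟩ := IsPBlock.nonempty hind.2.1
  obtain ⟨ξ, hξ⟩ := IsPBlock.nonempty hind.1
  have hne : lam M ξ (resCenter H (classSumC (ResField M) g)) ≠ 0 := by
    rw [IsInducedBlock.lam_resCenter_eq hind hξ hχ, Ne, lam_classSumC_eq_zero_iff]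
    exact hg.2.2 χ hχ
  rw [lam_apply, classEval] at hne
  obtain ⟨C, -, hC⟩ := Finset.exists_ne_zero_of_sum_ne_zero hne
  obtain ⟨hC1, hC2⟩ := mul_ne_zero_iff.1 hC
  have hconj : IsConj g ((Quotient.out C : H) : G) := by
    by_contra hn
    exact hC1 (by simp [hn, -isConj_iff])
  rw [Ne, red_eq_zero, coe_centralR] at hC2
  obtain ⟨c, hc, hcD⟩ := exists_isConj_centralizer_defectGroup hM hind.1 hD hξ hC2
  obtain ⟨n, rfl⟩ := isConj_iff.1 hc
  have hcD' : ((n * Quotient.out C * n⁻¹ : H) : G) ∈
      Subgroup.centralizer ((D.map H.subtype : Subgroup G) : Set G) := by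
    rw [Subgroup.mem_centralizer_iff]
    rintro _ ⟨u, hu, rfl⟩
    exact congrArg Subtype.val (Subgroup.mem_centralizer_iff.1 hcD u hu)
  obtain ⟨x, hx⟩ := hgE.exists_conj_ge ((isPGroup_defectGroup hD).map H.subtype)
    (hconj.trans (isConj_iff.2 ⟨(n : G), rfl⟩)) hcD'
  refine ⟨E.map (MulAut.conj x⁻¹).toMonoidHom, IsDefectGroup.conj' hE x⁻¹, fun u hu => ?_⟩
  refine ⟨_, hx ⟨u, hu, rfl⟩, ?_⟩
  simp [mul_assoc]

/-! ### The first main theorem -/

omit [M.IsMaximal] in
theorem isCentSylow_normalizer_iff {D : Subgroup G} (hD : IsPGroup p D)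
    (h : Subgroup.normalizer (D : Set G)) :
    IsCentSylow p h (D.subgroupOf (Subgroup.normalizer (D : Set G))) ↔
      IsCentSylow p (h : G) D := by
  have hDN : D ≤ Subgroup.normalizer (D : Set G) := Subgroup.le_normalizer
  have hD' : IsPGroup p (D.subgroupOf (Subgroup.normalizer (D : Set G))) :=
    hD.of_equiv (Subgroup.subgroupOfEquivOfLe hDN).symm
  have hcard : Nat.card (D.subgroupOf (Subgroup.normalizer (D : Set G))) = Nat.card D :=
    Nat.card_congr (Subgroup.subgroupOfEquivOfLe hDN).toEquiv
  constructor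
  · intro hs
    refine isCentSylow_of_local hD (Subgroup.mem_centralizer_iff.2 fun u hu => ?_) ?_
    · exact congrArg Subtype.val
        (Subgroup.mem_centralizer_iff.1 hs.mem_centralizer ⟨u, hDN hu⟩ hu)
    · intro T hT hTle hDT
      have hTN : T ≤ Subgroup.normalizer (D : Set G) := hTle.trans inf_le_right
      have hT' : IsPGroup p (T.subgroupOf (Subgroup.normalizer (D : Set G))) :=
        hT.of_equiv (Subgroup.subgroupOfEquivOfLe hTN).symm
      have hTC : T.subgroupOf (Subgroup.normalizer (D : Set G)) ≤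
          Subgroup.centralizer ({h} : Set (Subgroup.normalizer (D : Set G))) := by
        intro t ht
        have h2 := Subgroup.mem_centralizer_singleton_iff.1 (hTle (Subgroup.mem_subgroupOf.1 ht)).1
        exact Subgroup.mem_centralizer_singleton_iff.2 (Subtype.ext h2)
      obtain ⟨E, hE, hTE⟩ := exists_centSylow_ge hT' hTC
      refine (Subgroup.eq_of_le_of_card_ge hDT ?_).symm
      rw [← hcard, hs.card, ← hE.card, ← Nat.card_congr (Subgroup.subgroupOfEquivOfLe hTN).toEquiv]
      exact Subgroup.card_le_of_le hTE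
  · intro hs
    have hle : D.subgroupOf (Subgroup.normalizer (D : Set G)) ≤
        Subgroup.centralizer ({h} : Set (Subgroup.normalizer (D : Set G))) := fun t ht =>
      Subgroup.mem_centralizer_singleton_iff.2 (Subtype.ext
        (Subgroup.mem_centralizer_singleton_iff.1 (hs.le (Subgroup.mem_subgroupOf.1 ht))))
    obtain ⟨E, hE, hDE⟩ := exists_centSylow_ge hD' hle
    have hE' : E.map (Subgroup.normalizer (D : Set G)).subtype ≤
        Subgroup.centralizer ({(h : G)} : Set G) := by
      rintro _ ⟨t, ht, rfl⟩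
      exact Subgroup.mem_centralizer_singleton_iff.2
        (congrArg Subtype.val (Subgroup.mem_centralizer_singleton_iff.1 (hE.le ht)))
    obtain ⟨F', hF', hEF⟩ := exists_centSylow_ge (hE.isPGroup.map _) hE'
    rw [Subgroup.eq_of_le_of_card_ge hDE]
    · exact hE
    · rw [hcard, hs.card, ← hF'.card]
      have h1 := Subgroup.card_le_of_le hEF
      rwa [Subgroup.card_map_of_injective (Subgroup.subtype_injective _)] at h1

/-- First main theorem, part one. -/
theorem firstMain_exists_induced (hM : IsPModular p M) {D : Subgroup G} (hD : IsPGroup p D)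
    {b : Set (IrrCharacter (Subgroup.normalizer (D : Set G)))} (hb : IsPBlock M b)
    (hbD : IsDefectGroup p M b (D.subgroupOf (Subgroup.normalizer (D : Set G)))) :
    ∃ B : Set (IrrCharacter G), IsPBlock M B ∧ IsDefectGroup p M B D ∧
      IsInducedBlock M (Subgroup.normalizer (D : Set G)) b B := by
  obtain ⟨B, hind⟩ := exists_isInducedBlock hM hD Subgroup.le_normalizer
    (Subgroup.centralizer_le_normalizer _) le_rfl hb
  refine ⟨B, hind.2.1, ?_, hind⟩
  obtain ⟨h, hh, hhD⟩ := (isDefectGroup_iff _).1 hbD
  have hhG := (isCentSylow_normalizer_iff hD h).1 hhD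
  obtain ⟨χ, hχ⟩ := IsPBlock.nonempty hind.2.1
  obtain ⟨ξ, hξ⟩ := IsPBlock.nonempty hb
  have hne : ¬ MemLocalIdeal M (centralChar (χ : G → ℂ) (h : G)) := by
    rw [← lam_classSumC_eq_zero_iff, ← lam_brCenter_eq hM hD Subgroup.le_normalizer le_rfl hind hξ hχ,
      show brCenter D _ le_rfl (classSumC (ResField M) (h : G)) = classSumC (ResField M) h from
        Subtype.ext (brTo_classSum_eq h hhG), lam_classSumC_eq_zero_iff]
    exact hh.2.2 ξ hξ
  obtain ⟨E, hE, hDE⟩ := exists_defectGroup_ge hM hind hbD
  rw [Subgroup.map_subgroupOf_eq_of_le Subgroup.le_normalizer] at hDE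
  obtain ⟨c, hhc, hc⟩ := exists_isConj_centralizer_defectGroup hM hind.2.1 hE hχ hne
  obtain ⟨x, hx⟩ := hhG.exists_conj_ge (isPGroup_defectGroup hE) hhc hc
  have hcard : Nat.card E ≤ Nat.card D := by
    rw [← card_map_conj x E]; exact Subgroup.card_le_of_le hx
  exact Subgroup.eq_of_le_of_card_ge hDE hcard ▸ hE

/-- A block with defect group at most as large as a normal `p`-subgroup. -/
theorem isDefectGroup_of_induced (hM : IsPModular p M) {D : Subgroup G} (hD : IsPGroup p D)
    {b : Set (IrrCharacter (Subgroup.normalizer (D : Set G)))} {B : Set (IrrCharacter G)}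
    (hind : IsInducedBlock M (Subgroup.normalizer (D : Set G)) b B) (hBD : IsDefectGroup p M B D) :
    IsDefectGroup p M b (D.subgroupOf (Subgroup.normalizer (D : Set G))) := by
  obtain ⟨D', hD'⟩ := exists_defectGroup hM hind.1
  haveI : (D.subgroupOf (Subgroup.normalizer (D : Set G))).Normal :=
    (Subgroup.normal_subgroupOf_iff Subgroup.le_normalizer).2
      fun u n hu hn => (Subgroup.mem_normalizer_iff.1 hn u).1 hu
  have hle := le_defectGroup_of_normal hM hind.1 hD'
    (Q := D.subgroupOf (Subgroup.normalizer (D : Set G)))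
    (hD.of_equiv (Subgroup.subgroupOfEquivOfLe Subgroup.le_normalizer).symm)
  obtain ⟨E, hE, hDE⟩ := exists_defectGroup_ge hM hind hD'
  obtain ⟨x, hx⟩ := defectGroup_conj hM hind.2.1 hE hBD
  have hcard : Nat.card D' ≤ Nat.card (D.subgroupOf (Subgroup.normalizer (D : Set G))) := by
    rw [Nat.card_congr (Subgroup.subgroupOfEquivOfLe (Subgroup.le_normalizer (H := D))).toEquiv]
    calc Nat.card D' = Nat.card (D'.map (Subgroup.normalizer (D : Set G)).subtype) :=
          (Subgroup.card_map_of_injective (Subgroup.subtype_injective _)).symm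
      _ ≤ Nat.card E := Subgroup.card_le_of_le hDE
      _ = Nat.card D := by rw [← hx, card_map_conj]
  rw [Subgroup.eq_of_le_of_card_ge hle hcard]
  exact hD'

/-- The central character of a block with normal defect group at elements that are not in a class
with that defect group. -/
theorem firstMain_unique (hM : IsPModular p M) {D : Subgroup G} (hD : IsPGroup p D)
    {b b' : Set (IrrCharacter (Subgroup.normalizer (D : Set G)))} {B : Set (IrrCharacter G)}
    (hb : IsDefectGroup p M b (D.subgroupOf (Subgroup.normalizer (D : Set G))))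
    (hb' : IsDefectGroup p M b' (D.subgroupOf (Subgroup.normalizer (D : Set G))))
    (hind : IsInducedBlock M (Subgroup.normalizer (D : Set G)) b B)
    (hind' : IsInducedBlock M (Subgroup.normalizer (D : Set G)) b' B) : b = b' := by
  haveI : CharP (ResField M) p := charP_resField hM.1 hM.2.2
  obtain ⟨h, hh, hhD⟩ := (isDefectGroup_iff _).1 hb
  obtain ⟨ξ, hξ⟩ := IsPBlock.nonempty hind.1
  obtain ⟨ξ', hξ'⟩ := IsPBlock.nonempty hind'.1
  obtain ⟨χ, hχ⟩ := IsPBlock.nonempty hind.2.1
  have hagree : ∀ w : Subgroup.normalizer (D : Set G), IsCentSylow p (w : G) D →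
      lam M ξ (classSumC (ResField M) w) = lam M ξ' (classSumC (ResField M) w) := by
    intro w hw
    rw [show classSumC (ResField M) w = brCenter D _ le_rfl (classSumC (ResField M) (w : G)) from
      Subtype.ext (brTo_classSum_eq w hw).symm,
      lam_brCenter_eq hM hD Subgroup.le_normalizer le_rfl hind hξ hχ,
      lam_brCenter_eq hM hD Subgroup.le_normalizer le_rfl hind' hξ' hχ]
  have hkey : ∀ z : Subalgebra.center (ResField M)
      (MonoidAlgebra (ResField M) (Subgroup.normalizer (D : Set G))),
      lam M ξ (z * classSumC (ResField M) h) = lam M ξ' (z * classSumC (ResField M) h) := by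
    intro z
    haveI := Fintype.ofFinite (Subgroup.normalizer (D : Set G))
    set u := z * classSumC (ResField M) h
    rw [center_eq_sum_classSumC u, map_sum, map_sum]
    refine Finset.sum_congr rfl fun C _ => ?_
    rw [map_smul, map_smul]
    by_cases h0 : (u : MonoidAlgebra (ResField M) _).coeff (Quotient.out C) = 0
    · simp [h0]
    congr 1
    set w := Quotient.out C
    by_cases hw : IsCentSylow p (w : G) D
    · exact hagree w hw
    rw [← isCentSylow_normalizer_iff hD] at hw
    have hzero : ∀ (c : Set (IrrCharacter (Subgroup.normalizer (D : Set G)))) (η : _),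
        IsPBlock M c → IsDefectGroup p M c (D.subgroupOf (Subgroup.normalizer (D : Set G))) →
        η ∈ c → lam M η (classSumC (ResField M) w) = 0 := by
      intro c η hc hcD hη
      by_contra hne
      rw [lam_classSumC_eq_zero_iff] at hne
      obtain ⟨w', hww', hw'⟩ := exists_isConj_centralizer_defectGroup hM hc hcD hη hne
      have hwD : w ∈ Subgroup.centralizer
          ((D.subgroupOf (Subgroup.normalizer (D : Set G)) : Subgroup _) : Set _) := by
        obtain ⟨n, rfl⟩ := isConj_iff.1 hww'
        refine (conj_mem_centralizer_iff ?_ w).1 hw'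
        haveI hn : (D.subgroupOf (Subgroup.normalizer (D : Set G))).Normal :=
          (Subgroup.normal_subgroupOf_iff Subgroup.le_normalizer).2
            fun a b ha hb => (Subgroup.mem_normalizer_iff.1 hb a).1 ha
        rw [Subgroup.normalizer_eq_top (H := D.subgroupOf (Subgroup.normalizer (D : Set G)))]
        trivial
      obtain ⟨E, hE, hDE⟩ := exists_centSylow_ge
        (hD.of_equiv (Subgroup.subgroupOfEquivOfLe Subgroup.le_normalizer).symm)
        (le_centralizer_singleton_iff.2 hwD)
      have hu0 : (u : MonoidAlgebra (ResField M) _).coeff w ≠ 0 := h0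
      have huc : (u : MonoidAlgebra (ResField M) _) =
          classSum (ResField M) h * (z : MonoidAlgebra (ResField M) _) :=
        (Subalgebra.mem_center_iff.1 (classSum_mem_center h) _).trans rfl
      rw [huc, coeff_mul_eq_sum_centralizer hE.isPGroup
        (conjFixed_of_mem_center (classSum_mem_center h)) (conjFixed_of_mem_center z.2)
        hE.mem_centralizer] at hu0
      obtain ⟨x, hx, hx0⟩ := Finset.exists_ne_zero_of_sum_ne_zero hu0
      have hhx : IsConj h x := by
        by_contra hhx
        exact hx0 (by rw [coeff_classSum, if_neg hhx, zero_mul])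
      obtain ⟨y, hy⟩ := hhD.exists_conj_ge hE.isPGroup hhx (Finset.mem_filter.1 hx).2
      refine hw ((Subgroup.eq_of_le_of_card_ge hDE ?_) ▸ hE)
      rw [← card_map_conj y E]
      exact Subgroup.card_le_of_le hy
    rw [hzero b ξ hind.1 hb hξ, hzero b' ξ' hind'.1 hb' hξ']
  have hne : lam M ξ (classSumC (ResField M) h) ≠ 0 := by
    rw [Ne, lam_classSumC_eq_zero_iff]; exact hh.2.2 ξ hξ
  have hhh : lam M ξ (classSumC (ResField M) h) = lam M ξ' (classSumC (ResField M) h) :=
    hagree h ((isCentSylow_normalizer_iff hD h).1 hhD)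
  refine IsPBlock.eq_of_mem hind.1 hind'.1 hξ ((IsPBlock.mem_iff hind'.1 hξ').2 ?_)
  refine AlgHom.ext fun z => ?_
  have h1 := hkey z
  rw [map_mul, map_mul, ← hhh] at h1
  exact (mul_right_cancel₀ hne h1).symm

/-- A block of `G` whose idempotent survives the Brauer map is induced from the local subgroup. -/
theorem exists_inducing_block (hM : IsPModular p M) {P H : Subgroup G} (hP : IsPGroup p P)
    (hPH : P ≤ H) (hCH : Subgroup.centralizer (P : Set G) ≤ H)
    (hN : H ≤ Subgroup.normalizer (P : Set G)) {B : Set (IrrCharacter G)} (hB : IsPBlock M B)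
    (hne : brTo P H (blockIdem hB : MonoidAlgebra (ResField M) G) ≠ 0) :
    ∃ b, IsInducedBlock M H b B := by
  obtain ⟨ξ, hξ⟩ : ∃ ξ : IrrCharacter H, lam M ξ (brCenter P H hN (blockIdem hB)) ≠ 0 := by
    by_contra hall
    push Not at hall
    obtain ⟨n, hn⟩ := isNilpotent_of_lam_eq_zero _ hall
    apply hne
    have hid : IsIdempotentElem (brHom hM hP hCH hN (blockIdem hB)) :=
      (isIdempotentElem_blockIdem hB).map _
    have h0 : brHom hM hP hCH hN (blockIdem hB) = 0 := by
      rw [← hid.pow_succ_eq n, pow_succ]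
      rw [brHom_apply, hn, zero_mul]
    exact congrArg Subtype.val h0
  obtain ⟨B', hind⟩ := exists_isInducedBlock hM hP hPH hCH hN (isPBlock_blockOf (M := M) ξ)
  refine ⟨blockOf M (ξ : H → ℂ), ?_⟩
  obtain ⟨χ, hχ⟩ := IsPBlock.nonempty hind.2.1
  rw [lam_brCenter_eq hM hP hPH hN hind (mem_blockOf_self ξ) hχ, lam_blockIdem] at hξ
  have hmem : χ ∈ B := by
    by_contra h
    exact hξ (if_neg h)
  exact IsPBlock.eq_of_mem hind.2.1 hB hχ hmem ▸ hind

/-- Existence of the Brauer correspondent. -/
theorem firstMain_exists_correspondent (hM : IsPModular p M) {D : Subgroup G}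
    {B : Set (IrrCharacter G)} (hB : IsPBlock M B) (hBD : IsDefectGroup p M B D) :
    ∃ b, IsDefectGroup p M b (D.subgroupOf (Subgroup.normalizer (D : Set G))) ∧
      IsInducedBlock M (Subgroup.normalizer (D : Set G)) b B := by
  have hD := isPGroup_defectGroup hBD
  have hne : brTo D (Subgroup.normalizer (D : Set G))
      (blockIdem hB : MonoidAlgebra (ResField M) G) ≠ 0 :=
    (brTo_blockIdem_ne_zero_iff hM hB hBD hD (Subgroup.centralizer_le_normalizer _)).2
      ⟨1, by rintro _ ⟨u, hu, rfl⟩; simpa using hu⟩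
  obtain ⟨b, hind⟩ := exists_inducing_block hM hD Subgroup.le_normalizer
    (Subgroup.centralizer_le_normalizer _) le_rfl hB hne
  exact ⟨b, isDefectGroup_of_induced hM hD hind hBD, hind⟩

/-- A defect group is the largest normal `p`-subgroup of its normalizer. -/
theorem map_pCore_normalizer_defectGroup (hM : IsPModular p M) {D : Subgroup G}
    {B : Set (IrrCharacter G)} (hB : IsPBlock M B) (hBD : IsDefectGroup p M B D) :
    (Cfsg.pCore p (Subgroup.normalizer (D : Set G))).map (Subgroup.normalizer (D : Set G)).subtype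
      = D := by
  obtain ⟨b, hbD, hind⟩ := firstMain_exists_correspondent hM hB hBD
  haveI : (D.subgroupOf (Subgroup.normalizer (D : Set G))).Normal :=
    (Subgroup.normal_subgroupOf_iff Subgroup.le_normalizer).2
      fun a b ha hb => (Subgroup.mem_normalizer_iff.1 hb a).1 ha
  have h : Cfsg.pCore p (Subgroup.normalizer (D : Set G)) =
      D.subgroupOf (Subgroup.normalizer (D : Set G)) :=
    le_antisymm (pCore_le_defectGroup hM hind.1 hbD)
      (CfsgLib.Solvable.le_pCore inferInstance (isPGroup_defectGroup hbD))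
  rw [h, Subgroup.map_subgroupOf_eq_of_le Subgroup.le_normalizer]

end CfsgLib.Blocks
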