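import Cfsg.Agent.Lib.Blocks.CentralizingDefect
import Cfsg.Agent.Lib.Blocks.Cover
import Cfsg.Agent.Lib.Blocks.Induced
import Cfsg.Agent.Lib.Blocks.Pairs.NormalSub
import Mathlib.GroupTheory.Nilpotent
import Mathlib.RingTheory.IntegralClosure.IsIntegralClosure.Basic

/-!
# Green's theorem: a defect group is the intersection of two Sylow subgroups
-/

set_option autoImplicit false
set_option maxHeartbeats 1000000
set_option synthInstance.maxHeartbeats 400000

namespace CfsgLib.Blocks

open Cfsg CfsgLib.Char CfsgLib.BlockReg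
open scoped ComplexConjugate Classical

universe u v

variable {G : Type u} [Group G] [Finite G] {p : ℕ} [Fact p.Prime] {M : Ideal AlgInt}

omit [Finite G] in
theorem mem_inf_map_conj_iff (S : Subgroup G) (x y : G) :
    y ∈ S ⊓ S.map (MulAut.conj x).toMonoidHom ↔ y ∈ S ∧ x⁻¹ * y * x ∈ S := by
  rw [Subgroup.mem_inf, and_congr_right_iff]
  intro _
  constructor
  · rintro ⟨w, hw, rfl⟩
    simpa [mul_assoc] using hw
  · intro h
    exact ⟨_, h, by simp [mul_assoc]⟩

/-- The trace of a double coset operator on the fixed space of the subgroup is integral. -/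
theorem isIntegral_hecke_trace [Fintype G] (S : Subgroup G) [Fintype S] (χ : IrrCharacter G)
    (x : G) :
    IsIntegral ℤ ((∑ v : S, (χ : G → ℂ) (x * v)) /
      (Nat.card (S ⊓ S.map (MulAut.conj x).toMonoidHom : Subgroup G) : ℂ)) := by
  obtain ⟨n, ρ, -, hρ⟩ := χ.2
  rw [← hρ]
  set R : Subgroup G := S ⊓ S.map (MulAut.conj x).toMonoidHom with hR
  set E : Module.End ℂ (Fin n → ℂ) := (Nat.card S : ℂ)⁻¹ • ∑ v : S, ρ v with hE
  have hS0 : (Nat.card S : ℂ) ≠ 0 := Nat.cast_ne_zero.2 Nat.card_pos.ne'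
  have hR0 : (Nat.card R : ℂ) ≠ 0 := Nat.cast_ne_zero.2 Nat.card_pos.ne'
  have hvE : ∀ v : S, ρ v * E = E := by
    intro v
    rw [hE, mul_smul_comm, Finset.mul_sum]
    congr 1
    exact Fintype.sum_equiv (Equiv.mulLeft v) _ _ fun w => by simp
  have hEE : E * E = E := by
    conv_lhs => arg 1; rw [hE]
    rw [smul_mul_assoc, Finset.sum_mul, Finset.sum_congr rfl fun v _ => hvE v, Finset.sum_const,
      Finset.card_univ, ← Nat.cast_smul_eq_nsmul ℂ, smul_smul, ← Nat.card_eq_fintype_card,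
      inv_mul_cancel₀ hS0, one_smul]
  set I := (Finset.univ : Finset S).image (fun u : S => (((u : G) * x : G) : G ⧸ S)) with hI
  set T : Module.End ℂ (Fin n → ℂ) := ∑ q ∈ I, ρ q.out with hT
  set A : Module.End ℂ (Fin n → ℂ) := ∑ u : S, ρ ((u : G) * x) * E with hA
  have hrep : ∀ u : S, ρ ((u : G) * x) * E = ρ ((((u : G) * x : G) : G ⧸ S).out) * E := by
    intro u
    obtain ⟨k, hk⟩ := QuotientGroup.mk_out_eq_mul S ((u : G) * x)
    rw [hk, map_mul ρ ((u : G) * x), mul_assoc, hvE k]
  have hfibre : ∀ u₀ : S,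
      (Finset.univ.filter fun u : S => (((u : G) * x : G) : G ⧸ S) = (((u₀ : G) * x : G) : G ⧸ S)).card
        = Nat.card R := by
    intro u₀
    rw [← Fintype.card_subtype, ← Nat.card_eq_fintype_card]
    refine Nat.card_congr
      { toFun := fun u => ⟨(u₀ : G)⁻¹ * u.1, ?_⟩
        invFun := fun r => ⟨⟨(u₀ : G) * r.1, S.mul_mem u₀.2 r.2.1⟩, ?_⟩
        left_inv := fun u => by ext; simp
        right_inv := fun r => by ext; simp }
    · rw [mem_inf_map_conj_iff]
      refine ⟨S.mul_mem (S.inv_mem u₀.2) u.1.2, ?_⟩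
      have h := QuotientGroup.eq.1 u.2.symm
      have e : x⁻¹ * ((u₀ : G)⁻¹ * (u.1 : G)) * x = ((u₀ : G) * x)⁻¹ * ((u.1 : G) * x) := by group
      rw [e]; exact h
    · refine (QuotientGroup.eq.2 ?_).symm
      have e : ((u₀ : G) * x)⁻¹ * ((u₀ : G) * r.1 * x) = x⁻¹ * r.1 * x := by group
      show ((u₀ : G) * x)⁻¹ * ((u₀ : G) * r.1 * x) ∈ S
      rw [e]
      exact ((mem_inf_map_conj_iff S x r.1).1 r.2).2
  have hAT : A = (Nat.card R : ℂ) • (T * E) := by
    rw [hA, hT, Finset.sum_mul, Finset.smul_sum, ← Finset.sum_fiberwise_of_maps_to (t := I)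
      (g := fun u : S => (((u : G) * x : G) : G ⧸ S))
      (fun u _ => Finset.mem_image_of_mem _ (Finset.mem_univ u))]
    refine Finset.sum_congr rfl fun q hq => ?_
    obtain ⟨u₀, -, rfl⟩ := Finset.mem_image.1 hq
    rw [Finset.sum_congr rfl (g := fun _ => ρ ((((u₀ : G) * x : G) : G ⧸ S).out) * E)
      (fun u hu => by rw [hrep u, (Finset.mem_filter.1 hu).2]),
      Finset.sum_const, hfibre, ← Nat.cast_smul_eq_nsmul ℂ]
  have hvA : ∀ v : S, ρ v * A = A := by
    intro v
    rw [hA, Finset.mul_sum]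
    refine Fintype.sum_equiv (Equiv.mulLeft v) _ _ fun u => ?_
    simp [← mul_assoc]
  have hEA : E * A = A := by
    conv_lhs => arg 1; rw [hE]
    rw [smul_mul_assoc, Finset.sum_mul, Finset.sum_congr rfl fun v _ => hvA v, Finset.sum_const,
      Finset.card_univ, ← Nat.cast_smul_eq_nsmul ℂ, smul_smul, ← Nat.card_eq_fintype_card,
      inv_mul_cancel₀ hS0, one_smul]
  have hETE : E * (T * E) = T * E := by
    rw [hAT, mul_smul_comm] at hEA
    exact smul_right_injective _ hR0 hEA
  have hpow : ∀ k : ℕ, E * T ^ k * E = T ^ k * E := by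
    intro k
    induction k with
    | zero => simp [hEE]
    | succ k ih =>
      calc E * T ^ (k + 1) * E = E * T ^ k * (T * E) := by rw [pow_succ]; simp [mul_assoc]
        _ = E * T ^ k * (E * (T * E)) := by rw [hETE]
        _ = (E * T ^ k * E) * (T * E) := by simp [mul_assoc]
        _ = T ^ k * E * (T * E) := by rw [ih]
        _ = T ^ k * (E * (T * E)) := by simp [mul_assoc]
        _ = T ^ (k + 1) * E := by rw [hETE, pow_succ]; simp [mul_assoc]
  have hXpow : ∀ k : ℕ, (T * E) ^ (k + 1) = T ^ (k + 1) * E := by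
    intro k
    induction k with
    | zero => simp
    | succ k ih =>
      calc (T * E) ^ (k + 1 + 1) = (T * E) * (T * E) ^ (k + 1) := pow_succ' _ _
        _ = T * (E * T ^ (k + 1) * E) := by rw [ih]; simp [mul_assoc]
        _ = T ^ (k + 1 + 1) * E := by rw [hpow, pow_succ' T (k + 1)]; simp [mul_assoc]
  have hTint : IsIntegral ℤ T := by
    let L : MonoidAlgebra ℤ G →ₐ[ℤ] Module.End ℂ (Fin n → ℂ) :=
      MonoidAlgebra.lift ℤ (Module.End ℂ (Fin n → ℂ)) G ρ
    have h : L (∑ q ∈ I, MonoidAlgebra.single q.out 1) = T := by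
      simp [L, map_sum, hT, MonoidAlgebra.lift_single]
    rw [← h]
    haveI : Module.Finite ℤ (MonoidAlgebra ℤ G) :=
      Module.Finite.equiv ((Finsupp.linearEquivFunOnFinite ℤ ℤ G).symm.trans
        (MonoidAlgebra.coeffLinearEquiv ℤ).symm)
    exact (IsIntegral.of_finite ℤ _).map L
  have hXint : IsIntegral ℤ (T * E) := by
    obtain ⟨q, hqm, hq⟩ := hTint
    rw [← Polynomial.aeval_def] at hq
    refine ⟨q * Polynomial.X, hqm.mul Polynomial.monic_X, ?_⟩
    rw [← Polynomial.aeval_def]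
    have key : ∀ f : Polynomial ℤ, Polynomial.aeval (T * E) (f * Polynomial.X) =
        Polynomial.aeval T f * (T * E) := by
      intro f
      induction f using Polynomial.induction_on' with
      | add a b ha hb => rw [add_mul, map_add, map_add, add_mul, ha, hb]
      | monomial k a =>
        rw [map_mul, Polynomial.aeval_monomial, Polynomial.aeval_monomial, Polynomial.aeval_X,
          mul_assoc, ← pow_succ, hXpow, pow_succ]
        simp [mul_assoc]
    rw [key, hq, zero_mul]
  have htr : LinearMap.trace ℂ (Fin n → ℂ) (T * E) =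
      (∑ v : S, ρ.character (x * v)) / (Nat.card R : ℂ) := by
    have h1 : LinearMap.trace ℂ (Fin n → ℂ) A = ∑ v : S, ρ.character (x * v) := by
      rw [hA, map_sum]
      have hterm : ∀ u : S, LinearMap.trace ℂ (Fin n → ℂ) (ρ ((u : G) * x) * E) =
          (Nat.card S : ℂ)⁻¹ * ∑ v : S, ρ.character (x * v) := by
        intro u
        rw [hE, mul_smul_comm, map_smul, Finset.mul_sum, map_sum, smul_eq_mul]
        congr 1
        refine Fintype.sum_equiv (Equiv.mulRight u) _ _ fun v => ?_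
        rw [← map_mul]
        show ρ.character _ = _
        rw [← Representation.char_conj ρ ((u : G) * x * v) (u : G)⁻¹]
        congr 1
        simp only [Equiv.coe_mulRight, Subgroup.coe_mul, inv_inv]
        group
      rw [Finset.sum_congr rfl fun u _ => hterm u, Finset.sum_const, Finset.card_univ, nsmul_eq_mul,
        ← Nat.card_eq_fintype_card, ← mul_assoc, mul_inv_cancel₀ hS0, one_mul]
    rw [hAT, map_smul, smul_eq_mul] at h1
    rw [← h1, mul_div_cancel_left₀ _ hR0]
  rw [← htr, LinearMap.trace_eq_matrix_trace ℂ (Pi.basisFun ℂ (Fin n))]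
  apply CfsgLib.BlockReg.isIntegral_trace
  exact hXint.map ((LinearMap.toMatrixAlgEquiv (Pi.basisFun ℂ (Fin n))).toAlgHom.restrictScalars ℤ)

/-- Convolution with the idempotent of a set of characters. -/
theorem sum_blockCoeff_mul_apply [Fintype G] (A : Set (IrrCharacter G)) {χ : IrrCharacter G}
    (hχ : χ ∈ A) (y : G) : ∑ z : G, blockCoeff A z * (χ : G → ℂ) (z * y) = (χ : G → ℂ) y := by
  obtain ⟨n, ρ, hρi, hρ⟩ := χ.2
  haveI := hρi
  have hcf : IsClassFunction G (blockCoeff A) := fun g h => blockCoeff_conj A h g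
  have hop := opOfFun_irreducible ρ hcf
  have h1 : (∑ g, blockCoeff A g * ρ.character g) / (Module.finrank ℂ (Fin n → ℂ) : ℂ) = 1 := by
    have h := omega_idemC A χ
    rw [omega_eq_sum, coe_idemC, blockInd, if_pos hχ] at h
    simp only [coeff_ofFun, ← hρ, Representation.char_one] at h
    exact h
  rw [h1, one_smul] at hop
  have h2 := congrArg (fun F : Module.End ℂ (Fin n → ℂ) =>
    LinearMap.trace ℂ (Fin n → ℂ) (F * ρ y)) hop
  simp only [opOfFun, Finset.sum_mul, map_sum, smul_mul_assoc, map_smul, smul_eq_mul,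
    ← map_mul] at h2
  rw [← hρ]
  refine Eq.trans ?_ (h2.trans ?_)
  · rfl
  · show LinearMap.trace ℂ _ ((1 : Module.End ℂ (Fin n → ℂ)) * ρ y) = _
    rw [one_mul]
    rfl

/-- Characters of defect zero: a free double coset carries a unit idempotent coefficient. -/
theorem exists_free_coset_unit (hM : IsPModular p M) {S : Subgroup G} (hSp : IsPGroup p S)
    (hScard : Nat.card S = p ^ (Nat.card G).factorization p) {A : Set (IrrCharacter G)}
    (hne : A.Nonempty)
    (hfull : ∀ χ ∈ A, (charDegree (χ : G → ℂ)).factorization p = (Nat.card G).factorization p)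
    (hvan : ∀ χ ∈ A, ∀ g : G, p ∣ orderOf g → (χ : G → ℂ) g = 0) :
    ∃ x : G, ¬ MemLocalIdeal M (blockCoeff A x) ∧
      S ⊓ S.map (MulAut.conj x).toMonoidHom = ⊥ := by
  haveI := Fintype.ofFinite G
  haveI := Fintype.ofFinite S
  obtain ⟨χ, hχ⟩ := hne
  by_contra hcon
  push Not at hcon
  let Φ : G → ℂ := fun x => ∑ v : S, blockCoeff A (x * v)
  let Ψ : G → ℂ := fun x => ∑ v : S, (χ : G → ℂ) (x * v)
  let R : G → Subgroup G := fun x =>
    S ⊓ S.map (MulAut.conj x).toMonoidHom
  have hR : ∀ x y : G, y ∈ R x ↔ y ∈ S ∧ x⁻¹ * y * x ∈ S :=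
    fun x y => mem_inf_map_conj_iff _ x y
  have hRinv : ∀ x, Nat.card (R x⁻¹) = Nat.card (R x) := by
    intro x
    refine Nat.card_congr
      { toFun := fun y => ⟨x * y.1 * x⁻¹, ?_⟩
        invFun := fun y => ⟨x⁻¹ * y.1 * x, ?_⟩
        left_inv := fun y => by ext; simp [mul_assoc]
        right_inv := fun y => by ext; simp [mul_assoc] }
    · have h := (hR x⁻¹ y.1).1 y.2
      rw [hR]
      exact ⟨by simpa using h.2, by simpa [mul_assoc] using h.1⟩
    · have h := (hR x y.1).1 y.2
      rw [hR]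
      exact ⟨h.2, by simpa [mul_assoc] using h.1⟩
  have hint : ∀ x, MemLocalRing M (Ψ x / (Nat.card (R x) : ℂ)) := fun x =>
    memRing_algInt hM (isIntegral_hecke_trace S χ x)
  have hΦ : ∀ x, MemLocalIdeal M (Φ x) := by
    intro x
    by_cases hb : R x = ⊥
    · refine memIdeal_sum hM _ fun v _ => ?_
      by_contra h
      apply hcon _ h
      rw [eq_bot_iff]
      intro y hy
      rw [← hb, hR]
      have h' := (mem_inf_map_conj_iff _ _ _).1 hy
      refine ⟨h'.1, ?_⟩
      have e : x⁻¹ * y * x = (v : G) * ((x * v)⁻¹ * y * (x * v)) * (v : G)⁻¹ := by group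
      rw [e]
      exact mul_mem (mul_mem v.2 h'.2) (inv_mem v.2)
    · have hpdvd : p ∣ Nat.card (R x) := by
          obtain ⟨i, hi⟩ := IsPGroup.iff_card.1 (hSp.to_le (inf_le_left :
            R x ≤ S))
          rw [hi]
          refine dvd_pow_self p fun h0 => hb ?_
          rw [h0, pow_zero, Subgroup.card_eq_one] at hi
          exact hi
      obtain ⟨k, hk⟩ := hpdvd
      have hsum : Φ x = ∑ ψ ∈ A.toFinset, ((charDegree (ψ : G → ℂ) : ℂ) / (Nat.card G : ℂ)) *
          ((p : ℂ) * ((k : ℂ) * ((∑ v : S, (ψ : G → ℂ) (x⁻¹ * v)) /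
            (Nat.card (R x⁻¹) : ℂ)))) := by
        simp only [Φ, blockCoeff, finsum_mem_eq_toFinset_sum, Finset.mul_sum]
        rw [Finset.sum_comm]
        refine Finset.sum_congr rfl fun ψ _ => ?_
        have hval : ∑ v : S, (starRingEnd ℂ) ((ψ : G → ℂ) (x * v)) =
            ∑ v : S, (ψ : G → ℂ) (x⁻¹ * v) := by
          refine Fintype.sum_equiv (Equiv.inv _) _ _ fun v => ?_
          rw [← char_inv, mul_inv_rev, ← IsIrrCharacter.isClassFunction ψ.2 _ (v : G)]
          congr 1
          simp only [Equiv.inv_apply, InvMemClass.coe_inv]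
          group
        have hk0 : (p : ℂ) * (k : ℂ) = (Nat.card (R x⁻¹) : ℂ) := by
          rw [hRinv, hk]; push_cast; ring
        rw [← mul_assoc (p : ℂ), hk0, mul_div_cancel₀ _ (Nat.cast_ne_zero.2 Nat.card_pos.ne'),
          ← hval, Finset.mul_sum, deg_cast]
        exact Finset.sum_congr rfl fun v _ => by ring
      rw [hsum]
      refine memIdeal_sum hM _ fun ψ hψ => memIdeal_mul_left hM
        (natCast_div_memRing hM Nat.card_pos.ne'
          (Or.inr (hfull ψ (Set.mem_toFinset.1 hψ)).ge))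
        (memIdeal_mul_right hM ((memIdeal_natCast_iff hM p).2 dvd_rfl)
          (memRing_mul hM (memRing_natCast hM k)
            (memRing_algInt hM (isIntegral_hecke_trace S ψ x⁻¹))))
  letI act : MulAction (S × S) G :=
    { smul := fun uv x => (uv.1 : G) * x * (uv.2 : G)⁻¹
      one_smul := fun x => by
        show ((1 : S) : G) * x * ((1 : S) : G)⁻¹ = x
        simp
      mul_smul := fun a b x => by
        show ((a.1 * b.1 : S) : G) * x * ((a.2 * b.2 : S) : G)⁻¹ =
          (a.1 : G) * ((b.1 : G) * x * (b.2 : G)⁻¹) * (a.2 : G)⁻¹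
        push_cast
        group }
  have hshiftΦ : ∀ (a : S × S) (x : G), Φ (a • x) = Φ x := by
    intro a x
    show ∑ v : S, blockCoeff A ((a.1 : G) * x * (a.2 : G)⁻¹ * v) = _
    refine Fintype.sum_equiv ((Equiv.mulLeft a.2⁻¹).trans (Equiv.mulRight a.1)) _ _ fun v => ?_
    rw [← blockCoeff_conj A (a.1 : G)⁻¹]
    congr 1
    simp only [Equiv.trans_apply, Equiv.coe_mulLeft, Equiv.coe_mulRight, Subgroup.coe_mul,
      InvMemClass.coe_inv]
    group
  have hshiftΨ : ∀ (a : S × S) (x : G), Ψ (a • x) = Ψ x := by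
    intro a x
    show ∑ v : S, (χ : G → ℂ) ((a.1 : G) * x * (a.2 : G)⁻¹ * v) = _
    refine Fintype.sum_equiv ((Equiv.mulLeft a.2⁻¹).trans (Equiv.mulRight a.1)) _ _ fun v => ?_
    rw [← IsIrrCharacter.isClassFunction χ.2 _ (a.1 : G)⁻¹]
    congr 1
    simp only [Equiv.trans_apply, Equiv.coe_mulLeft, Equiv.coe_mulRight, Subgroup.coe_mul,
      InvMemClass.coe_inv]
    group
  have hstab : ∀ x : G, Nat.card (MulAction.stabilizer (S × S) x) =
      Nat.card (R x) := by
    intro x
    refine Nat.card_congr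
      { toFun := fun a => ⟨a.1.1, ?_⟩
        invFun := fun y => ⟨(⟨y.1, ((hR x y.1).1 y.2).1⟩, ⟨_, ((hR x y.1).1 y.2).2⟩), ?_⟩
        left_inv := fun a => ?_
        right_inv := fun y => rfl }
    · rw [hR]
      refine ⟨a.1.1.2, ?_⟩
      have h : (a.1.1 : G) * x * (a.1.2 : G)⁻¹ = x := a.2
      rw [mul_inv_eq_iff_eq_mul] at h
      have e : x⁻¹ * (a.1.1 : G) * x = (a.1.2 : G) := by rw [mul_assoc, h, inv_mul_cancel_left]
      rw [e]
      exact a.1.2.2
    · show (y.1 : G) * x * (x⁻¹ * y.1 * x)⁻¹ = x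
      group
    · have h : (a.1.1 : G) * x * (a.1.2 : G)⁻¹ = x := a.2
      rw [mul_inv_eq_iff_eq_mul] at h
      refine Subtype.ext (Prod.ext rfl (Subtype.ext ?_))
      show x⁻¹ * (a.1.1 : G) * x = (a.1.2 : G)
      rw [mul_assoc, h, inv_mul_cancel_left]
  have htotal : ∑ x : G, Φ x * Ψ x = (Nat.card S : ℂ) * (χ : G → ℂ) 1 := by
    calc ∑ x : G, Φ x * Ψ x
        = ∑ v : S, ∑ w : S, ∑ z : G, blockCoeff A z * (χ : G → ℂ) (z * ((v : G)⁻¹ * (w : G))) := ?_
      _ = _ := ?_
    · simp only [Φ, Ψ, Finset.sum_mul_sum]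
      rw [Finset.sum_comm]
      refine Finset.sum_congr rfl fun v _ => ?_
      rw [Finset.sum_comm]
      refine Finset.sum_congr rfl fun w _ => ?_
      refine Fintype.sum_equiv (Equiv.mulRight (v : G)) _ _ fun x => ?_
      simp only [Equiv.coe_mulRight, mul_assoc, mul_inv_cancel_left]
    · simp only [sum_blockCoeff_mul_apply A hχ]
      rw [Finset.sum_congr rfl (g := fun _ => (χ : G → ℂ) 1) fun v _ => ?_, Finset.sum_const,
        nsmul_eq_mul, Finset.card_univ, Nat.card_eq_fintype_card]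
      rw [Finset.sum_eq_single v]
      · simp
      · intro w _ hw
        apply hvan χ hχ
        obtain ⟨i, hi⟩ := IsPGroup.iff_orderOf.1 hSp (v⁻¹ * w)
        rw [show (v : G)⁻¹ * (w : G) = ((v⁻¹ * w : S) : G) by simp, Subgroup.orderOf_coe, hi]
        refine dvd_pow_self p fun h0 => hw ?_
        rw [h0, pow_zero, orderOf_eq_one_iff, inv_mul_eq_one] at hi
        exact hi.symm
      · simp
  haveI : Fintype (Quotient (MulAction.orbitRel (S × S) G)) :=
    Fintype.ofFinite _
  have hdecomp : ∑ x : G, Φ x * Ψ x = ∑ O : Quotient (MulAction.orbitRel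
      (S × S) G),
        (((Nat.card S : ℂ) ^ 2 / (Nat.card (R O.out) : ℂ)) * (Φ O.out * Ψ O.out)) := by
    rw [← Finset.sum_fiberwise Finset.univ
      (Quotient.mk (MulAction.orbitRel (S × S) G))]
    refine Finset.sum_congr rfl fun O _ => ?_
    have hfib : ∀ x : G, Quotient.mk (MulAction.orbitRel (S × S) G) x = O ↔
        x ∈ MulAction.orbit (S × S) O.out := by
      intro x
      conv_lhs => rw [← Quotient.out_eq O]
      exact Quotient.eq.trans MulAction.orbitRel_apply
    rw [Finset.sum_congr rfl (g := fun _ => Φ O.out * Ψ O.out), Finset.sum_const, nsmul_eq_mul]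
    · congr 1
      rw [← Fintype.card_subtype, ← Nat.card_eq_fintype_card,
        Nat.card_congr (Equiv.subtypeEquivRight hfib), eq_div_iff (Nat.cast_ne_zero.2 Nat.card_pos.ne'),
        ← hstab]
      have h := Nat.card_congr
        (MulAction.orbitProdStabilizerEquivGroup (S × S) O.out)
      rw [Nat.card_prod, Nat.card_prod] at h
      rw [sq, ← Nat.cast_mul, ← Nat.cast_mul]
      exact_mod_cast congrArg (Nat.cast : ℕ → ℂ) h
    · intro x hx
      obtain ⟨a, ha⟩ := (hfib x).1 (Finset.mem_filter.1 hx).2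
      rw [← ha, hshiftΦ, hshiftΨ]
  set d := charDegree (χ : G → ℂ) with hd
  have hunit : ¬ MemLocalIdeal M ((d : ℂ) / (Nat.card S : ℂ)) :=
    (natCast_div_unit hM (deg_pos χ).ne' Nat.card_pos.ne' (by
      rw [hfull χ hχ, hScard, hM.1.factorization_pow, Finsupp.single_eq_same])).2
  apply hunit
  have hS0 : (Nat.card S : ℂ) ≠ 0 := Nat.cast_ne_zero.2 Nat.card_pos.ne'
  have heq : (d : ℂ) / (Nat.card S : ℂ) = ∑ O : Quotient (MulAction.orbitRel
      (S × S) G),
      Φ O.out * (Ψ O.out / (Nat.card (R O.out) : ℂ)) := by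
    rw [div_eq_iff hS0, Finset.sum_mul]
    apply mul_left_cancel₀ hS0
    rw [deg_cast, ← htotal, hdecomp, Finset.mul_sum]
    refine Finset.sum_congr rfl fun O _ => ?_
    ring
  rw [heq]
  exact memIdeal_sum hM _ fun O _ => memIdeal_mul_right hM (hΦ _) (hint _)

variable [M.IsMaximal]

omit [Fact p.Prime] in
/-- Idempotents of the centre with the same central characters are equal. -/
theorem eq_of_isIdempotentElem_of_lam_eq
    {x y : Subalgebra.center (ResField M) (MonoidAlgebra (ResField M) G)}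
    (hx : IsIdempotentElem x) (hy : IsIdempotentElem y) (h : ∀ χ, lam M χ x = lam M χ y) :
    x = y := by
  have key : ∀ a b : Subalgebra.center (ResField M) (MonoidAlgebra (ResField M) G),
      IsIdempotentElem a → IsIdempotentElem b → (∀ χ, lam M χ a = lam M χ b) → a = b * a := by
    intro a b ha hb hab
    have hi := Pairs.isIdempotentElem_sub_mul ha hb
    have h0 := hi.eq_zero_of_isNilpotent (isNilpotent_of_lam_eq_zero _ fun χ =>
      (map_sub (lam M χ) a (b * a)).trans (by
        rw [map_mul, ← hab χ, ← map_mul, ha.eq, sub_self]))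
    exact sub_eq_zero.1 h0
  calc x = y * x := key x y hx hy h
    _ = x * y := mul_comm _ _
    _ = y := (key y x hy hx fun χ => (h χ).symm).symm

omit [Fact p.Prime] [M.IsMaximal] in
theorem projC_mul {R : Type v} [CommRing R] (N : Subgroup G) [N.Normal]
    (a : Subalgebra.center R (MonoidAlgebra R G)) :
    MonoidAlgebra.mapDomainRingHom R (QuotientGroup.mk' N) (a : MonoidAlgebra R G) =
      (projC N a : MonoidAlgebra R (G ⧸ N)) := by
  haveI := Fintype.ofFinite G
  refine MonoidAlgebra.ext (Finsupp.ext fun x => ?_)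
  have ha : (a : MonoidAlgebra R G) =
      ∑ g : G, MonoidAlgebra.single g ((a : MonoidAlgebra R G).coeff g) := by
    ext y
    simp [Finsupp.single_apply]
  rw [ha, map_sum, coeff_projC, MonoidAlgebra.coeff_sum, Finsupp.finsetSum_apply,
    Finset.sum_filter]
  refine Finset.sum_congr rfl fun g _ => ?_
  simp [MonoidAlgebra.mapDomainRingHom_apply, Finsupp.single_apply, eq_comm]

/-- Green's theorem when the defect group is normal. -/
theorem green_normal (hM : IsPModular p M) {D : Subgroup G} [D.Normal]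
    {B : Set (IrrCharacter G)} (hB : IsPBlock M B) (hD : IsDefectGroup p M B D) (S : Sylow p G) :
    ∃ g : G, ¬ p ∣ orderOf g ∧ IsCentSylow p g D ∧
      (S : Subgroup G) ⊓ (S : Subgroup G).map (MulAut.conj g).toMonoidHom = D := by
  haveI : CharP (ResField M) p := charP_resField hM.1 (natCast_mem_of_isPModular hM)
  have hDp := isPGroup_defectGroup hD
  have hDS : D ≤ (S : Subgroup G) := by
    obtain ⟨Q, hQ⟩ := hDp.exists_le_sylow
    obtain ⟨c, hc⟩ := MulAction.exists_smul_eq G Q S
    intro u hu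
    rw [← hc, Sylow.coe_subgroup_smul]
    have h := hQ (Subgroup.Normal.conj_mem inferInstance u hu c⁻¹)
    exact ⟨c⁻¹ * u * c, by rwa [inv_inv] at h, by simp [mul_assoc]⟩
  have hk := minExp_eq_index hM hB hD
  set A : Set (IrrCharacter (G ⧸ D)) := {χ | infl D χ ∈ B} with hA
  have hidx : D.index.factorization p = (Nat.card (G ⧸ D)).factorization p := by
    rw [Subgroup.index_eq_card]
  have hfull : ∀ χ ∈ A, (charDegree (χ : G ⧸ D → ℂ)).factorization p =
      (Nat.card (G ⧸ D)).factorization p := by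
    intro χ hχ
    have h1 := minExp_le (p := p) (show infl D χ ∈ B from hχ)
    rw [hk, hidx, show charDegree (infl D χ : G → ℂ) = charDegree (χ : G ⧸ D → ℂ) by
      simp [charDegree]] at h1
    obtain ⟨m, hm⟩ := deg_dvd_card χ
    refine le_antisymm ?_ h1
    rw [hm, Nat.factorization_mul (deg_pos χ).ne'
      (fun h => Nat.card_pos.ne' (by rw [hm, h, mul_zero] : Nat.card (G ⧸ D) = 0)), Finsupp.add_apply]
    omega
  have hsing : ∀ χ ∈ A, blockOf M (χ : G ⧸ D → ℂ) = {χ} := by
    intro χ hχ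
    refine (Cfsg.Agent.S0914.result p M hM χ).1 fun hdvd => ?_
    obtain ⟨m, hm⟩ := deg_dvd_card χ
    have hm0 : m ≠ 0 := fun h => Nat.card_pos.ne' (by rw [hm, h, mul_zero] : Nat.card (G ⧸ D) = 0)
    rw [hm, Nat.mul_div_cancel_left _ (deg_pos χ)] at hdvd
    have h1 := hfull χ hχ
    rw [hm, Nat.factorization_mul (deg_pos χ).ne' hm0, Finsupp.add_apply] at h1
    have := hM.1.factorization_pos_of_dvd hm0 hdvd
    omega
  have hvan : ∀ χ ∈ A, ∀ x : G ⧸ D, p ∣ orderOf x → (χ : G ⧸ D → ℂ) x = 0 := by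
    intro χ hχ x hx
    have h := blockCoeff_singular hM (⟨χ, (hsing χ hχ).symm⟩ : IsPBlock M {χ}) x hx
    rw [blockCoeff, finsum_mem_singleton, mul_eq_zero,
      or_iff_right (inv_ne_zero (Nat.cast_ne_zero.2 Nat.card_pos.ne')), mul_eq_zero,
      or_iff_right (IsIrrCharacter.apply_one_ne_zero χ.2), map_eq_zero] at h
    exact h
  have hne : A.Nonempty := by
    obtain ⟨χ, hχ⟩ := exists_infl_mem D hM hDp hB
    exact ⟨χ, hχ⟩
  obtain ⟨Sb, hSb⟩ : ∃ Sb : Subgroup (G ⧸ D),
      Sb = (S : Subgroup G).map (QuotientGroup.mk' D) := ⟨_, rfl⟩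
  have hSbcard : Nat.card Sb = p ^ (Nat.card (G ⧸ D)).factorization p := by
    have h := (Sylow.mapSurjective (QuotientGroup.mk'_surjective D) S).card_eq_multiplicity
    rwa [Sylow.coe_mapSurjective, ← hSb] at h
  obtain ⟨x, hx, hxS⟩ := exists_free_coset_unit hM (S := Sb) (hSb ▸ S.isPGroup'.map _) hSbcard
    hne hfull hvan
  have hU : ∀ χ ∈ A, blockOf M (χ : G ⧸ D → ℂ) ⊆ A := fun χ hχ => by
    rw [hsing χ hχ, Set.singleton_subset_iff]; exact hχ
  have hAint := blockCoeff_mem_of_isUnion (M := M) hU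
  have hproj : projC D (blockIdem hB) = mapCenter (red M) (idemR M A hAint) := by
    refine eq_of_isIdempotentElem_of_lam_eq ?_ ((isIdempotentElem_idemR hAint).map _) fun χ => ?_
    · have hi := ((isIdempotentElem_blockIdem hB).map
        (Subalgebra.center (ResField M) (MonoidAlgebra (ResField M) G)).val).map
        (MonoidAlgebra.mapDomainRingHom (ResField M) (QuotientGroup.mk' D))
      rw [IsIdempotentElem, Subalgebra.coe_val, projC_mul] at hi
      exact Subtype.ext hi
    · rw [← lam_infl, lam_blockIdem, lam_mapCenter, lamR_idemR, red_blockInd]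
      rfl
  haveI := Fintype.ofFinite G
  have hcoeff : (projC D (blockIdem hB) : MonoidAlgebra (ResField M) (G ⧸ D)).coeff x ≠ 0 := by
    rw [hproj]
    simp only [coe_mapCenter, coeff_map, idemR, coeff_ofFun]
    rwa [Ne, red_eq_zero]
  rw [coeff_projC] at hcoeff
  obtain ⟨g, hg, hg0⟩ := Finset.exists_ne_zero_of_sum_ne_zero hcoeff
  have hgx : (g : G ⧸ D) = x := (Finset.mem_filter.1 hg).2
  rw [Ne, coeff_blockIdem_eq_zero_iff hB] at hg0
  have hreg : ¬ p ∣ orderOf g := fun h => hg0 (by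
    rw [blockCoeff_singular hM hB g h]; exact memIdeal_zero hM)
  have hgC : g ∈ Subgroup.centralizer (D : Set G) := by
    by_contra h
    exact hg0 (by
      rw [Pairs.blockCoeff_eq_zero_of_not_mem_centralizer hM hDp hB h]; exact memIdeal_zero hM)
  refine ⟨g, hreg, ?_, le_antisymm (fun y hy => ?_) fun y hy => ?_⟩
  · obtain ⟨E, hE, hDE⟩ := exists_centSylow_ge hDp (le_centralizer_singleton_iff.2 hgC)
    obtain ⟨c, hc⟩ := exists_conj_le_defectGroup hM hB hD hg0 hE.isPGroup hE.mem_centralizer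
    rwa [Subgroup.eq_of_le_of_card_ge hDE (by
      rw [← card_map_conj c E]; exact Subgroup.card_le_of_le hc)]
  · obtain ⟨h1, h2⟩ := (mem_inf_map_conj_iff _ _ _).1 hy
    rw [← QuotientGroup.eq_one_iff, ← Subgroup.mem_bot, ← hxS]
    refine (mem_inf_map_conj_iff _ _ _).2 ?_
    rw [← hgx, hSb]
    exact ⟨⟨y, h1, rfl⟩, ⟨g⁻¹ * y * g, h2, by simp⟩⟩
  · refine (mem_inf_map_conj_iff _ _ _).2 ⟨hDS hy, hDS ?_⟩
    simpa using Subgroup.Normal.conj_mem inferInstance y hy g⁻¹

/-- **Green's theorem.** -/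
theorem green (hM : IsPModular p M) {B : Set (IrrCharacter G)} (hB : IsPBlock M B) {D : Subgroup G}
    (hD : IsDefectGroup p M B D) (P : Sylow p G) (hDP : D ≤ P) :
    ∃ x : G, ¬ p ∣ orderOf x ∧ IsCentSylow p x D ∧
      (P : Subgroup G) ⊓ (P : Subgroup G).map (MulAut.conj x).toMonoidHom = D := by
  have hDp := isPGroup_defectGroup hD
  obtain ⟨b, hbD, hind⟩ := firstMain_exists_correspondent hM hB hD
  set N := Subgroup.normalizer (D : Set G) with hN
  haveI : (D.subgroupOf N).Normal := (Subgroup.normal_subgroupOf_iff Subgroup.le_normalizer).2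
    fun a c ha hc => (Subgroup.mem_normalizer_iff.1 hc a).1 ha
  obtain ⟨S, hS⟩ := IsPGroup.exists_le_sylow
    (show IsPGroup p ((P : Subgroup G).subgroupOf N) from
      P.isPGroup'.comap_of_injective N.subtype (Subgroup.subtype_injective _))
  obtain ⟨g, hg, hgD, hgS⟩ := green_normal hM hind.1 hbD S
  have hcent := (isCentSylow_normalizer_iff hDp g).1 hgD
  refine ⟨g, by rwa [Subgroup.orderOf_coe], hcent, ?_⟩
  set R := (P : Subgroup G) ⊓ (P : Subgroup G).map (MulAut.conj (g : G)).toMonoidHom with hR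
  have hDR : D ≤ R := fun y hy => (mem_inf_map_conj_iff _ _ _).2 ⟨hDP hy, hDP (by
    have h := Subgroup.mem_centralizer_iff.1 hcent.mem_centralizer y hy
    rwa [mul_assoc, h, inv_mul_cancel_left])⟩
  by_contra hne
  haveI : Group.IsNilpotent R := (P.isPGroup'.to_le inf_le_left).isNilpotent
  have hlt : D.subgroupOf R < ⊤ := lt_top_iff_ne_top.2 fun h => hne
    (le_antisymm (Subgroup.subgroupOf_eq_top.1 h) hDR)
  obtain ⟨u, huN, huD⟩ :=
    SetLike.exists_of_lt (Group.normalizerCondition_of_isNilpotent (G := R) _ hlt)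
  have huN' : (u : G) ∈ N := by
    rw [hN, Subgroup.mem_normalizer_iff]
    intro a
    constructor
    · intro ha
      exact (Subgroup.mem_normalizer_iff.1 huN ⟨a, hDR ha⟩).1 ha
    · intro ha
      have h1 := (Subgroup.mem_normalizer_iff.1 (Subgroup.inv_mem _ huN) ⟨_, hDR ha⟩).1 ha
      simpa [Subgroup.mem_subgroupOf, mul_assoc] using h1
  obtain ⟨h1, h2⟩ := (mem_inf_map_conj_iff _ _ _).1 u.2
  have hmem : (⟨(u : G), huN'⟩ : N) ∈ (S : Subgroup N) ⊓
      (S : Subgroup N).map (MulAut.conj g).toMonoidHom := by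
    refine (mem_inf_map_conj_iff _ _ _).2 ⟨hS h1, hS ?_⟩
    rw [Subgroup.mem_subgroupOf]
    simpa using h2
  rw [hgS] at hmem
  exact huD hmem

end CfsgLib.Blocks
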