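import Mathlib.GroupTheory.Sylow
import Mathlib.GroupTheory.Subgroup.Centralizer
import Mathlib.GroupTheory.PGroup
import Mathlib.Data.Nat.Factorization.Basic
import Mathlib.Tactic.Group

/-!
# Sylow subgroups of element centralizers, as subgroups of the whole group
-/

set_option autoImplicit false

namespace CfsgLib.Blocks

universe u

variable {G : Type u} [Group G] {p : ℕ}

/-- `D` is a Sylow `p`-subgroup of the centralizer of `g`. -/
def IsCentSylow (p : ℕ) (g : G) (D : Subgroup G) : Prop :=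
  ∃ P : Sylow p (Subgroup.centralizer ({g} : Set G)),
    D = (P : Subgroup (Subgroup.centralizer ({g} : Set G))).map
      (Subgroup.centralizer ({g} : Set G)).subtype

lemma le_centralizer_singleton_iff {Q : Subgroup G} {g : G} :
    Q ≤ Subgroup.centralizer ({g} : Set G) ↔ g ∈ Subgroup.centralizer (Q : Set G) := by
  constructor
  · intro h
    rw [Subgroup.mem_centralizer_iff]
    intro u hu
    exact Subgroup.mem_centralizer_singleton_iff.1 (h hu)
  · intro h u hu
    exact Subgroup.mem_centralizer_singleton_iff.2 (Subgroup.mem_centralizer_iff.1 h u hu)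

lemma conj_centralizer_singleton (x g : G) :
    (Subgroup.centralizer ({g} : Set G)).map (MulAut.conj x).toMonoidHom =
      Subgroup.centralizer ({x * g * x⁻¹} : Set G) := by
  ext y
  simp only [Subgroup.mem_map, MulEquiv.coe_toMonoidHom, MulAut.conj_apply,
    Subgroup.mem_centralizer_singleton_iff]
  constructor
  · rintro ⟨z, hz, rfl⟩
    calc x * z * x⁻¹ * (x * g * x⁻¹) = x * (z * g) * x⁻¹ := by group
      _ = x * (g * z) * x⁻¹ := by rw [hz]
      _ = x * g * x⁻¹ * (x * z * x⁻¹) := by group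
  · intro hy
    refine ⟨x⁻¹ * y * x, ?_, by group⟩
    calc x⁻¹ * y * x * g = x⁻¹ * (y * (x * g * x⁻¹)) * x := by group
      _ = x⁻¹ * (x * g * x⁻¹ * y) * x := by rw [hy]
      _ = g * (x⁻¹ * y * x) := by group

lemma card_map_conj (x : G) (H : Subgroup G) :
    Nat.card (H.map (MulAut.conj x).toMonoidHom) = Nat.card H :=
  Subgroup.card_map_of_injective (MulAut.conj x).injective

lemma card_centralizer_eq_of_isConj {g h : G} (hgh : IsConj g h) :
    Nat.card (Subgroup.centralizer ({g} : Set G)) =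
      Nat.card (Subgroup.centralizer ({h} : Set G)) := by
  obtain ⟨x, rfl⟩ := isConj_iff.1 hgh
  rw [← conj_centralizer_singleton, card_map_conj]

lemma IsCentSylow.le {g : G} {D : Subgroup G} (h : IsCentSylow p g D) :
    D ≤ Subgroup.centralizer ({g} : Set G) := by
  obtain ⟨P, rfl⟩ := h
  exact Subgroup.map_subtype_le _

lemma IsCentSylow.mem_centralizer {g : G} {D : Subgroup G} (h : IsCentSylow p g D) :
    g ∈ Subgroup.centralizer (D : Set G) :=
  le_centralizer_singleton_iff.1 h.le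

lemma IsCentSylow.isPGroup {g : G} {D : Subgroup G} (h : IsCentSylow p g D) : IsPGroup p D := by
  obtain ⟨P, rfl⟩ := h
  exact P.2.map _

variable [Fact p.Prime] [Finite G]

lemma IsCentSylow.card {g : G} {D : Subgroup G} (h : IsCentSylow p g D) :
    Nat.card D = p ^ (Nat.card (Subgroup.centralizer ({g} : Set G))).factorization p := by
  obtain ⟨P, rfl⟩ := h
  rw [Subgroup.card_map_of_injective (Subgroup.subtype_injective _)]
  exact P.card_eq_multiplicity

lemma isCentSylow_of_card {g : G} {D : Subgroup G}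
    (hle : D ≤ Subgroup.centralizer ({g} : Set G))
    (hcard : Nat.card D = p ^ (Nat.card (Subgroup.centralizer ({g} : Set G))).factorization p) :
    IsCentSylow p g D := by
  refine ⟨Sylow.ofCard (D.subgroupOf (Subgroup.centralizer ({g} : Set G))) ?_, ?_⟩
  · rw [Nat.card_congr (Subgroup.subgroupOfEquivOfLe hle).toEquiv, hcard]
  · simp [Subgroup.map_subgroupOf_eq_of_le hle]

lemma exists_centSylow_ge {g : G} {Q : Subgroup G} (hQ : IsPGroup p Q)
    (hle : Q ≤ Subgroup.centralizer ({g} : Set G)) : ∃ D, IsCentSylow p g D ∧ Q ≤ D := by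
  have h' : IsPGroup p (Q.subgroupOf (Subgroup.centralizer ({g} : Set G))) :=
    hQ.of_equiv (Subgroup.subgroupOfEquivOfLe hle).symm
  obtain ⟨P, hP⟩ := h'.exists_le_sylow
  refine ⟨_, ⟨P, rfl⟩, ?_⟩
  intro u hu
  exact ⟨⟨u, hle hu⟩, hP hu, rfl⟩

lemma exists_centSylow (p : ℕ) [Fact p.Prime] (g : G) : ∃ D, IsCentSylow p g D :=
  ⟨_, (default : Sylow p (Subgroup.centralizer ({g} : Set G))), rfl⟩

lemma IsCentSylow.conj {g : G} {D : Subgroup G} (h : IsCentSylow p g D) (x : G) :
    IsCentSylow p (x * g * x⁻¹) (D.map (MulAut.conj x).toMonoidHom) := by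
  refine isCentSylow_of_card ?_ ?_
  · rw [← conj_centralizer_singleton]
    exact Subgroup.map_mono h.le
  · rw [card_map_conj, h.card, ← conj_centralizer_singleton, card_map_conj]

lemma IsCentSylow.exists_conj_eq {g : G} {D E : Subgroup G} (hD : IsCentSylow p g D)
    (hE : IsCentSylow p g E) :
    ∃ x ∈ Subgroup.centralizer ({g} : Set G), D.map (MulAut.conj x).toMonoidHom = E := by
  obtain ⟨P, rfl⟩ := hD
  obtain ⟨Q, rfl⟩ := hE
  obtain ⟨x, hx⟩ := MulAction.exists_smul_eq (Subgroup.centralizer ({g} : Set G)) P Q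
  refine ⟨x, x.2, ?_⟩
  rw [← hx, Subgroup.map_map, Sylow.coe_subgroup_smul]
  ext y
  constructor
  · rintro ⟨u, hu, rfl⟩
    exact ⟨(MulAut.conj x) u, ⟨u, hu, rfl⟩, rfl⟩
  · rintro ⟨_, ⟨u, hu, rfl⟩, rfl⟩
    exact ⟨u, hu, rfl⟩

/-- A `p`-group centralizing some conjugate of `g` lies in a conjugate of any Sylow subgroup of the
centralizer of `g`. -/
lemma IsCentSylow.exists_conj_ge {g c : G} {D Q : Subgroup G} (hD : IsCentSylow p g D)
    (hQ : IsPGroup p Q) (hgc : IsConj g c) (hc : c ∈ Subgroup.centralizer (Q : Set G)) :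
    ∃ x : G, Q.map (MulAut.conj x).toMonoidHom ≤ D := by
  obtain ⟨z, hz⟩ := isConj_iff.1 hgc
  have hle : Q.map (MulAut.conj z⁻¹).toMonoidHom ≤ Subgroup.centralizer ({g} : Set G) := by
    have h2 := Subgroup.map_mono (f := (MulAut.conj z⁻¹).toMonoidHom)
      (le_centralizer_singleton_iff.2 hc)
    rw [conj_centralizer_singleton, ← hz] at h2
    simpa [mul_assoc] using h2
  obtain ⟨E, hE, hQE⟩ := exists_centSylow_ge (hQ.map _) hle
  obtain ⟨w, -, hw⟩ := hE.exists_conj_eq hD
  refine ⟨w * z⁻¹, ?_⟩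
  rintro _ ⟨u, hu, rfl⟩
  rw [← hw]
  refine ⟨_, hQE ⟨u, hu, rfl⟩, ?_⟩
  simp [mul_assoc]

/-- If a conjugate of `Q` lies in a Sylow subgroup of the centralizer of `g`, some conjugate of `g`
centralizes `Q`. -/
lemma IsCentSylow.exists_isConj_mem_centralizer {g x : G} {D Q : Subgroup G}
    (hD : IsCentSylow p g D) (hle : Q.map (MulAut.conj x).toMonoidHom ≤ D) :
    ∃ c, IsConj g c ∧ c ∈ Subgroup.centralizer (Q : Set G) := by
  refine ⟨x⁻¹ * g * x, isConj_iff.2 ⟨x⁻¹, by group⟩, ?_⟩
  rw [← le_centralizer_singleton_iff]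
  intro u hu
  have h1 := Subgroup.mem_centralizer_singleton_iff.1 (hD.le (hle ⟨u, hu, rfl⟩))
  simp only [MulEquiv.coe_toMonoidHom, MulAut.conj_apply] at h1
  rw [Subgroup.mem_centralizer_singleton_iff]
  calc u * (x⁻¹ * g * x) = x⁻¹ * (x * u * x⁻¹ * g) * x := by group
    _ = x⁻¹ * (g * (x * u * x⁻¹)) * x := by rw [h1]
    _ = x⁻¹ * g * x * u := by group

/-- Mutual inclusion up to conjugation gives conjugacy. -/
lemma exists_conj_eq_of_le {D E : Subgroup G} {x y : G}
    (h1 : D.map (MulAut.conj x).toMonoidHom ≤ E) (h2 : E.map (MulAut.conj y).toMonoidHom ≤ D) :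
    D.map (MulAut.conj x).toMonoidHom = E := by
  refine Subgroup.eq_of_le_of_card_ge h1 ?_
  rw [card_map_conj, ← card_map_conj y E]
  exact Subgroup.card_le_of_le h2

end CfsgLib.Blocks
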