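import Cfsg.Agent.Lib.Blocks.BrauerMap
import Mathlib.LinearAlgebra.FiniteDimensional.Lemmas
import Mathlib.GroupTheory.QuotientGroup.Finite

/-!
# Elements of a group algebra killed by the quotient by a normal `p`-subgroup
-/

set_option autoImplicit false

namespace CfsgLib.Blocks

open scoped Classical

universe u v

variable {G : Type u} [Group G] [Finite G]

/-- The sum of the coefficients over a coset of `Q`. -/
noncomputable def cosetSum {R : Type v} [CommRing R] (Q : Subgroup G) (a : MonoidAlgebra R G)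
    (g : G) : R :=
  haveI := Fintype.ofFinite Q
  ∑ q : Q, a.coeff (g * q)

/-- A nonzero subspace stable under left multiplication by a finite `p`-group contains a nonzero
fixed element, in characteristic `p`. -/
lemma exists_leftFixed {F : Type v} [Field F] {p : ℕ} [Fact p.Prime] [CharP F p]
    {Q : Subgroup G} (hQ : IsPGroup p Q) (L : Set (MonoidAlgebra F G))
    (hadd : ∀ x ∈ L, ∀ y ∈ L, x + y ∈ L) (hzero : (0 : MonoidAlgebra F G) ∈ L)
    (hstab : ∀ q ∈ Q, ∀ x ∈ L, MonoidAlgebra.single q (1 : F) * x ∈ L)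
    {w : MonoidAlgebra F G} (hw : w ∈ L) (hw0 : w ≠ 0) :
    ∃ v ∈ L, v ≠ 0 ∧ ∀ q ∈ Q, MonoidAlgebra.single q (1 : F) * v = v := by
  haveI := Fintype.ofFinite Q
  haveI : NeZero p := ⟨(Fact.out (p := p.Prime)).ne_zero⟩
  let Φ : (Q → ZMod p) → MonoidAlgebra F G :=
    fun c => ∑ q : Q, (c q).val • (MonoidAlgebra.single (q : G) (1 : F) * w)
  have hΦ : ∀ c, Φ c = ∑ q : Q, (ZMod.castHom dvd_rfl F (c q)) •
      (MonoidAlgebra.single (q : G) (1 : F) * w) := by
    intro c
    refine Finset.sum_congr rfl fun q _ => ?_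
    rw [← Nat.cast_smul_eq_nsmul F]
    congr 1
    rw [ZMod.castHom_apply]
    exact ZMod.natCast_val (c q)
  let S : AddSubgroup (MonoidAlgebra F G) :=
    { carrier := Set.range Φ
      zero_mem' := ⟨0, by rw [hΦ]; simp⟩
      add_mem' := by
        rintro _ _ ⟨c, rfl⟩ ⟨d, rfl⟩
        refine ⟨c + d, ?_⟩
        simp only [hΦ, ← Finset.sum_add_distrib, ← add_smul, Pi.add_apply, map_add]
      neg_mem' := by
        rintro _ ⟨c, rfl⟩
        refine ⟨-c, ?_⟩
        simp only [hΦ, ← Finset.sum_neg_distrib, ← neg_smul, Pi.neg_apply, map_neg] }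
  have hSfin : Finite S := (Set.finite_range Φ).to_subtype
  have hSL : ∀ x ∈ S, x ∈ L := by
    rintro _ ⟨c, rfl⟩
    refine Finset.sum_induction _ (fun x => x ∈ L) (fun x y hx hy => hadd x hx y hy) hzero
      fun q _ => ?_
    generalize (c q).val = n
    induction n with
    | zero => simpa using hzero
    | succ n ih => rw [succ_nsmul]; exact hadd _ ih _ (hstab _ q.2 _ hw)
  have hwS : w ∈ S := by
    refine ⟨Pi.single 1 1, ?_⟩
    rw [hΦ, Finset.sum_eq_single (1 : Q)]
    · simp [← MonoidAlgebra.one_def]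
    · intro q _ hq; simp [hq]
    · simp
  have hact : ∀ q ∈ Q, ∀ x ∈ S, MonoidAlgebra.single q (1 : F) * x ∈ S := by
    intro q hq
    rintro _ ⟨c, rfl⟩
    refine ⟨fun r => c (⟨q, hq⟩⁻¹ * r), ?_⟩
    simp only [hΦ, Finset.mul_sum, mul_smul_comm]
    rw [← Equiv.sum_comp (Equiv.mulLeft (⟨q, hq⟩ : Q))]
    refine Finset.sum_congr rfl fun r _ => ?_
    simp [← mul_assoc, MonoidAlgebra.single_mul_single]
  letI : MulAction Q S :=
    { smul := fun q x => ⟨MonoidAlgebra.single (q : G) (1 : F) * x, hact _ q.2 _ x.2⟩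
      one_smul := fun x => Subtype.ext
        (show MonoidAlgebra.single ((1 : Q) : G) (1 : F) * (x : MonoidAlgebra F G) = x by
          simp [← MonoidAlgebra.one_def])
      mul_smul := fun q r x => Subtype.ext
        (show MonoidAlgebra.single ((q * r : Q) : G) (1 : F) * (x : MonoidAlgebra F G) = _ * (_ * x) by
          rw [← mul_assoc, MonoidAlgebra.single_mul_single]; simp) }
  have hne : (⟨w, hwS⟩ : S) ≠ 0 := fun h => hw0 (congrArg Subtype.val h)
  have hp : p ∣ Nat.card S := by
    have h1 : addOrderOf (⟨w, hwS⟩ : S) ∣ p := by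
      apply addOrderOf_dvd_of_nsmul_eq_zero
      apply Subtype.ext
      show p • w = 0
      rw [← Nat.cast_smul_eq_nsmul F, CharP.cast_eq_zero, zero_smul]
    rcases (Nat.dvd_prime (Fact.out (p := p.Prime))).1 h1 with h2 | h2
    · exact absurd (AddMonoid.addOrderOf_eq_one_iff.1 h2) hne
    · exact h2 ▸ addOrderOf_dvd_natCard _
  have h0 : (0 : S) ∈ MulAction.fixedPoints Q S := fun q => Subtype.ext (mul_zero _)
  obtain ⟨v, hv, hv0⟩ := hQ.exists_fixed_point_of_prime_dvd_card_of_fixed_point S hp h0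
  exact ⟨v, hSL _ v.2, fun h => hv0 (Subtype.ext h.symm),
    fun q hq => congrArg Subtype.val (hv ⟨q, hq⟩)⟩

/-- An element whose coset sums over a `p`-subgroup vanish annihilates the elements that are fixed
under left multiplication by that subgroup. -/
lemma mul_eq_zero_of_cosetSum {R : Type v} [CommRing R] (Q : Subgroup G) {a b : MonoidAlgebra R G}
    (ha : ∀ g, cosetSum Q a g = 0)
    (hb : ∀ q ∈ Q, MonoidAlgebra.single q (1 : R) * b = b) : a * b = 0 := by
  haveI := Fintype.ofFinite G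
  haveI := Fintype.ofFinite Q
  have hb' : ∀ q ∈ Q, ∀ y, b.coeff (q⁻¹ * y) = b.coeff y := by
    intro q hq y
    have h1 := congrArg (fun z : MonoidAlgebra R G => z.coeff y) (hb q hq)
    simpa [coeff_single_mul_group] using h1
  ext c
  rw [coeff_mul_group, ← Finset.sum_fiberwise _ (QuotientGroup.mk : G → G ⧸ Q)]
  refine Finset.sum_eq_zero fun C _ => ?_
  induction C using QuotientGroup.induction_on with
  | H g =>
    calc ∑ x ∈ Finset.univ.filter (fun x : G => (x : G ⧸ Q) = g), a.coeff x * b.coeff (x⁻¹ * c)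
        = ∑ q : Q, a.coeff (g * q) * b.coeff ((g * q)⁻¹ * c) := by
          refine (Finset.sum_bij (fun (q : Q) _ => g * (q : G)) ?_ ?_ ?_ ?_).symm
          · intro q _
            simp [QuotientGroup.eq]
          · intro q _ r _ h; exact Subtype.ext (mul_left_cancel h)
          · intro x hx
            simp only [Finset.mem_filter, Finset.mem_univ, true_and] at hx
            exact ⟨⟨g⁻¹ * x, QuotientGroup.eq.1 hx.symm⟩, Finset.mem_univ _, by simp⟩
          · intro q _; rfl
      _ = (∑ q : Q, a.coeff (g * q)) * b.coeff (g⁻¹ * c) := by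
          rw [Finset.sum_mul]
          refine Finset.sum_congr rfl fun q _ => ?_
          rw [mul_inv_rev, mul_assoc (q : G)⁻¹, hb' _ q.2]
      _ = 0 := by
          have h1 := ha g
          rw [cosetSum] at h1
          convert zero_mul (b.coeff (g⁻¹ * c))
          convert h1

/-- A central element with vanishing coset sums over a `p`-subgroup is nilpotent. -/
lemma isNilpotent_of_cosetSum {F : Type v} [Field F] {p : ℕ} [Fact p.Prime] [CharP F p]
    {Q : Subgroup G} (hQ : IsPGroup p Q) {a : MonoidAlgebra F G}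
    (hc : a ∈ Subalgebra.center F (MonoidAlgebra F G))
    (ha : ∀ g, cosetSum Q a g = 0) : IsNilpotent a := by
  by_contra hnil
  haveI : FiniteDimensional F (MonoidAlgebra F G) :=
    Module.Finite.equiv ((Finsupp.linearEquivFunOnFinite F F G).symm.trans
      (MonoidAlgebra.coeffLinearEquiv F).symm)
  let T : MonoidAlgebra F G →ₗ[F] MonoidAlgebra F G := LinearMap.mulLeft F a
  obtain ⟨n, hn⟩ := (LinearMap.eventually_iSup_ker_pow_eq T).exists
  have hT : ∀ (k : ℕ) (x : MonoidAlgebra F G), (T ^ k) x = a ^ k * x := fun k x => by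
    rw [LinearMap.pow_mulLeft]; rfl
  let L : Set (MonoidAlgebra F G) := {y | ∃ x, y = a ^ n * x}
  obtain ⟨v, ⟨x, hx⟩, hv0, hvQ⟩ := exists_leftFixed hQ L
    (by rintro _ ⟨x, rfl⟩ _ ⟨y, rfl⟩; exact ⟨x + y, (mul_add _ _ _).symm⟩)
    ⟨0, (mul_zero _).symm⟩
    (by
      rintro q - _ ⟨x, rfl⟩
      refine ⟨MonoidAlgebra.single q 1 * x, ?_⟩
      rw [← mul_assoc, ← mul_assoc,
        Subalgebra.mem_center_iff.1 (pow_mem hc n) (MonoidAlgebra.single q (1 : F))])
    ⟨1, (mul_one _).symm⟩ (fun h => hnil ⟨n, h⟩)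
  have h1 : a * v = 0 := mul_eq_zero_of_cosetSum Q ha hvQ
  apply hv0
  have h2 : x ∈ LinearMap.ker (T ^ (n + 1)) := by
    rw [LinearMap.mem_ker, hT, pow_succ', mul_assoc, ← hx, h1]
  have h3 : x ∈ LinearMap.ker (T ^ n) := hn ▸ Submodule.mem_iSup_of_mem (n + 1) h2
  rw [LinearMap.mem_ker, hT] at h3
  rw [hx, h3]

/-- The coset sums over a normal `p`-subgroup of a central element vanishing on its centralizer
vanish. -/
lemma cosetSum_eq_zero_of_centralizer {R : Type v} [CommRing R] {p : ℕ} [Fact p.Prime]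
    [CharP R p] {Q : Subgroup G} [Q.Normal] (hQ : IsPGroup p Q) {a : MonoidAlgebra R G}
    (hc : ConjFixed Q a)
    (ha : ∀ x ∈ Subgroup.centralizer (Q : Set G), a.coeff x = 0) (g : G) :
    cosetSum Q a g = 0 := by
  haveI := Fintype.ofFinite Q
  haveI := Fintype.ofFinite G
  let α := {x : G // g⁻¹ * x ∈ Q}
  letI : MulAction Q α :=
    { smul := fun u x => ⟨(u : G) * x * (u : G)⁻¹, by
        have h1 : g⁻¹ * ((u : G) * x.1 * (u : G)⁻¹) =
            (g⁻¹ * u * g) * (g⁻¹ * x.1) * (u : G)⁻¹ := by group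
        rw [h1]
        refine mul_mem (mul_mem ?_ x.2) (inv_mem u.2)
        simpa using ‹Q.Normal›.conj_mem _ u.2 g⁻¹⟩
      one_smul := fun x => Subtype.ext (show ((1 : Q) : G) * x.1 * ((1 : Q) : G)⁻¹ = x.1 by simp)
      mul_smul := fun u v x => Subtype.ext
        (show ((u * v : Q) : G) * x.1 * ((u * v : Q) : G)⁻¹
          = (u : G) * ((v : G) * x.1 * (v : G)⁻¹) * (u : G)⁻¹ by
          simp [mul_assoc]) }
  have e : cosetSum Q a g = ∑ x : α, a.coeff x := by
    let eqv : Q ≃ α :=
      { toFun := fun q => ⟨g * (q : G), by simp⟩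
        invFun := fun x => ⟨g⁻¹ * x.1, x.2⟩
        left_inv := fun q => Subtype.ext (by simp)
        right_inv := fun x => Subtype.ext (by simp) }
    have h := Fintype.sum_equiv eqv (fun q : Q => a.coeff (g * q)) (fun x : α => a.coeff x.1)
      fun q => rfl
    rw [← h]
    unfold cosetSum
    convert rfl
  rw [e, sum_eq_sum_fixed hQ (fun x : α => a.coeff x) (fun u x => hc _ u.2 x.1)]
  refine Finset.sum_eq_zero fun x hx => ?_
  simp only [Finset.mem_filter, Finset.mem_univ, true_and] at hx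
  apply ha
  rw [Subgroup.mem_centralizer_iff]
  intro u hu
  have h1 : u * x.1 * u⁻¹ = x.1 := congrArg Subtype.val (hx ⟨u, hu⟩)
  calc u * x.1 = u * x.1 * u⁻¹ * u := by group
    _ = x.1 * u := by rw [h1]

end CfsgLib.Blocks
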