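import Cfsg.Agent.Lib.Blocks.Osima
import Cfsg.Agent.Lib.Blocks.BrauerMap
import Cfsg.Agent.Lib.Blocks.NormalPKernel
import Cfsg.Agent.Lib.Blocks.CentSylow
import Cfsg.Agent.Lib.BlockReg.Regular
import Cfsg.Agent.Lib.Solvable.Core

/-!
# Defect classes and defect groups
-/

set_option autoImplicit false

namespace CfsgLib.Blocks

open Cfsg
open scoped Classical

universe u

variable {G : Type u} [Group G] [Finite G] {p : ℕ} {M : Ideal AlgInt} [M.IsMaximal]
  {B : Set (IrrCharacter G)}

theorem lam_classSumC_eq_zero_iff (χ : IrrCharacter G) (g : G) :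
    lam M χ (classSumC (ResField M) g) = 0 ↔ MemLocalIdeal M (centralChar (χ : G → ℂ) g) := by
  rw [lam_classSumC, red_eq_zero, coe_centralR]

theorem memLocalRing_blockCoeff (hB : IsPBlock M B) (g : G) : MemLocalRing M (blockCoeff B g) :=
  blockCoeff_mem hB g

theorem blockIdem_ne_zero (hB : IsPBlock M B) :
    (blockIdem hB : MonoidAlgebra (ResField M) G) ≠ 0 := by
  intro h
  obtain ⟨χ, hχ⟩ := IsPBlock.nonempty hB
  have h1 := lam_blockIdem_of_mem hB hχ
  rw [show blockIdem hB = 0 from Subtype.ext h, map_zero] at h1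
  exact zero_ne_one h1

variable [Fact p.Prime]

/-- If the coefficient at `h` is nonzero and the central character at `g` is nonzero modulo `M`,
then every `p`-subgroup centralizing `h` centralizes a conjugate of `g`. -/
theorem exists_isConj_centralizer_of_ne_zero (hM : IsPModular p M) (hB : IsPBlock M B)
    {χ : IrrCharacter G} (hχ : χ ∈ B) {g h : G}
    (hg : ¬ MemLocalIdeal M (centralChar (χ : G → ℂ) g))
    (hh : ¬ MemLocalIdeal M (blockCoeff B h))
    {P : Subgroup G} (hP : IsPGroup p P) (hhP : h ∈ Subgroup.centralizer (P : Set G)) :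
    ∃ c, IsConj g c ∧ c ∈ Subgroup.centralizer (P : Set G) := by
  haveI := Fintype.ofFinite G
  haveI : CharP (ResField M) p := charP_resField hM.1 hM.2.2
  rw [← lam_classSumC_eq_zero_iff] at hg
  obtain ⟨s, hs⟩ := exists_blockIdem_eq_mul hB hχ _ hg
  rw [← coeff_blockIdem_eq_zero_iff hB] at hh
  have hs' : (blockIdem hB : MonoidAlgebra (ResField M) G) =
      classSum (ResField M) g * ((blockIdem hB : MonoidAlgebra (ResField M) G) * s) := by
    conv_lhs => rw [hs]
    push_cast
    rw [coe_classSumC,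
      Subalgebra.mem_center_iff.1 (classSum_mem_center g)
        (blockIdem hB : MonoidAlgebra (ResField M) G), mul_assoc]
  rw [hs', coeff_mul_eq_sum_centralizer hP (conjFixed_of_mem_center (classSum_mem_center g))
    (conjFixed_of_mem_center (mul_mem (blockIdem hB).2 s.2)) hhP] at hh
  obtain ⟨x, hx, hx0⟩ := Finset.exists_ne_zero_of_sum_ne_zero hh
  refine ⟨x, ?_, (Finset.mem_filter.1 hx).2⟩
  by_contra hgx
  exact hx0 (by rw [coeff_classSum, if_neg hgx, zero_mul])

/-- A central element killed by the Brauer map at a `p`-group has central character zero on the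
blocks whose idempotents survive that map. -/
theorem lam_eq_zero_of_brTo_eq_zero (hM : IsPModular p M) (hB : IsPBlock M B)
    {χ : IrrCharacter G} (hχ : χ ∈ B) {P H : Subgroup G} (hP : IsPGroup p P)
    (hH : Subgroup.centralizer (P : Set G) ≤ H)
    (z : Subalgebra.center (ResField M) (MonoidAlgebra (ResField M) G))
    (hz : brTo P H (z : MonoidAlgebra (ResField M) G) = 0)
    (he : brTo P H (blockIdem hB : MonoidAlgebra (ResField M) G) ≠ 0) : lam M χ z = 0 := by
  haveI : CharP (ResField M) p := charP_resField hM.1 hM.2.2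
  by_contra hne
  obtain ⟨s, hs⟩ := exists_blockIdem_eq_mul hB hχ z hne
  apply he
  rw [hs]
  push_cast
  rw [brTo_mul hP hH (conjFixed_of_mem_center (mul_mem (blockIdem hB).2 z.2))
      (conjFixed_of_mem_center s.2),
    brTo_mul hP hH (conjFixed_of_mem_center (blockIdem hB).2) (conjFixed_of_mem_center z.2), hz,
    mul_zero, zero_mul]

omit [Fact p.Prime] [M.IsMaximal] [Finite G] in
theorem isDefectGroup_iff (D : Subgroup G) :
    IsDefectGroup p M B D ↔ ∃ g, IsDefectClass M B g ∧ IsCentSylow p g D := Iff.rfl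

/-- Classes with nonzero idempotent coefficient have their Sylow centralizers in a defect group. -/
theorem exists_conj_le_defectGroup (hM : IsPModular p M) (hB : IsPBlock M B) {D : Subgroup G}
    (hD : IsDefectGroup p M B D) {h : G} (hh : ¬ MemLocalIdeal M (blockCoeff B h))
    {Q : Subgroup G} (hQ : IsPGroup p Q) (hhQ : h ∈ Subgroup.centralizer (Q : Set G)) :
    ∃ x : G, Q.map (MulAut.conj x).toMonoidHom ≤ D := by
  obtain ⟨g, hg, hgD⟩ := (isDefectGroup_iff _).1 hD
  obtain ⟨χ, hχ⟩ := IsPBlock.nonempty hB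
  obtain ⟨c, hgc, hc⟩ := exists_isConj_centralizer_of_ne_zero hM hB hχ (hg.2.2 χ hχ) hh hQ hhQ
  exact hgD.exists_conj_ge hQ hgc hc

/-- Where a central character is nonzero modulo `M`, a conjugate centralizes the defect group. -/
theorem exists_isConj_centralizer_defectGroup (hM : IsPModular p M) (hB : IsPBlock M B)
    {D : Subgroup G} (hD : IsDefectGroup p M B D) {χ : IrrCharacter G} (hχ : χ ∈ B) {h : G}
    (hh : ¬ MemLocalIdeal M (centralChar (χ : G → ℂ) h)) :
    ∃ c, IsConj h c ∧ c ∈ Subgroup.centralizer (D : Set G) := by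
  obtain ⟨g, hg, hgD⟩ := (isDefectGroup_iff _).1 hD
  exact exists_isConj_centralizer_of_ne_zero hM hB hχ hh hg.2.1 hgD.isPGroup hgD.mem_centralizer

omit [Fact p.Prime] [M.IsMaximal] [Finite G] in
theorem isPGroup_defectGroup {D : Subgroup G} (hD : IsDefectGroup p M B D) : IsPGroup p D := by
  obtain ⟨g, -, hgD⟩ := (isDefectGroup_iff _).1 hD
  exact IsCentSylow.isPGroup hgD

theorem exists_defectGroup (hM : IsPModular p M) (hB : IsPBlock M B) :
    ∃ D, IsDefectGroup p M B D := by
  obtain ⟨g, -, hg⟩ := CfsgLib.BlockReg.exists_defect_class hM hB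
  obtain ⟨D, hD⟩ := exists_centSylow p g
  exact ⟨D, g, hg, hD⟩

/-- Defect groups are conjugate. -/
theorem defectGroup_conj (hM : IsPModular p M) (hB : IsPBlock M B) {D E : Subgroup G}
    (hD : IsDefectGroup p M B D) (hE : IsDefectGroup p M B E) :
    ∃ x : G, D.map (MulAut.conj x).toMonoidHom = E := by
  obtain ⟨g, hg, hgD⟩ := (isDefectGroup_iff _).1 hD
  obtain ⟨k, hk, hkE⟩ := (isDefectGroup_iff _).1 hE
  obtain ⟨x, hx⟩ := exists_conj_le_defectGroup hM hB ⟨k, hk, hkE⟩ hg.2.1 hgD.isPGroup
    hgD.mem_centralizer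
  obtain ⟨y, hy⟩ := exists_conj_le_defectGroup hM hB ⟨g, hg, hgD⟩ hk.2.1 hkE.isPGroup
    hkE.mem_centralizer
  exact ⟨x, exists_conj_eq_of_le hx hy⟩

omit [M.IsMaximal] in
/-- The order of a defect group. -/
theorem card_defectGroup (hM : IsPModular p M) (hB : IsPBlock M B) {D : Subgroup G}
    (hD : IsDefectGroup p M B D) : Nat.card D = p ^ blockDefect p B := by
  obtain ⟨g, hg, hgD⟩ := (isDefectGroup_iff _).1 hD
  rw [IsCentSylow.card hgD, CfsgLib.BlockReg.blockDefect_eq,
    ← CfsgLib.BlockReg.factorization_csize_defectClass hM hB hg,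
    ← CfsgLib.BlockReg.csize_mul_card g,
    Nat.factorization_mul Nat.card_pos.ne' (CfsgLib.BlockReg.csize_ne_zero g),
    Finsupp.add_apply, Nat.add_sub_cancel]

/-- The Brauer map at a `p`-group `P` is nonzero on a block idempotent exactly when `P` lies in a
defect group up to conjugation. -/
theorem brTo_blockIdem_ne_zero_iff (hM : IsPModular p M) (hB : IsPBlock M B) {D : Subgroup G}
    (hD : IsDefectGroup p M B D) {P H : Subgroup G} (hP : IsPGroup p P)
    (hH : Subgroup.centralizer (P : Set G) ≤ H) :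
    brTo P H (blockIdem hB : MonoidAlgebra (ResField M) G) ≠ 0 ↔
      ∃ x : G, P.map (MulAut.conj x).toMonoidHom ≤ D := by
  rw [brTo_ne_zero_iff hH]
  constructor
  · rintro ⟨c, hc, hne⟩
    rw [Ne, coeff_blockIdem_eq_zero_iff] at hne
    exact exists_conj_le_defectGroup hM hB hD hne hP hc
  · rintro ⟨x, hx⟩
    obtain ⟨g, hg, hgD⟩ := (isDefectGroup_iff _).1 hD
    obtain ⟨c, hgc, hc⟩ := hgD.exists_isConj_mem_centralizer hx
    refine ⟨c, hc, ?_⟩
    rw [← coeff_eq_of_isConj (blockIdem hB).2 hgc, Ne, coeff_blockIdem_eq_zero_iff]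
    exact hg.2.1

/-- A normal `p`-subgroup lies in every defect group. -/
theorem le_defectGroup_of_normal (hM : IsPModular p M) (hB : IsPBlock M B) {D : Subgroup G}
    (hD : IsDefectGroup p M B D) {Q : Subgroup G} [hQn : Q.Normal] (hQ : IsPGroup p Q) : Q ≤ D := by
  haveI : CharP (ResField M) p := charP_resField hM.1 hM.2.2
  obtain ⟨x, hx⟩ := (brTo_blockIdem_ne_zero_iff hM hB hD hQ
      (le_refl (Subgroup.centralizer (Q : Set G)))).1 (by
    intro h0
    have hc : ∀ y ∈ Subgroup.centralizer (Q : Set G),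
        (blockIdem hB : MonoidAlgebra (ResField M) G).coeff y = 0 := by
      intro y hy
      by_contra hne
      exact (brTo_ne_zero_iff le_rfl _).2 ⟨y, hy, hne⟩ h0
    obtain ⟨n, hn⟩ := isNilpotent_of_cosetSum hQ (blockIdem hB).2
      (cosetSum_eq_zero_of_centralizer (p := p) hQ (conjFixed_of_mem_center (blockIdem hB).2) hc)
    apply blockIdem_ne_zero hB
    have hid : IsIdempotentElem (blockIdem hB : MonoidAlgebra (ResField M) G) :=
      congrArg Subtype.val (isIdempotentElem_blockIdem hB).eq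
    rw [← hid.pow_succ_eq n, pow_succ, hn, zero_mul])
  intro u hu
  have h1 : x⁻¹ * u * x ∈ Q := by simpa using hQn.conj_mem u hu x⁻¹
  have h2 := hx ⟨_, h1, rfl⟩
  simpa [mul_assoc] using h2

theorem pCore_le_defectGroup (hM : IsPModular p M) (hB : IsPBlock M B) {D : Subgroup G}
    (hD : IsDefectGroup p M B D) : Cfsg.pCore p G ≤ D := by
  haveI := CfsgLib.Solvable.pCore_normal p G
  exact le_defectGroup_of_normal hM hB hD (CfsgLib.Solvable.pCore_isPGroup p G)

end CfsgLib.Blocks
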