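import Cfsg.Agent.Lib.Blocks.Section
import Cfsg.Agent.Lib.BlockReg.Regular

/-!
# Vanishing off defect sections, values of height zero characters
-/

set_option autoImplicit false

namespace CfsgLib.Blocks

open Cfsg CfsgLib.Char
open scoped ComplexConjugate Classical

universe u

variable {G : Type u} [Group G] [Finite G] {M : Ideal AlgInt} [M.IsMaximal]

theorem char_mem_locRing (χ : IrrCharacter G) (g : G) : (χ : G → ℂ) g ∈ locRing M := by
  obtain ⟨n, ρ, -, h⟩ := χ.2
  rw [← h]
  exact isIntegral_mem_locRing (isIntegral_character ρ g)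

/-- A character value is congruent to the value at the `p`-regular part. -/
theorem red_char_mul_eq {p k : ℕ} (hp : p.Prime) (hmem : (p : AlgInt) ∈ M) (χ : IrrCharacter G)
    {x y : G} (hxy : Commute x y) (hx : orderOf x = p ^ k) (hy : ¬ p ∣ orderOf y) :
    red M ⟨(χ : G → ℂ) (x * y), char_mem_locRing χ _⟩
      = red M ⟨(χ : G → ℂ) y, char_mem_locRing χ _⟩ := by
  obtain ⟨n, ρ, hρ, hχ⟩ := χ.2
  obtain ⟨μ, hμ, -, -, hpow⟩ := exists_eigenvalues ρ (x * y)
  have hcop : Nat.Coprime (p ^ k) (orderOf y) :=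
    Nat.Coprime.pow_left _ (hp.coprime_iff_not_dvd.2 hy)
  obtain ⟨t, ht0, ht1⟩ := Nat.chineseRemainder hcop 0 1
  have hty : (x * y) ^ t = y := by
    rw [hxy.mul_pow, orderOf_dvd_iff_pow_eq_one.1 (hx ▸ Nat.modEq_zero_iff_dvd.1 ht0), one_mul]
    conv_rhs => rw [← pow_one y]
    exact pow_eq_pow_iff_modEq.2 ht1
  have hord : orderOf (x * y) = p ^ k * orderOf y := by
    rw [hxy.orderOf_mul_eq_mul_orderOf_of_coprime (hx ▸ hcop), hx]
  have hint : ∀ i, μ i ∈ locRing M := fun i =>
    isIntegral_mem_locRing (IsIntegral.of_pow (orderOf_pos (x * y)) (by rw [hμ i]; exact isIntegral_one))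
  let m : Fin _ → locRing M := fun i => ⟨μ i, hint i⟩
  have hm : ∀ i, m i ^ (p ^ k * orderOf y) = 1 := fun i =>
    Subtype.ext (by simpa [m, hord] using hμ i)
  have h1 : (⟨(χ : G → ℂ) (x * y), char_mem_locRing χ _⟩ : locRing M) = ∑ i, m i := by
    apply Subtype.ext
    simpa [m, ← hχ] using hpow 1
  have h2 : (⟨(χ : G → ℂ) y, char_mem_locRing χ _⟩ : locRing M) = ∑ i, m i ^ t := by
    apply Subtype.ext
    simpa [m, hty, ← hχ] using hpow t
  rw [h1, h2, map_sum, map_sum]
  refine Finset.sum_congr rfl fun i _ => ?_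
  have hroot : red M (m i) ^ orderOf y = 1 := by
    rw [← map_pow]
    refine red_eq_one_of_pow_prime_pow hp hmem (k := k) ?_
    rw [← pow_mul, mul_comm, hm]
  rw [map_pow]
  conv_lhs => rw [← pow_one (red M (m i))]
  rw [pow_eq_pow_mod t hroot, pow_eq_pow_mod 1 hroot, show t % orderOf y = 1 % orderOf y from ht1]

theorem memLocalIdeal_char_mul_iff {p k : ℕ} (hp : p.Prime) (hmem : (p : AlgInt) ∈ M)
    (χ : IrrCharacter G) {x y : G} (hxy : Commute x y) (hx : orderOf x = p ^ k)
    (hy : ¬ p ∣ orderOf y) :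
    MemLocalIdeal M ((χ : G → ℂ) (x * y)) ↔ MemLocalIdeal M ((χ : G → ℂ) y) := by
  rw [← red_mk_eq_zero (char_mem_locRing χ (x * y)), ← red_mk_eq_zero (char_mem_locRing χ y),
    red_char_mul_eq hp hmem χ hxy hx hy]

/-- If the block idempotent is nonzero modulo `M` somewhere on the centralizer of a `p`-element `z`,
then every defect class has a member centralizing `z`. -/
theorem exists_conj_commute_of_coeff {p k : ℕ} (hp : p.Prime) (hmem : (p : AlgInt) ∈ M)
    {B : Set (IrrCharacter G)} (hB : IsPBlock M B) {g : G} (hg : IsDefectClass M B g)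
    {z : G} (hz : orderOf z = p ^ k) {c : G} (hc : Commute c z)
    (hne : (blockIdem hB : MonoidAlgebra (ResField M) G).coeff c ≠ 0) :
    ∃ g', IsConj g g' ∧ Commute g' z := by
  haveI := Fact.mk hp
  haveI := charP_resField (M := M) hp hmem
  obtain ⟨χ, hχ⟩ := IsPBlock.nonempty hB
  have hlam : lam M χ (classSumC (ResField M) g) ≠ 0 := by
    rw [lam_classSumC]
    exact fun h => hg.2.2 χ hχ (red_eq_zero.1 h)
  obtain ⟨s, hs⟩ := exists_blockIdem_eq_mul hB hχ _ hlam
  by_contra hcon
  push Not at hcon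
  set P := Subgroup.zpowers z
  set H := Subgroup.centralizer (P : Set G)
  have hP : IsPGroup p P := isPGroup_zpowers hz
  have hK : brTo P H (classSum (ResField M) g) = 0 := by
    ext x
    rw [coeff_brTo_classSum, if_neg]
    · simp
    · rintro ⟨h1, h2⟩
      exact hcon x h1 (mem_centralizer_zpowers_iff.1 h2)
  have hfix : ∀ a : Subalgebra.center (ResField M) (MonoidAlgebra (ResField M) G),
      ConjFixed P (a : MonoidAlgebra (ResField M) G) := fun a => conjFixed_of_mem_center a.2
  have h0 : brTo P H (blockIdem hB : MonoidAlgebra (ResField M) G) = 0 := by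
    rw [hs, Subalgebra.coe_mul, brTo_mul hP le_rfl (hfix _) (hfix s), Subalgebra.coe_mul,
      brTo_mul hP le_rfl (hfix _) (hfix (classSumC (ResField M) g)), coe_classSumC, hK, mul_zero,
      zero_mul]
  have hcH : c ∈ H := mem_centralizer_zpowers_iff.2 hc
  exact (brTo_ne_zero_iff le_rfl _).2 ⟨c, hcH, hne⟩ h0

omit [M.IsMaximal] in
theorem IsDefectClass.conj {B : Set (IrrCharacter G)} {g g' : G} (hg : IsDefectClass M B g)
    (h : IsConj g g') : IsDefectClass M B g' := by
  obtain ⟨u, rfl⟩ := isConj_iff.1 h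
  refine ⟨?_, ?_, fun χ hχ => ?_⟩
  · rw [blockCoeff_conj]; exact hg.1
  · rw [blockCoeff_conj]; exact hg.2.1
  · rw [centralChar_conj]; exact hg.2.2 χ hχ

theorem exists_mem_sylow_centralizer {p k : ℕ} [Fact p.Prime] {g z : G} (hz : orderOf z = p ^ k)
    (hcomm : Commute g z) :
    ∃ S : Sylow p (Subgroup.centralizer ({g} : Set G)),
      z ∈ (S : Subgroup (Subgroup.centralizer ({g} : Set G))).map
        (Subgroup.centralizer ({g} : Set G)).subtype := by
  have hzC : z ∈ Subgroup.centralizer ({g} : Set G) :=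
    Subgroup.mem_centralizer_singleton_iff.2 hcomm.eq.symm
  have hord : orderOf (⟨z, hzC⟩ : Subgroup.centralizer ({g} : Set G)) = p ^ k := by
    rw [← hz]; exact (Subgroup.orderOf_coe _).symm
  obtain ⟨S, hS⟩ := (isPGroup_zpowers hord).exists_le_sylow
  exact ⟨S, ⟨⟨z, hzC⟩, hS (Subgroup.mem_zpowers _), rfl⟩⟩

/-- An irreducible character vanishes on elements whose `p`-part lies in no defect group. -/
theorem char_eq_zero_of_forall_not_commute {p : ℕ} (hp : p.Prime) (hmem : (p : AlgInt) ∈ M)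
    {B : Set (IrrCharacter G)} (hB : IsPBlock M B) {χ : IrrCharacter G} (hχ : χ ∈ B) {g : G}
    (hg : IsDefectClass M B g) {h z : G} (hz : IsPPart p h z)
    (hno : ∀ g', IsConj g g' → ¬ Commute g' z) : (χ : G → ℂ) h = 0 := by
  haveI := Fintype.ofFinite G
  obtain ⟨-, -, -, ⟨k, hk⟩, -⟩ := id hz
  have key := sum_coeff_mul_classFun_eq_zero hp hmem
    (blockIdemR hB : MonoidAlgebra (locRing M) G)
    (congrArg Subtype.val (isIdempotentElem_blockIdemR hB).eq) hz
    (fun c => (coeff_eq_of_isConj (blockIdemR hB).2 (isConj_iff.2 ⟨h⁻¹, by simp⟩ :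
      IsConj c (h⁻¹ * c * h))).symm)
    (fun c hc => by
      by_contra hne
      obtain ⟨g', hg', hcomm⟩ := exists_conj_commute_of_coeff hp hmem hB hg hk hc
        (by rwa [blockIdem, coe_mapCenter, coeff_map])
      exact hno g' hg' hcomm)
    (IsIrrCharacter.isClassFunction χ.2)
  simp only [coe_coeff_blockIdemR] at key
  rwa [sum_blockCoeff_mul_char_translate hB hχ] at key

/-- A height zero character does not vanish modulo `M` on a defect class. -/
theorem not_memLocalIdeal_char_defectClass {p : ℕ} [Fact p.Prime] (hM : IsPModular p M)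
    {B : Set (IrrCharacter G)} (hB : IsPBlock M B) {χ : IrrCharacter G} (hχ : χ ∈ B)
    (h0 : blockHeight p B (χ : G → ℂ) = 0) {y : G} (hy : IsDefectClass M B y) :
    ¬ MemLocalIdeal M ((χ : G → ℂ) y) := by
  have hdeg : (charDegree (χ : G → ℂ)).factorization p = BlockReg.minExp p B := by
    have h1 := BlockReg.minExp_le (p := p) hχ
    rw [BlockReg.blockHeight_eq] at h0
    omega
  obtain ⟨hu, hu'⟩ := BlockReg.natCast_div_unit hM (BlockReg.deg_pos χ).ne'
    (BlockReg.csize_ne_zero y)
    (hdeg.trans (BlockReg.factorization_csize_defectClass hM hB hy).symm)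
  rw [BlockReg.char_eq_centralChar_mul χ y]
  exact BlockReg.not_memIdeal_mul hM (BlockReg.memRing_centralChar hM χ y) hu (hy.2.2 χ hχ) hu'

/-- A defect class consists of `p`-regular elements. -/
theorem IsDefectClass.regular {p : ℕ} [Fact p.Prime] (hM : IsPModular p M)
    {B : Set (IrrCharacter G)} (hB : IsPBlock M B) {y : G} (hy : IsDefectClass M B y) :
    ¬ p ∣ orderOf y := fun h => hy.2.1 (by
  rw [BlockReg.blockCoeff_singular hM hB y h]
  exact BlockReg.memIdeal_zero hM)

end CfsgLib.Blocks
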