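import Mathlib.Algebra.MonoidAlgebra.Basic
import Mathlib.Algebra.Algebra.Subalgebra.Basic
import Mathlib.Algebra.Group.Conj
import Mathlib.GroupTheory.PGroup
import Mathlib.GroupTheory.Sylow
import Mathlib.GroupTheory.Subgroup.Centralizer
import Mathlib.Algebra.CharP.Basic
import Mathlib.Data.Finsupp.Fintype

/-!
# Class sums in a group algebra and sums over p-group fixed points
-/

set_option autoImplicit false

namespace CfsgLib.Blocks

open scoped Classical

universe u v

variable {R : Type v} [CommRing R] {G : Type u} [Group G] [Finite G]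

/-- The element of the group algebra with given coefficient function. -/
noncomputable def ofFun (f : G → R) : MonoidAlgebra R G :=
  MonoidAlgebra.ofCoeff (Finsupp.equivFunOnFinite.symm f)

@[simp] lemma coeff_ofFun (f : G → R) (x : G) : (ofFun f).coeff x = f x := rfl

lemma ofFun_coeff (a : MonoidAlgebra R G) : ofFun (fun x => a.coeff x) = a := by
  ext x; simp

omit [Finite G] in
lemma coeff_mul_group [Fintype G] (a b : MonoidAlgebra R G) (c : G) :
    (a * b).coeff c = ∑ x : G, a.coeff x * b.coeff (x⁻¹ * c) := by
  rw [MonoidAlgebra.coeff_mul_antidiag a b c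
    (Finset.univ.image fun x : G => (x, x⁻¹ * c)) ?_]
  · rw [Finset.sum_image]
    intro x _ y _ h
    exact (Prod.ext_iff.1 h).1
  · intro q
    constructor
    · intro h
      obtain ⟨x, -, rfl⟩ := Finset.mem_image.1 h
      simp
    · intro h
      exact Finset.mem_image.2 ⟨q.1, Finset.mem_univ _, Prod.ext rfl (by simp [← h])⟩

lemma coeff_single_mul_group (g : G) (r : R) (a : MonoidAlgebra R G) (c : G) :
    (MonoidAlgebra.single g r * a).coeff c = r * a.coeff (g⁻¹ * c) := by
  haveI := Fintype.ofFinite G
  rw [coeff_mul_group, Finset.sum_eq_single g]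
  · simp
  · intro x _ hx; simp [Finsupp.single_eq_of_ne hx]
  · simp

lemma coeff_mul_single_group (g : G) (r : R) (a : MonoidAlgebra R G) (c : G) :
    (a * MonoidAlgebra.single g r).coeff c = a.coeff (c * g⁻¹) * r := by
  haveI := Fintype.ofFinite G
  rw [coeff_mul_group, Finset.sum_eq_single (c * g⁻¹)]
  · simp [mul_assoc]
  · intro x _ hx
    have : x⁻¹ * c ≠ g := by
      intro h; apply hx; rw [← h]; group
    simp [Finsupp.single_eq_of_ne this]
  · simp

omit [Finite G] in
/-- Coefficients invariant under conjugation by the elements of a subgroup. -/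
def ConjFixed (P : Subgroup G) (a : MonoidAlgebra R G) : Prop :=
  ∀ u ∈ P, ∀ x : G, a.coeff (u * x * u⁻¹) = a.coeff x

omit [Finite G] in
lemma ConjFixed.mono {P Q : Subgroup G} {a : MonoidAlgebra R G} (h : ConjFixed P a)
    (hQ : Q ≤ P) : ConjFixed Q a := fun u hu => h u (hQ hu)

lemma mem_center_iff_conjFixed (a : MonoidAlgebra R G) :
    a ∈ Subalgebra.center R (MonoidAlgebra R G) ↔ ConjFixed (⊤ : Subgroup G) a := by
  rw [Subalgebra.mem_center_iff]
  constructor
  · intro h u _ x
    have h1 := congrArg (fun z : MonoidAlgebra R G => z.coeff (u * x))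
      (h (MonoidAlgebra.single u 1))
    simp only [coeff_single_mul_group, coeff_mul_single_group] at h1
    simpa [mul_assoc] using h1.symm
  · intro h b
    induction b using MonoidAlgebra.induction_linear with
    | zero => simp
    | add x y hx hy => rw [add_mul, mul_add, hx, hy]
    | single g r =>
      ext c
      rw [coeff_single_mul_group, coeff_mul_single_group, mul_comm]
      congr 1
      have := h g trivial (g⁻¹ * c)
      rw [← this]; group

lemma conjFixed_of_mem_center {P : Subgroup G} {a : MonoidAlgebra R G}
    (h : a ∈ Subalgebra.center R (MonoidAlgebra R G)) : ConjFixed P a :=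
  ((mem_center_iff_conjFixed a).1 h).mono le_top

lemma coeff_eq_of_isConj {a : MonoidAlgebra R G}
    (h : a ∈ Subalgebra.center R (MonoidAlgebra R G)) {x y : G} (hxy : IsConj x y) :
    a.coeff x = a.coeff y := by
  obtain ⟨u, rfl⟩ := isConj_iff.1 hxy
  exact (((mem_center_iff_conjFixed a).1 h) u trivial x).symm

/-- The sum of the conjugates of `g` in the group algebra. -/
noncomputable def classSum (R : Type v) [CommRing R] (g : G) : MonoidAlgebra R G :=
  ofFun fun x => if IsConj g x then 1 else 0

@[simp] lemma coeff_classSum (g x : G) :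
    (classSum R g).coeff x = if IsConj g x then 1 else 0 := by
  simp [classSum]

lemma classSum_mem_center (g : G) :
    classSum R g ∈ Subalgebra.center R (MonoidAlgebra R G) := by
  rw [mem_center_iff_conjFixed]
  intro u _ x
  simp only [coeff_classSum]
  have hu : IsConj x (u * x * u⁻¹) := isConj_iff.2 ⟨u, rfl⟩
  exact if_congr ⟨fun h => h.trans hu.symm, fun h => h.trans hu⟩ rfl rfl

lemma classSum_congr {g h : G} (hgh : IsConj g h) : classSum R g = classSum R h := by
  ext x
  simp only [coeff_classSum]
  exact if_congr ⟨fun hx => hgh.symm.trans hx, fun hx => hgh.trans hx⟩ rfl rfl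

lemma classSum_one : classSum R (1 : G) = 1 := by
  ext x
  simp [MonoidAlgebra.one_def, Finsupp.single_apply, eq_comm]

/-- The product of two class sums counts pairs. -/
lemma coeff_classSum_mul (g h c : G) :
    (classSum R g * classSum R h).coeff c =
      (Nat.card {x : G // IsConj g x ∧ IsConj h (x⁻¹ * c)} : R) := by
  haveI := Fintype.ofFinite G
  rw [coeff_mul_group, Nat.card_eq_fintype_card, Fintype.card_subtype]
  rw [Finset.natCast_card_filter]
  refine Finset.sum_congr rfl fun x _ => ?_
  simp only [coeff_classSum]
  by_cases h1 : IsConj g x <;> by_cases h2 : IsConj h (x⁻¹ * c) <;> simp [h1, h2, -isConj_iff]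

/-- A central element is the combination of the class sums by its coefficients. -/
lemma center_eq_sum_classSum [Fintype (ConjClasses G)] {a : MonoidAlgebra R G}
    (h : a ∈ Subalgebra.center R (MonoidAlgebra R G)) :
    a = ∑ C : ConjClasses G, a.coeff (Quotient.out C) • classSum R (Quotient.out C) := by
  ext x
  rw [MonoidAlgebra.coeff_sum, Finsupp.finsetSum_apply,
    Finset.sum_eq_single (ConjClasses.mk x)]
  · have hx : IsConj (Quotient.out (ConjClasses.mk x)) x :=
      ConjClasses.mk_eq_mk_iff_isConj.1 (Quotient.out_eq (ConjClasses.mk x))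
    simp [hx, coeff_eq_of_isConj h hx, -isConj_iff]
  · intro C _ hC
    have : ¬ IsConj (Quotient.out C) x := by
      intro hc
      apply hC
      rw [← Quotient.out_eq C]
      exact ConjClasses.mk_eq_mk_iff_isConj.2 hc
    simp [this, -isConj_iff]
  · simp

/-- In characteristic `p`, the sum of a function invariant under a `p`-group is the sum over the
fixed points. -/
lemma sum_eq_sum_fixed {P : Type*} [Group P] {p : ℕ} [Fact p.Prime] (hP : IsPGroup p P)
    [CharP R p] {α : Type*} [MulAction P α] [Fintype α] (f : α → R)
    (hf : ∀ (u : P) (x : α), f (u • x) = f x) :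
    ∑ x : α, f x =
      ∑ x ∈ Finset.univ.filter (fun x : α => x ∈ MulAction.fixedPoints P α), f x := by
  rw [← Finset.sum_filter_add_sum_filter_not Finset.univ
    (fun x : α => x ∈ MulAction.fixedPoints P α)]
  convert add_zero _
  rw [← Finset.sum_fiberwise _ (Quotient.mk'' : α → Quotient (MulAction.orbitRel P α))]
  refine Finset.sum_eq_zero fun q _ => ?_
  induction q using Quotient.inductionOn' with
  | h a =>
    by_cases ha : a ∈ MulAction.fixedPoints P α
    · refine Finset.sum_eq_zero fun x hx => ?_
      simp only [Finset.mem_filter, Finset.mem_univ, true_and] at hx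
      obtain ⟨u, hu⟩ := (Quotient.exact' hx.2 : (MulAction.orbitRel P α) x a)
      exact absurd (by rw [← hu]; simpa [ha u] using ha) hx.1
    · have hset : ((Finset.univ.filter (fun x : α => x ∉ MulAction.fixedPoints P α)).filter
          (fun x => (Quotient.mk'' x : Quotient (MulAction.orbitRel P α)) = Quotient.mk'' a))
          = (MulAction.orbit P a).toFinset := by
        ext x
        simp only [Finset.mem_filter, Finset.mem_univ, true_and, Set.mem_toFinset,
          Quotient.eq'', MulAction.orbitRel_apply]
        refine ⟨fun h => h.2, fun h => ⟨?_, h⟩⟩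
        intro hx
        obtain ⟨u, rfl⟩ := h
        apply ha
        have h2 : a = u • a := by
          have h3 : u⁻¹ • (u • a) = u • a := hx u⁻¹
          rw [inv_smul_smul] at h3
          exact h3
        rw [h2]; exact hx
      rw [hset, Finset.sum_congr rfl (g := fun _ => f a) (fun x hx => ?_), Finset.sum_const,
        nsmul_eq_mul]
      · have hdvd : p ∣ (MulAction.orbit P a).toFinset.card := by
          obtain ⟨k, hk⟩ := hP.card_orbit a
          rw [Set.toFinset_card, ← Nat.card_eq_fintype_card, hk]
          rcases k with - | k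
          · exfalso
            apply ha
            rw [MulAction.mem_fixedPoints_iff_card_orbit_eq_one]
            simpa [Nat.card_eq_fintype_card] using hk
          · exact dvd_pow_self p k.succ_ne_zero
        rw [(CharP.cast_eq_zero_iff R p _).2 hdvd, zero_mul]
      · obtain ⟨u, rfl⟩ := Set.mem_toFinset.1 hx
        exact hf u a

end CfsgLib.Blocks
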