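import Cfsg.Agent.Lib.Blocks.Osima
import Cfsg.Agent.Lib.Blocks.NormalPKernel
import Cfsg.Agent.Lib.BlockReg.Integral
import Cfsg.Agent.Lib.Char.Twist

/-!
# Blocks of a quotient group
-/

set_option autoImplicit false
set_option maxHeartbeats 1000000
set_option synthInstance.maxHeartbeats 400000

namespace CfsgLib.Blocks

open Cfsg CfsgLib.Char
open scoped ComplexConjugate Classical

universe u v w

variable {G : Type u} [Group G] [Finite G] (N : Subgroup G) [hN : N.Normal]

/-- Inflation of an irreducible character of a quotient. -/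
noncomputable def infl (χ : IrrCharacter (G ⧸ N)) : IrrCharacter G :=
  ⟨(χ : G ⧸ N → ℂ) ∘ QuotientGroup.mk,
    CfsgLib.CharTwist.isIrrCharacter_comp χ.2 (QuotientGroup.mk' N) QuotientGroup.mk_surjective⟩

omit [Finite G] in
@[simp] theorem coe_infl (χ : IrrCharacter (G ⧸ N)) :
    (infl N χ : G → ℂ) = (χ : G ⧸ N → ℂ) ∘ QuotientGroup.mk := rfl

omit [Finite G] in
theorem infl_injective : Function.Injective (infl N) := fun χ ψ h =>
  Subtype.ext (QuotientGroup.mk_surjective.injective_comp_right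
    (congrArg (fun z : IrrCharacter G => (z : G → ℂ)) h))

theorem exists_infl_eq {ψ : IrrCharacter G} (h : ∀ n ∈ N, (ψ : G → ℂ) n = (ψ : G → ℂ) 1) :
    ∃ χ : IrrCharacter (G ⧸ N), infl N χ = ψ := by
  obtain ⟨η, hη, he⟩ := CfsgLib.CharTwist.exists_irr_quotient ψ.2 N h
  exact ⟨⟨η, hη⟩, Subtype.ext he.symm⟩

omit [Finite G] in
theorem infl_apply_mem (χ : IrrCharacter (G ⧸ N)) {n : G} (hn : n ∈ N) :
    (infl N χ : G → ℂ) n = (infl N χ : G → ℂ) 1 := by
  simp [(QuotientGroup.eq_one_iff n).2 hn]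

variable {R : Type v} [CommRing R]

/-- The sum of a central element over the fibres of the quotient map. -/
noncomputable def projC (a : Subalgebra.center R (MonoidAlgebra R G)) :
    Subalgebra.center R (MonoidAlgebra R (G ⧸ N)) :=
  haveI := Fintype.ofFinite G
  ⟨ofFun fun x : G ⧸ N => ∑ g ∈ Finset.univ.filter (fun g : G => (g : G ⧸ N) = x),
      (a : MonoidAlgebra R G).coeff g,
    ofFun_mem_center fun u x => by
      obtain ⟨u, rfl⟩ := QuotientGroup.mk_surjective u
      refine (Finset.sum_equiv (MulAut.conj u).toEquiv (fun g => ?_) fun g _ => ?_).symm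
      · simp only [Finset.mem_filter, Finset.mem_univ, true_and, MulEquiv.toEquiv_eq_coe,
          EquivLike.coe_coe, MulAut.conj_apply, QuotientGroup.mk_mul, QuotientGroup.mk_inv]
        exact ⟨fun h => by rw [h], fun h => by simpa using h⟩
      · exact coeff_eq_of_isConj a.2 (isConj_iff.2 ⟨u, rfl⟩ : IsConj g (u * g * u⁻¹))⟩

theorem coeff_projC [Fintype G] (a : Subalgebra.center R (MonoidAlgebra R G)) (x : G ⧸ N) :
    (projC N a : MonoidAlgebra R (G ⧸ N)).coeff x =
      ∑ g ∈ Finset.univ.filter (fun g : G => (g : G ⧸ N) = x), (a : MonoidAlgebra R G).coeff g := by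
  simp only [projC, coeff_ofFun]
  congr!

theorem projC_mapCenter {S : Type w} [CommRing S] (f : R →+* S)
    (a : Subalgebra.center R (MonoidAlgebra R G)) :
    projC N (mapCenter f a) = mapCenter f (projC N a) := by
  haveI := Fintype.ofFinite G
  refine Subtype.ext (MonoidAlgebra.ext (Finsupp.ext fun x => ?_))
  simp [coe_mapCenter, coeff_projC, map_sum]

theorem cosetSum_eq_coeff_projC (a : Subalgebra.center R (MonoidAlgebra R G)) (g : G) :
    cosetSum N (a : MonoidAlgebra R G) g = (projC N a : MonoidAlgebra R (G ⧸ N)).coeff g := by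
  letI := Fintype.ofFinite G
  letI := Fintype.ofFinite N
  rw [coeff_projC, cosetSum]
  refine Finset.sum_bij (fun (n : N) _ => g * n) ?_ ?_ ?_ ?_
  · intro n _
    simp [(QuotientGroup.eq_one_iff (n : G)).2 n.2]
  · intro n _ m _ h; exact Subtype.ext (mul_left_cancel h)
  · intro x hx
    simp only [Finset.mem_filter, Finset.mem_univ, true_and] at hx
    exact ⟨⟨g⁻¹ * x, QuotientGroup.eq.1 hx.symm⟩, Finset.mem_univ _, by simp⟩
  · intro n _; rfl

theorem omega_infl (χ : IrrCharacter (G ⧸ N)) (a : Subalgebra.center ℂ (MonoidAlgebra ℂ G)) :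
    omega (infl N χ) a = omega χ (projC N a) := by
  haveI := Fintype.ofFinite G
  haveI := Fintype.ofFinite (G ⧸ N)
  rw [omega_eq_sum, omega_eq_sum, coe_infl, Function.comp_apply, QuotientGroup.mk_one]
  congr 1
  rw [← Finset.sum_fiberwise Finset.univ (fun g : G => (g : G ⧸ N))]
  refine Finset.sum_congr rfl fun x _ => ?_
  rw [coeff_projC, Finset.sum_mul]
  exact Finset.sum_congr rfl fun g hg => by rw [Function.comp_apply, (Finset.mem_filter.1 hg).2]

variable {M : Ideal AlgInt} [M.IsMaximal]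

theorem lam_infl (χ : IrrCharacter (G ⧸ N))
    (a : Subalgebra.center (ResField M) (MonoidAlgebra (ResField M) G)) :
    lam M (infl N χ) a = lam M χ (projC N a) := by
  obtain ⟨b, rfl⟩ := mapCenter_surjective (red_surjective (M := M)) a
  rw [projC_mapCenter, lam_mapCenter, lam_mapCenter]
  congr 1
  apply Subtype.ext
  rw [coe_lamR, coe_lamR, omega_infl, projC_mapCenter]

theorem sameBlock_infl {χ ψ : IrrCharacter (G ⧸ N)}
    (h : SameBlock M (χ : G ⧸ N → ℂ) (ψ : G ⧸ N → ℂ)) :
    SameBlock M (infl N χ : G → ℂ) (infl N ψ : G → ℂ) :=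
  sameBlock_iff_lam.2 (AlgHom.ext fun a => by rw [lam_infl, lam_infl, sameBlock_iff_lam.1 h])

/-- Pullback of a central element of the quotient, constant on the fibres. -/
noncomputable def pullC (c : Subalgebra.center R (MonoidAlgebra R (G ⧸ N))) :
    Subalgebra.center R (MonoidAlgebra R G) :=
  ⟨ofFun fun g => (c : MonoidAlgebra R (G ⧸ N)).coeff g,
    ofFun_mem_center fun u x => (coeff_eq_of_isConj c.2
      (isConj_iff.2 ⟨(u : G ⧸ N), by simp⟩ :
        IsConj (x : G ⧸ N) ((u * x * u⁻¹ : G) : G ⧸ N))).symm⟩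

theorem projC_pullC (c : Subalgebra.center R (MonoidAlgebra R (G ⧸ N))) :
    projC N (pullC N c) = (Nat.card N : R) • c := by
  letI := Fintype.ofFinite N
  refine Subtype.ext (MonoidAlgebra.ext (Finsupp.ext fun x => ?_))
  obtain ⟨g, rfl⟩ := QuotientGroup.mk_surjective x
  rw [← cosetSum_eq_coeff_projC, cosetSum, Finset.sum_congr rfl
    (g := fun _ : N => (c : MonoidAlgebra R (G ⧸ N)).coeff (g : G ⧸ N))]
  · simp [Nat.card_eq_fintype_card]
  · intro n _
    simp [pullC, (QuotientGroup.eq_one_iff (n : G)).2 n.2]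

variable {p : ℕ}

theorem sameBlock_of_infl_of_coprime (hM : IsPModular p M) (hcard : ¬ p ∣ Nat.card N)
    {χ ψ : IrrCharacter (G ⧸ N)}
    (h : SameBlock M (infl N χ : G → ℂ) (infl N ψ : G → ℂ)) :
    SameBlock M (χ : G ⧸ N → ℂ) (ψ : G ⧸ N → ℂ) := by
  refine sameBlock_iff_lam.2 (AlgHom.ext fun c => ?_)
  have h1 : lam M (infl N χ) (pullC N c) = lam M (infl N ψ) (pullC N c) := by
    rw [sameBlock_iff_lam.1 h]
  rw [lam_infl, lam_infl, projC_pullC, map_smul, map_smul, smul_eq_mul, smul_eq_mul] at h1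
  refine mul_left_cancel₀ ?_ h1
  rw [← map_natCast (red M)]
  intro h0
  rw [red_eq_zero] at h0
  exact CfsgLib.BlockReg.not_memIdeal_natCast hM hcard (by simpa using h0)

omit hN [M.IsMaximal] in
/-- Over a normal subgroup the characters trivial on it have constant idempotent. -/
theorem blockCoeff_trivialOn [N.Normal] (g : G) :
    blockCoeff {χ : IrrCharacter G | ∀ n ∈ N, (χ : G → ℂ) n = (χ : G → ℂ) 1} g =
      if g ∈ N then (Nat.card N : ℂ)⁻¹ else 0 := by
  have hA : {χ : IrrCharacter G | ∀ n ∈ N, (χ : G → ℂ) n = (χ : G → ℂ) 1} =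
      Set.range (infl N) :=
    Set.ext fun ψ => ⟨fun h => exists_infl_eq N h, fun ⟨χ, hχ⟩ n hn => hχ ▸ infl_apply_mem N χ hn⟩
  rw [hA, blockCoeff, finsum_mem_range (infl_injective N), finsum_eq_sum_of_fintype]
  have hsum : ∑ χ : IrrCharacter (G ⧸ N), (infl N χ : G → ℂ) 1 * conj ((infl N χ : G → ℂ) g) =
      if g ∈ N then (Nat.card (G ⧸ N) : ℂ) else 0 := by
    haveI := Fintype.ofFinite (G ⧸ N)
    rw [Finset.sum_congr rfl (g := fun χ : IrrCharacter (G ⧸ N) =>
      (χ : G ⧸ N → ℂ) 1 * (χ : G ⧸ N → ℂ) ((g : G ⧸ N))⁻¹)]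
    · rw [CfsgLib.Char.sum_apply_one_mul]
      refine if_congr ?_ rfl rfl
      rw [inv_eq_one, QuotientGroup.eq_one_iff]
    · intro χ _
      simp [IsIrrCharacter.apply_inv χ.2]
  rw [hsum]
  split_ifs with hg
  · rw [Subgroup.card_eq_card_quotient_mul_card_subgroup N]
    have h1 : (Nat.card (G ⧸ N) : ℂ) ≠ 0 := Nat.cast_ne_zero.2 Nat.card_pos.ne'
    push_cast
    field_simp
  · rw [mul_zero]

/-- Over a normal subgroup of order prime to `p`, being trivial on it is a property of blocks. -/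
theorem trivialOn_of_sameBlock (hM : IsPModular p M) (hcard : ¬ p ∣ Nat.card N)
    {χ ψ : IrrCharacter G} (hχ : ∀ n ∈ N, (χ : G → ℂ) n = (χ : G → ℂ) 1)
    (h : SameBlock M (χ : G → ℂ) (ψ : G → ℂ)) : ∀ n ∈ N, (ψ : G → ℂ) n = (ψ : G → ℂ) 1 :=
  blockOf_subset_of_memLocalRing
    (A := {χ : IrrCharacter G | ∀ n ∈ N, (χ : G → ℂ) n = (χ : G → ℂ) 1}) (fun g => by
      rw [blockCoeff_trivialOn]
      split_ifs
      · exact CfsgLib.BlockReg.memRing_inv_natCast hM hcard
      · exact Subring.zero_mem _) hχ h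

omit hN in
/-- Every block contains a character trivial on a given normal `p`-subgroup. -/
theorem exists_infl_mem [N.Normal] (hM : IsPModular p M) (hP : IsPGroup p N)
    {B : Set (IrrCharacter G)} (hB : IsPBlock M B) :
    ∃ χ : IrrCharacter (G ⧸ N), infl N χ ∈ B := by
  haveI : Fact p.Prime := ⟨hM.1⟩
  haveI : CharP (ResField M) p := charP_resField hM.1 (natCast_mem_of_isPModular hM)
  obtain ⟨ψ, hψ⟩ := IsPBlock.nonempty hB
  by_contra hcon
  push Not at hcon
  have h0 : ∀ χ, lam M χ (projC N (blockIdem hB)) = 0 := fun χ => by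
    rw [← lam_infl, lam_blockIdem, blockInd, if_neg (hcon χ)]
  obtain ⟨m, hm⟩ := isNilpotent_of_lam_eq_zero _ h0
  let π : MonoidAlgebra (ResField M) G →+* MonoidAlgebra (ResField M) (G ⧸ N) :=
    MonoidAlgebra.mapDomainRingHom (ResField M) (QuotientGroup.mk' N)
  have hπ : ∀ a : Subalgebra.center (ResField M) (MonoidAlgebra (ResField M) G),
      π a = (projC N a : MonoidAlgebra (ResField M) (G ⧸ N)) := by
    intro a
    haveI := Fintype.ofFinite G
    refine MonoidAlgebra.ext (Finsupp.ext fun x => ?_)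
    have ha : (a : MonoidAlgebra (ResField M) G) =
        ∑ g : G, MonoidAlgebra.single g ((a : MonoidAlgebra (ResField M) G).coeff g) := by
      ext y
      simp [Finsupp.single_apply]
    rw [ha, map_sum, coeff_projC, MonoidAlgebra.coeff_sum, Finsupp.finsetSum_apply,
      Finset.sum_filter]
    refine Finset.sum_congr rfl fun g _ => ?_
    simp [π, MonoidAlgebra.mapDomainRingHom_apply, Finsupp.single_apply, eq_comm]
  have hidem := (isIdempotentElem_blockIdem hB).map
    ((π.comp (Subalgebra.center (ResField M) (MonoidAlgebra (ResField M) G)).val.toRingHom))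
  have hzero : π (blockIdem hB : MonoidAlgebra (ResField M) G) = 0 := by
    have h1 := congrArg Subtype.val hm
    rw [SubmonoidClass.coe_pow, ← hπ] at h1
    exact hidem.eq_zero_of_isNilpotent ⟨m, h1⟩
  rw [hπ] at hzero
  have hnil := isNilpotent_of_cosetSum hP (blockIdem hB).2 fun g => by
    rw [cosetSum_eq_coeff_projC, hzero]; simp
  have h2 : (blockIdem hB : MonoidAlgebra (ResField M) G) = 0 :=
    ((isIdempotentElem_blockIdem hB).map (Subalgebra.center (ResField M)
      (MonoidAlgebra (ResField M) G)).val).eq_zero_of_isNilpotent hnil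
  have h3 : lam M ψ (blockIdem hB) = 1 := lam_blockIdem_of_mem hB hψ
  rw [show blockIdem hB = 0 from Subtype.ext h2, map_zero] at h3
  exact zero_ne_one h3

omit hN [M.IsMaximal] in
/-- A regular element of a quotient by a `p`-group lifts to a regular element. -/
theorem exists_regular_lift [N.Normal] (hp : p.Prime) {x : G ⧸ N} (hx : ¬ p ∣ orderOf x) :
    ∃ g : G, ¬ p ∣ orderOf g ∧ (g : G ⧸ N) = x := by
  obtain ⟨g, rfl⟩ := QuotientGroup.mk_surjective x
  obtain ⟨k, j, hk, hkj, hreg, -⟩ := CfsgLib.BlockReg.exists_regular_power hp g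
  refine ⟨g ^ k, hreg, ?_⟩
  have h1 : ((g : G ⧸ N) ^ (k - 1)) ^ p ^ j = 1 := by
    rw [← pow_mul, ← QuotientGroup.mk_pow, hkj, QuotientGroup.mk_one]
  have hco : (orderOf (g : G ⧸ N)).Coprime (p ^ j) :=
    Nat.Coprime.pow_right _ ((hp.coprime_iff_not_dvd.2 hx).symm)
  rw [← pow_mul, ← orderOf_dvd_iff_pow_eq_one] at h1
  have h2 := orderOf_dvd_iff_pow_eq_one.1 (hco.dvd_of_dvd_mul_right h1)
  rw [QuotientGroup.mk_pow]
  conv_lhs => rw [show k = k - 1 + 1 by omega, pow_succ, h2, one_mul]

omit hN [M.IsMaximal] [Finite G] in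
/-- The image of a regular element is regular. -/
theorem regular_mk [N.Normal] {g : G} (hg : ¬ p ∣ orderOf g) : ¬ p ∣ orderOf (g : G ⧸ N) :=
  fun h => hg (h.trans (orderOf_map_dvd (QuotientGroup.mk' N) g))

/-- When `G / C(P)` is a `p`-group, inflation from `G / P` is injective on blocks. -/
theorem sameBlock_of_infl_of_pCentral (hM : IsPModular p M) (hP : IsPGroup p N)
    {k : ℕ} (hC : (Subgroup.centralizer (N : Set G)).index = p ^ k)
    {χ ψ : IrrCharacter (G ⧸ N)}
    (h : SameBlock M (infl N χ : G → ℂ) (infl N ψ : G → ℂ)) :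
    SameBlock M (χ : G ⧸ N → ℂ) (ψ : G ⧸ N → ℂ) := by
  haveI : Fact p.Prime := ⟨hM.1⟩
  haveI := Fintype.ofFinite G
  have hb := isPBlock_blockOf (M := M) χ
  set e := (blockIdem hb : MonoidAlgebra (ResField M) (G ⧸ N)) with he
  let z : Subalgebra.center (ResField M) (MonoidAlgebra (ResField M) G) :=
    ⟨ofFun fun g => if p ∣ orderOf g then 0 else e.coeff g, ofFun_mem_center fun u x => by
      have h1 : orderOf (u * x * u⁻¹) = orderOf x := MulEquiv.orderOf_eq (MulAut.conj u) x
      rw [h1]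
      split_ifs with hx
      · rfl
      · exact (coeff_eq_of_isConj (blockIdem hb).2 (isConj_iff.2 ⟨(u : G ⧸ N), by simp⟩ :
          IsConj (x : G ⧸ N) ((u * x * u⁻¹ : G) : G ⧸ N))).symm⟩
  have huniq : ∀ g g' : G, ¬ p ∣ orderOf g → ¬ p ∣ orderOf g' → (g : G ⧸ N) = g' → g' = g := by
    intro g g' hg hg' hgg
    have hgC : g ∈ Subgroup.centralizer (N : Set G) := by
      have h1 : g ^ p ^ k ∈ Subgroup.centralizer (N : Set G) := hC ▸ Subgroup.pow_index_mem _ g
      have hco : (p ^ k).Coprime (orderOf g) :=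
        Nat.Coprime.pow_left _ (hM.1.coprime_iff_not_dvd.2 hg)
      obtain ⟨m, hm⟩ := exists_pow_eq_self_of_coprime hco
      rw [← hm]
      exact pow_mem h1 m
    have hu : g⁻¹ * g' ∈ N := QuotientGroup.eq.1 hgg
    obtain ⟨j, hj⟩ := hP ⟨_, hu⟩
    have h2 : g⁻¹ * g' = 1 := by
      refine CfsgLib.BlockReg.eq_one_of_regular_mul (p := p) (k := j) ?_ hg
        (congrArg Subtype.val hj) (by rwa [mul_inv_cancel_left])
      exact (Subgroup.mem_centralizer_iff.1 hgC _ hu).symm
    exact (inv_mul_eq_one.1 h2).symm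
  have hproj : projC N z = blockIdem hb := by
    refine Subtype.ext (MonoidAlgebra.ext (Finsupp.ext fun x => ?_))
    rw [coeff_projC]
    by_cases hx : p ∣ orderOf x
    · rw [Finset.sum_eq_zero fun g hg => ?_]
      · rw [(coeff_blockIdem_eq_zero_iff hb x).2 ?_]
        rw [CfsgLib.BlockReg.blockCoeff_singular hM hb x hx]
        exact CfsgLib.BlockReg.memIdeal_zero hM
      · have hgs : p ∣ orderOf g := by
          by_contra hg'
          exact regular_mk N hg' ((Finset.mem_filter.1 hg).2 ▸ hx)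
        simp [z, hgs]
    · obtain ⟨g, hg, rfl⟩ := exists_regular_lift N hM.1 hx
      rw [Finset.sum_eq_single g]
      · simp [z, hg, e]
      · intro g' hg' hne
        have hgs : p ∣ orderOf g' := by
          by_contra h'
          exact hne (huniq g g' hg h' (Finset.mem_filter.1 hg').2.symm)
        simp [z, hgs]
      · simp
  have h1 : lam M (infl N χ) z = lam M (infl N ψ) z := by rw [sameBlock_iff_lam.1 h]
  rw [lam_infl, lam_infl, hproj, lam_blockIdem_of_mem hb (mem_blockOf_self χ), lam_blockIdem,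
    blockInd] at h1
  by_contra hn
  have hmem : ψ ∉ blockOf M (χ : G ⧸ N → ℂ) := hn
  rw [if_neg hmem] at h1
  exact one_ne_zero h1

end CfsgLib.Blocks
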