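import Cfsg.Agent.Lib.Blocks.Cover
import Cfsg.Agent.Lib.Blocks.Induced
import Cfsg.Agent.Lib.Char.Induced

/-!
# Covering and induction over a normal subgroup containing the centralizer of a normal `p`-subgroup
-/

set_option autoImplicit false
set_option maxHeartbeats 1000000
set_option synthInstance.maxHeartbeats 400000

namespace CfsgLib.Blocks

open Cfsg CfsgLib.Char
open scoped Classical

universe u

variable {G : Type u} [Group G] [Finite G] {p : ℕ} [Fact p.Prime] {M : Ideal AlgInt} [M.IsMaximal]

/-- Outside the centralizer of a normal `p`-subgroup the central characters vanish modulo `M`. -/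
theorem lam_classSumC_eq_zero_of_not_mem_centralizer (hM : IsPModular p M) {Q : Subgroup G}
    [Q.Normal] (hQ : IsPGroup p Q) (χ : IrrCharacter G) {g : G}
    (hg : g ∉ Subgroup.centralizer (Q : Set G)) :
    lam M χ (classSumC (ResField M) g) = 0 := by
  haveI : CharP (ResField M) p := charP_resField hM.1 hM.2.2
  obtain ⟨n, hn⟩ := isNilpotent_of_cosetSum hQ (classSum_mem_center (R := ResField M) g)
    (cosetSum_eq_zero_of_centralizer (p := p) hQ (conjFixed_of_mem_center (classSum_mem_center g))
      fun x hx => by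
        rw [coeff_classSum, if_neg]
        intro hgx
        obtain ⟨c, hc⟩ := isConj_iff.1 hgx.symm
        exact hg (hc ▸ (Subgroup.Normal.conj_mem inferInstance x hx c)))
  refine eq_zero_of_pow_eq_zero (n := n) ?_
  rw [← map_pow, show classSumC (ResField M) g ^ n = 0 from Subtype.ext (by
    rw [SubmonoidClass.coe_pow, coe_classSumC]; exact hn), map_zero]

variable (N : Subgroup G) [N.Normal] [Fintype N]

/-- A covered block induces every block covering it. -/
theorem isInducedBlock_of_covers (hM : IsPModular p M) {Q : Subgroup G} [Q.Normal]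
    (hQ : IsPGroup p Q) (hCN : Subgroup.centralizer (Q : Set G) ≤ N) {χ : IrrCharacter G}
    {θ : IrrCharacter N} (hc : classInner (fun n : N => (χ : G → ℂ) n) (θ : N → ℂ) ≠ 0) :
    IsInducedBlock M N (blockOf M (θ : N → ℂ)) (blockOf M (χ : G → ℂ)) := by
  refine isInducedBlock_of_lam_resCenter_eq θ χ ((forall_memLocalIdeal_iff_lam_resCenter N θ χ).1
    fun g => ?_)
  by_cases hg : g ∈ N
  · rw [← centralChar_eq_inducedCentralChar N hc ⟨g, hg⟩, sub_self]
    exact CfsgLib.BlockReg.memIdeal_zero hM
  · rw [inducedCentralChar_eq_zero_of_not_mem N _ hg, zero_sub]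
    refine CfsgLib.BlockReg.memIdeal_neg ?_
    rw [← lam_classSumC_eq_zero_iff]
    exact lam_classSumC_eq_zero_of_not_mem_centralizer hM hQ χ fun h => hg (hCN h)

omit [N.Normal] in
/-- Every character of a subgroup is a constituent of a restriction. -/
theorem exists_over_constituent (θ : IrrCharacter N) :
    ∃ χ : IrrCharacter G, classInner (fun n : N => (χ : G → ℂ) n) (θ : N → ℂ) ≠ 0 := by
  haveI := Fintype.ofFinite G
  obtain ⟨χ, hχ, hc⟩ := CfsgLib.Clifford.exists_constituent
    (CfsgLib.Char.IsCharacter.indFun N (CfsgLib.Char.IsIrrCharacter.isCharacter θ.2)) (by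
      rw [CfsgLib.Char.indFun_apply_one]
      exact mul_ne_zero (Nat.cast_ne_zero.2 Subgroup.index_ne_zero_of_finite)
        (CfsgLib.Char.IsIrrCharacter.apply_one_ne_zero θ.2))
  rw [CfsgLib.Char.classInner_indFun N _ _ (CfsgLib.Char.IsIrrCharacter.isClassFunction hχ),
    ← CfsgLib.Char.classInner_conj_symm] at hc
  exact ⟨⟨χ, hχ⟩, fun h => hc (by rw [h, map_zero])⟩

/-- The induced block covers. -/
theorem exists_covering_of_induced (hM : IsPModular p M) {Q : Subgroup G} [Q.Normal]
    (hQ : IsPGroup p Q) (hCN : Subgroup.centralizer (Q : Set G) ≤ N) {b : Set (IrrCharacter N)}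
    {B : Set (IrrCharacter G)} (hind : IsInducedBlock M N b B) :
    ∃ χ ∈ B, ∃ θ ∈ b, classInner (fun n : N => (χ : G → ℂ) n) (θ : N → ℂ) ≠ 0 := by
  obtain ⟨θ, hθ⟩ := IsPBlock.nonempty hind.1
  obtain ⟨χ, hc⟩ := exists_over_constituent N θ
  have h := isInducedBlock_of_covers (M := M) N hM hQ hCN hc
  rw [← IsPBlock.eq_blockOf hind.1 hθ] at h
  exact ⟨χ, IsInducedBlock.unique h hind ▸ mem_blockOf_self χ, θ, hθ, hc⟩

omit [N.Normal] [Fintype N] in
/-- Restricting in two steps. -/
theorem lam_resCenter_trans {K : Subgroup N} {L : Subgroup G} (φ : K ≃* L)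
    (hφ : ∀ k, ((φ k : L) : G) = ((k : N) : G)) (ξ : IrrCharacter L)
    (a : Subalgebra.center (ResField M) (MonoidAlgebra (ResField M) G)) :
    lam M (Pairs.pull φ ξ) (resCenter K (resCenter N a)) = lam M ξ (resCenter L a) := by
  obtain ⟨b, rfl⟩ := mapCenter_surjective (red_surjective (M := M)) a
  rw [← mapCenter_resCenter, ← mapCenter_resCenter, ← mapCenter_resCenter, lam_mapCenter,
    lam_mapCenter]
  congr 1
  apply Subtype.ext
  rw [coe_lamR, coe_lamR, mapCenter_resCenter, mapCenter_resCenter, mapCenter_resCenter]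
  haveI := Fintype.ofFinite K
  haveI := Fintype.ofFinite L
  rw [omega_eq_sum, omega_eq_sum, Pairs.pull_apply, map_one]
  congr 1
  refine Fintype.sum_equiv φ.toEquiv _ _ fun k => ?_
  simp [hφ]

end CfsgLib.Blocks
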