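import Cfsg.Agent.Lib.Blocks.Pairs.Transport
import Cfsg.Agent.Lib.Blocks.CoverInduced
import Cfsg.Agent.Lib.Blocks.CentSylow

/-!
# Transport of defect groups and induced blocks along isomorphisms
-/

set_option autoImplicit false
set_option maxHeartbeats 1000000
set_option synthInstance.maxHeartbeats 400000

namespace CfsgLib.Blocks

open Cfsg
open scoped Classical

universe u w

variable {H : Type u} [Group H] [Finite H] {K : Type w} [Group K] [Finite K] {p : ℕ} [Fact p.Prime]
  {M : Ideal AlgInt}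

omit [Finite H] [Finite K] in
theorem card_comap_equiv (φ : K ≃* H) (D : Subgroup H) :
    Nat.card (D.comap φ.toMonoidHom) = Nat.card D := by
  rw [show D.comap φ.toMonoidHom = D.map φ.symm.toMonoidHom from
    Subgroup.comap_equiv_eq_map_symm φ D]
  exact Subgroup.card_map_of_injective φ.symm.injective

omit [Finite H] [Finite K] in
theorem comap_centralizer_singleton (φ : K ≃* H) (k : K) :
    (Subgroup.centralizer ({φ k} : Set H)).comap φ.toMonoidHom =
      Subgroup.centralizer ({k} : Set K) := by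
  ext x
  simp only [Subgroup.mem_comap, MulEquiv.coe_toMonoidHom, Subgroup.mem_centralizer_singleton_iff]
  rw [← map_mul, ← map_mul, φ.injective.eq_iff]

theorem isDefectClass_pullSet (φ : K ≃* H) {e : Set (IrrCharacter H)} {g : H}
    (hg : IsDefectClass M e g) : IsDefectClass M (Pairs.pullSet φ e) (φ.symm g) := by
  obtain ⟨h1, h2, h3⟩ := hg
  refine ⟨?_, ?_, ?_⟩
  · rwa [Pairs.blockCoeff_pullSet, φ.apply_symm_apply]
  · rwa [Pairs.blockCoeff_pullSet, φ.apply_symm_apply]
  · rintro _ ⟨χ, hχ, rfl⟩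
    rw [Pairs.centralChar_pull, φ.apply_symm_apply]
    exact h3 χ hχ

theorem isDefectGroup_pullSet (φ : K ≃* H) {e : Set (IrrCharacter H)} {D : Subgroup H}
    (hD : IsDefectGroup p M e D) :
    IsDefectGroup p M (Pairs.pullSet φ e) (D.comap φ.toMonoidHom) := by
  obtain ⟨g, hg, hS⟩ := hD
  have hS' : IsCentSylow p g D := hS
  have hc := comap_centralizer_singleton φ (φ.symm g)
  rw [φ.apply_symm_apply] at hc
  refine ⟨φ.symm g, isDefectClass_pullSet φ hg, ?_⟩
  refine isCentSylow_of_card ?_ ?_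
  · rw [← hc]
    exact Subgroup.comap_mono hS'.le
  · rw [card_comap_equiv, hS'.card, ← hc, card_comap_equiv]

/-- Induction in stages, through an isomorphic copy inside an intermediate group. -/
theorem isInducedBlock_trans {G : Type u} [Group G] [Finite G] [M.IsMaximal] (N : Subgroup G)
    {L : Subgroup G} {L' : Subgroup N} (φ : L' ≃* L) (hφ : ∀ k, ((φ k : L) : G) = ((k : N) : G))
    {b : Set (IrrCharacter L)} {β : Set (IrrCharacter N)} {B : Set (IrrCharacter G)}
    (h1 : IsInducedBlock M L' (Pairs.pullSet φ b) β) (hb : IsInducedBlock M L b B) :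
    IsInducedBlock M N β B := by
  obtain ⟨ξ, hξ⟩ := IsPBlock.nonempty hb.1
  obtain ⟨χ, hχ⟩ := IsPBlock.nonempty hb.2.1
  obtain ⟨ψ, hψ⟩ := IsPBlock.nonempty h1.2.1
  rw [IsPBlock.eq_blockOf h1.2.1 hψ, IsPBlock.eq_blockOf hb.2.1 hχ]
  refine isInducedBlock_of_lam_resCenter_eq ψ χ fun a => ?_
  rw [← IsInducedBlock.lam_resCenter_eq hb hξ hχ, ← lam_resCenter_trans N φ hφ,
    IsInducedBlock.lam_resCenter_eq h1 ⟨ξ, hξ, rfl⟩ hψ]

/-- Conjugation and pulling back along a compatible inclusion commute. -/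
theorem conjIrr_pull {G : Type u} [Group G] {N : Subgroup G} {L : Subgroup G} [L.Normal]
    {L' : Subgroup N} [L'.Normal] (φ : L' ≃* L) (hφ : ∀ k, ((φ k : L) : G) = ((k : N) : G))
    (θ : IrrCharacter L) (g : N) :
    conjIrr L' (Pairs.pull φ θ) g = Pairs.pull φ (conjIrr L θ (g : G)) := by
  refine Subtype.ext (funext fun k => congrArg (θ : L → ℂ) (Subtype.ext ?_))
  rw [hφ]
  show (g : G) * ((k : N) : G) * (g : G)⁻¹ = (g : G) * ((φ k : L) : G) * (g : G)⁻¹
  rw [hφ]

end CfsgLib.Blocks
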