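import Cfsg.Agent.Lib.Blocks.Defect
import Cfsg.Agent.Lib.BlockReg.Integral

/-!
# Characters vanishing on the elements of order p have defect zero

The sum `S` of all elements with `x ^ p = 1` has central character `1`, while for a nontrivial
defect group `D` its Brauer image is invariant under translation by a central element of order `p`
of the centralizer of `D`, hence squares to zero.
-/

set_option autoImplicit false

namespace CfsgLib.Blocks

open Cfsg CfsgLib.Char
open scoped Classical

universe u

variable {G : Type u} [Group G] [Finite G] {p : ℕ} [Fact p.Prime]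

/-- A function invariant under translation by a central element of order `p` squares to zero in
the group algebra in characteristic `p`. -/
theorem mul_self_eq_zero_of_translation_invariant {R : Type*} [CommRing R] [CharP R p]
    {z : G} (hz : orderOf z = p) (hc : ∀ x : G, z * x = x * z) (a : MonoidAlgebra R G)
    (ha : ∀ x, a.coeff (z * x) = a.coeff x) : a * a = 0 := by
  haveI := Fintype.ofFinite G
  have hP : IsPGroup p (Subgroup.zpowers z) :=
    IsPGroup.of_card (n := 1) (by rw [Nat.card_zpowers, hz, pow_one])
  have hpow : ∀ u ∈ Subgroup.zpowers z,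
      (∀ x, a.coeff (u * x) = a.coeff x) ∧ ∀ x, u * x = x * u := by
    intro u hu
    rw [← mem_powers_iff_mem_zpowers] at hu
    obtain ⟨n, rfl⟩ := hu
    refine ⟨?_, fun x => ((show Commute z x from hc x).pow_left n).eq⟩
    induction n with
    | zero => simp
    | succ n ih => intro x; show a.coeff (z ^ (n + 1) * x) = _; rw [pow_succ', mul_assoc, ha, ih]
  ext c
  rw [coeff_mul_group, MonoidAlgebra.coeff_zero, Finsupp.zero_apply,
    sum_eq_sum_fixed (P := Subgroup.zpowers z) (α := G) hP]
  · refine Finset.sum_eq_zero fun x hx => ?_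
    exfalso
    have h1 : (⟨z, Subgroup.mem_zpowers z⟩ : Subgroup.zpowers z) • x = x :=
      (Finset.mem_filter.1 hx).2 _
    have h2 : z * x = x := h1
    rw [mul_eq_right] at h2
    rw [h2, orderOf_one] at hz
    exact (Fact.out : p.Prime).ne_one hz.symm
  · intro u x
    show a.coeff ((u : G) * x) * a.coeff (((u : G) * x)⁻¹ * c) = _
    rw [(hpow u u.2).1 x, show ((u : G) * x)⁻¹ * c = (u : G)⁻¹ * (x⁻¹ * c) by
      rw [mul_inv_rev, mul_assoc, ← mul_assoc ((u : G)⁻¹), (hpow _ (inv_mem u.2)).2 x⁻¹, mul_assoc],
      (hpow _ (inv_mem u.2)).1]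

/-- A character whose values at the elements of order `p` add up to zero has defect zero. -/
theorem factorization_deg_of_sum_eq_zero [Fintype G] (χ : IrrCharacter G)
    (hsum : ∑ g ∈ Finset.univ.filter (fun g : G => orderOf g = p), (χ : G → ℂ) g = 0) :
    (charDegree (χ : G → ℂ)).factorization p = (Nat.card G).factorization p := by
  have hp : p.Prime := Fact.out
  obtain ⟨M, hM⟩ := CfsgLib.BlockReg.exists_isPModular hp
  haveI : M.IsMaximal := hM.2.1
  haveI : CharP (ResField M) p := charP_resField hM.1 hM.2.2
  set B := blockOf M (χ : G → ℂ) with hBdef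
  have hB : IsPBlock M B := isPBlock_blockOf χ
  have hχB : χ ∈ B := mem_blockOf_self χ
  obtain ⟨D, hD⟩ := exists_defectGroup hM hB
  have hcard := card_defectGroup hM hB hD
  have hle : (charDegree (χ : G → ℂ)).factorization p ≤ (Nat.card G).factorization p :=
    ((Nat.factorization_le_iff_dvd (CfsgLib.BlockReg.deg_pos χ).ne' Nat.card_pos.ne').2
      (CfsgLib.BlockReg.deg_dvd_card χ)) p
  rcases Nat.eq_zero_or_pos (blockDefect p B) with hd | hd
  · rw [CfsgLib.BlockReg.blockDefect_eq, Nat.sub_eq_zero_iff_le] at hd
    exact le_antisymm hle (hd.trans (CfsgLib.BlockReg.minExp_le hχB))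
  exfalso
  have hDp : IsPGroup p D := isPGroup_defectGroup hD
  haveI : Nontrivial D := by
    rw [← Finite.one_lt_card_iff_nontrivial, hcard]
    exact Nat.one_lt_pow hd.ne' hp.one_lt
  haveI := hDp.center_nontrivial
  have hdvd : p ∣ Nat.card (Subgroup.center D) := by
    obtain ⟨n, hn⟩ := IsPGroup.iff_card.1 (hDp.to_subgroup (Subgroup.center D))
    rcases Nat.eq_zero_or_pos n with rfl | hn0
    · exact absurd (Finite.one_lt_card_iff_nontrivial.2 ‹_›) (by rw [hn]; simp)
    · exact hn ▸ dvd_pow_self p hn0.ne'
  obtain ⟨z, hz⟩ := exists_prime_orderOf_dvd_card' (G := Subgroup.center D) p hdvd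
  set H := Subgroup.centralizer (D : Set G) with hH
  have hzD : ((z : D) : G) ∈ D := (z : D).2
  have hzH : ((z : D) : G) ∈ H := by
    rw [hH, Subgroup.mem_centralizer_iff]
    intro y hy
    exact congrArg Subtype.val (Subgroup.mem_center_iff.1 z.2 ⟨y, hy⟩)
  have hzo : orderOf ((z : D) : G) = p := by
    rw [Subgroup.orderOf_coe, Subgroup.orderOf_coe, hz]
  let S : Subalgebra.center (ResField M) (MonoidAlgebra (ResField M) G) :=
    ⟨ofFun fun x => if x ^ p = 1 then 1 else 0, ofFun_mem_center fun u x => by
      simp only [conj_pow, conj_eq_one_iff]⟩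
  have hlam : lam M χ S = 1 := by
    let SR : Subalgebra.center (locRing M) (MonoidAlgebra (locRing M) G) :=
      ⟨ofFun fun x => if x ^ p = 1 then 1 else 0, ofFun_mem_center fun u x => by
        simp only [conj_pow, conj_eq_one_iff]⟩
    have hSR : S = mapCenter (red M) SR := Subtype.ext (MonoidAlgebra.ext (Finsupp.ext fun x => by
      rw [coe_mapCenter, coeff_map]
      show (if x ^ p = 1 then (1 : ResField M) else 0) = red M (if x ^ p = 1 then 1 else 0)
      split_ifs <;> simp))
    have hone : lamR M χ SR = 1 := by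
      apply Subtype.ext
      rw [coe_lamR, omega_eq_sum, OneMemClass.coe_one,
        div_eq_one_iff_eq (IsIrrCharacter.apply_one_ne_zero χ.2)]
      have hterm : ∀ g : G, ((mapCenter (locRing M).subtype SR :
          Subalgebra.center ℂ (MonoidAlgebra ℂ G)) : MonoidAlgebra ℂ G).coeff g * (χ : G → ℂ) g =
          (if g = 1 then (χ : G → ℂ) 1 else 0) + if orderOf g = p then (χ : G → ℂ) g else 0 := by
        intro g
        rw [coe_mapCenter, coeff_map]
        show ((locRing M).subtype (if g ^ p = 1 then 1 else 0)) * (χ : G → ℂ) g = _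
        by_cases h1 : g = 1
        · subst h1
          rw [if_pos (one_pow p), if_pos rfl, if_neg (by rw [orderOf_one]; exact hp.ne_one.symm)]
          simp
        · by_cases h2 : g ^ p = 1
          · rw [if_pos h2, if_neg h1, if_pos (orderOf_eq_prime h2 h1)]
            simp
          · rw [if_neg h2, if_neg h1,
              if_neg (fun h => h2 (orderOf_dvd_iff_pow_eq_one.1 h.dvd))]
            simp
      rw [Finset.sum_congr rfl fun g _ => hterm g, Finset.sum_add_distrib, Finset.sum_ite_eq',
        if_pos (Finset.mem_univ _), ← Finset.sum_filter, hsum, add_zero]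
    rw [hSR, lam_mapCenter, hone, map_one]
  have hT : brTo D H (S : MonoidAlgebra (ResField M) G) *
      brTo D H (S : MonoidAlgebra (ResField M) G) = 0 := by
    refine mul_self_eq_zero_of_translation_invariant (p := p) (z := (⟨_, hzH⟩ : H))
      (by rw [← Subgroup.orderOf_coe]; exact hzo) (fun x => ?_) _ (fun x => ?_)
    · exact Subtype.ext (Subgroup.mem_centralizer_iff.1 x.2 _ hzD)
    · rw [coeff_brTo, coeff_brTo, if_pos (show ((⟨_, hzH⟩ * x : H) : G) ∈ _ from (⟨_, hzH⟩ * x : H).2),
        if_pos (show (x : G) ∈ _ from x.2)]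
      show (if (((z : D) : G) * (x : G)) ^ p = 1 then (1 : ResField M) else 0) = _
      have hc : Commute ((z : D) : G) (x : G) := Subgroup.mem_centralizer_iff.1 x.2 _ hzD
      rw [hc.mul_pow, show ((z : D) : G) ^ p = 1 from orderOf_dvd_iff_pow_eq_one.1 hzo.dvd, one_mul]
      rfl
  have hSS : lam M χ (S * S) = 0 := by
    refine lam_eq_zero_of_brTo_eq_zero hM hB hχB (P := D) (H := H) hDp le_rfl _ ?_ ?_
    · push_cast
      rw [brTo_mul hDp le_rfl (conjFixed_of_mem_center S.2) (conjFixed_of_mem_center S.2), hT]
    · rw [brTo_blockIdem_ne_zero_iff hM hB hD hDp le_rfl]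
      refine ⟨1, ?_⟩
      rintro x ⟨y, hy, rfl⟩
      simpa using hy
  rw [map_mul, hlam, one_mul] at hSS
  exact one_ne_zero hSS

/-- **Knörr**: a character vanishing on the elements of order `p` has defect zero. -/
theorem factorization_deg_of_vanishing (χ : IrrCharacter G)
    (hvan : ∀ g : G, orderOf g = p → (χ : G → ℂ) g = 0) :
    (charDegree (χ : G → ℂ)).factorization p = (Nat.card G).factorization p :=
  haveI := Fintype.ofFinite G
  factorization_deg_of_sum_eq_zero χ
    (Finset.sum_eq_zero fun g hg => hvan g (Finset.mem_filter.1 hg).2)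

end CfsgLib.Blocks
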