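import Cfsg.Agent.Lib.Blocks.HarrisKnorr
import Cfsg.Agent.Lib.Blocks.CoverInduced
import Cfsg.Agent.Lib.Glauberman.CoprimeDegree
import Cfsg.Agent.Lib.Blocks82.HallHigman
import Cfsg.Agent.Lib.Components.Subnormal
import Cfsg.Agent.S0914

/-!
# Fong: the block over an invariant character of the `p'`-core of a `p`-solvable group
-/

set_option autoImplicit false
set_option maxHeartbeats 1000000
set_option synthInstance.maxHeartbeats 400000

namespace CfsgLib.Blocks

open Cfsg CfsgLib.CharTwist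
open scoped Classical

universe u

/-- The converse reading of induction inside a subgroup. -/
theorem isInducedBlockIn_of_isInducedBlock {G : Type u} [Group G] [Finite G] {M : Ideal AlgInt}
    {H K : Subgroup G} {K' : Subgroup H} (φ : K' ≃* K)
    (hφ : ∀ x, ((φ x : K) : G) = ((x : H) : G)) {e : Set (IrrCharacter K)} (he : IsPBlock M e)
    {f : Set (IrrCharacter H)} (h : IsInducedBlock M K' (Pairs.pullSet φ e) f) :
    IsInducedBlockIn M H K e f := by
  obtain ⟨-, hf, hh⟩ := h
  refine ⟨he, hf, fun ξ hξ χ hχ x => ?_⟩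
  have e' : inducedCentralChar K' (Pairs.pull φ ξ : K' → ℂ) x =
      inducedCentralCharIn H K (ξ : K → ℂ) (x : G) := by
    refine finsum_mem_eq_of_bijOn φ ⟨fun k hk => ?_, φ.injective.injOn, fun k hk => ?_⟩
      fun k _ => by rw [Pairs.pull_apply, Pairs.pull_apply, map_one]
    · obtain ⟨c, hc⟩ := isConj_iff.1 (IsConj.symm hk)
      exact ⟨c, by rw [hφ]; exact congrArg Subtype.val hc⟩
    · obtain ⟨c, hc⟩ := hk
      refine ⟨φ.symm k, (isConj_iff.2 ⟨c, Subtype.ext ?_⟩ :
        IsConj ((φ.symm k : K') : H) x).symm, φ.apply_symm_apply k⟩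
      show (c : G) * ((φ.symm k : H) : G) * (c : G)⁻¹ = (x : G)
      rw [← hφ, φ.apply_symm_apply, hc]
  rw [← e']
  exact hh _ ⟨ξ, hξ, rfl⟩ χ hχ x

section Trans

variable {G : Type u} [Group G] (N K : Subgroup G) [Fintype N] [Fintype K]
  (hNK : N ≤ K) {χ : IrrCharacter G} {θ : IrrCharacter N}

include hNK

/-- A constituent of a constituent is a constituent. -/
theorem constituent_trans {φ : IrrCharacter K}
    (h1 : classInner (fun t : K => (χ : G → ℂ) t) (φ : K → ℂ) ≠ 0)
    (h2 : classInner (fun n : N => (φ : K → ℂ) ⟨n, hNK n.2⟩) (θ : N → ℂ) ≠ 0) :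
    classInner (fun n : N => (χ : G → ℂ) n) (θ : N → ℂ) ≠ 0 := by
  obtain ⟨a, ha⟩ := Char.IsCharacter.exists_nat_combination
    (CfsgLib.Clifford.isCharacter_res (Char.IsIrrCharacter.isCharacter χ.2) K)
  choose b hb using fun ψ : IrrCharacter K => Char.IsCharacter.exists_nat_classInner
    (isCharacter_comp (Char.IsIrrCharacter.isCharacter ψ.2) (Subgroup.inclusion hNK)) θ.2
  have hb' : ∀ ψ : IrrCharacter K,
      classInner (fun n : N => (ψ : K → ℂ) ⟨n, hNK n.2⟩) (θ : N → ℂ) = (b ψ : ℂ) := hb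
  have e : (fun n : N => (χ : G → ℂ) n) = ∑ ψ : IrrCharacter K,
      (a ψ : ℂ) • (fun n : N => (ψ : K → ℂ) ⟨n, hNK n.2⟩) := by
    funext n
    have := congrFun ha ⟨n, hNK n.2⟩
    simpa [Finset.sum_apply] using this
  rw [e, Char.classInner_sum_left]
  simp only [Char.classInner_smul_left, hb', ← Nat.cast_mul, ← Nat.cast_sum, Nat.cast_ne_zero]
  intro h0
  have h := (Finset.sum_eq_zero_iff.1 h0) φ (Finset.mem_univ _)
  rw [ha, Char.classInner_sum_smul_irr] at h1
  rw [hb' φ] at h2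
  rcases mul_eq_zero.1 h with h' | h'
  · exact h1 (by rw [h', Nat.cast_zero])
  · exact h2 (by rw [h', Nat.cast_zero])

/-- An intermediate constituent exists. -/
theorem exists_intermediate_constituent
    (hc : classInner (fun n : N => (χ : G → ℂ) n) (θ : N → ℂ) ≠ 0) :
    ∃ φ : IrrCharacter K, classInner (fun t : K => (χ : G → ℂ) t) (φ : K → ℂ) ≠ 0 ∧
      classInner (fun n : N => (φ : K → ℂ) ⟨n, hNK n.2⟩) (θ : N → ℂ) ≠ 0 := by
  obtain ⟨a, ha⟩ := Char.IsCharacter.exists_nat_combination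
    (CfsgLib.Clifford.isCharacter_res (Char.IsIrrCharacter.isCharacter χ.2) K)
  by_contra h
  push Not at h
  refine hc ?_
  have e : (fun n : N => (χ : G → ℂ) n) = ∑ φ : IrrCharacter K,
      (a φ : ℂ) • (fun n : N => (φ : K → ℂ) ⟨n, hNK n.2⟩) := by
    funext n
    have := congrFun ha ⟨n, hNK n.2⟩
    simpa [Finset.sum_apply] using this
  rw [e, Char.classInner_sum_left]
  refine Finset.sum_eq_zero fun φ _ => ?_
  rw [Char.classInner_smul_left]
  by_cases ha0 : a φ = 0
  · rw [ha0, Nat.cast_zero, zero_mul]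
  · rw [h φ (by rw [ha, Char.classInner_sum_smul_irr]; exact_mod_cast ha0), mul_zero]

end Trans

variable {G : Type u} [Group G] [Finite G] {p : ℕ} [Fact p.Prime] {M : Ideal AlgInt} [M.IsMaximal]

/-- A block with a character of degree prime to `p` has the Sylow subgroups as defect groups. -/
theorem isDefectGroup_sylow_of_deg (hM : IsPModular p M) {B : Set (IrrCharacter G)}
    (hB : IsPBlock M B) {χ : IrrCharacter G} (hχ : χ ∈ B)
    (hdeg : ¬ p ∣ charDegree (χ : G → ℂ)) :
    (∀ P : Sylow p G, IsDefectGroup p M B (P : Subgroup G)) ∧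
      ∀ D : Subgroup G, IsDefectGroup p M B D → ∃ P : Sylow p G, D = (P : Subgroup G) := by
  have hmin : CfsgLib.BlockReg.minExp p B = 0 := Nat.le_zero.1
    ((CfsgLib.BlockReg.minExp_le hχ).trans (le_of_eq (Nat.factorization_eq_zero_of_not_dvd hdeg)))
  have hall : ∀ D : Subgroup G, IsDefectGroup p M B D → ∃ P : Sylow p G, D = (P : Subgroup G) := by
    intro D hD
    have hc := card_defectGroup hM hB hD
    rw [CfsgLib.BlockReg.blockDefect_eq, hmin, Nat.sub_zero] at hc
    exact ⟨Sylow.ofCard D hc, rfl⟩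
  refine ⟨fun P => ?_, hall⟩
  obtain ⟨D, hD⟩ := exists_defectGroup hM hB
  obtain ⟨P', rfl⟩ := hall D hD
  obtain ⟨g, hg⟩ := MulAction.exists_smul_eq G P' P
  rw [← hg, Sylow.coe_subgroup_smul]
  exact IsDefectGroup.conj' hD g

/-- Fong's theorem. -/
theorem fong_full [Fintype G] (hM : IsPModular p M) (hsolv : IsPSolvable p G) (N : Subgroup G)
    [hN : N.Normal] [Fintype N] (hNdef : N = pPrimeCore p G) (θ : IrrCharacter N)
    (hinv : ∀ g : G, conjFun N (θ : N → ℂ) g = (θ : N → ℂ)) :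
    ∃ B : Set (IrrCharacter G), IsPBlock M B ∧
      (∀ χ : IrrCharacter G, χ ∈ B ↔ classInner (fun n : N => (χ : G → ℂ) n) (θ : N → ℂ) ≠ 0) ∧
      ∃ χ ∈ B, ¬ p ∣ charDegree (χ : G → ℂ) := by
  have hpp : p.Prime := Fact.out
  have hNco : (Nat.card N).Coprime p := hNdef ▸ CfsgLib.Solvable.pPrimeCore_card_coprime p G
  have hθp : ¬ p ∣ charDegree (θ : N → ℂ) := fun h => (hpp.coprime_iff_not_dvd.1 hNco.symm)
    (h.trans (CfsgLib.BlockReg.deg_dvd_card θ))
  have hθblock : ({θ} : Set (IrrCharacter N)) = blockOf M (θ : N → ℂ) :=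
    ((Cfsg.Agent.S0914.result p M hM θ).1 fun h => (hpp.coprime_iff_not_dvd.1 hNco.symm)
      (h.trans (Nat.div_dvd_of_dvd (CfsgLib.BlockReg.deg_dvd_card θ)))).symm
  have hbθ : IsPBlock M ({θ} : Set (IrrCharacter N)) := hθblock ▸ isPBlock_blockOf θ
  -- the preimage of the `p`-core of the quotient
  set U := pCore p (G ⧸ N) with hU
  haveI hUn : U.Normal := CfsgLib.Solvable.pCore_normal p (G ⧸ N)
  have hUp : IsPGroup p U := CfsgLib.Components.isPGroup_pCore p
  have hcentU : Subgroup.centralizer (U : Set (G ⧸ N)) ≤ U :=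
    CfsgLib.Blocks82.centralizer_pCore_le (CfsgLib.Blocks82.isPSolvable_quotient hsolv N)
      (CfsgLib.Solvable.pPrimeCore_quotient_eq_bot N hNdef)
  set K := U.comap (QuotientGroup.mk' N) with hK
  haveI : Fintype K := Fintype.ofFinite K
  haveI : K.Normal := hUn.comap _
  have hNK : N ≤ K := fun x hx => by
    rw [hK, Subgroup.mem_comap, QuotientGroup.mk'_apply, (QuotientGroup.eq_one_iff x).2 hx]
    exact one_mem _
  set N' := N.subgroupOf K with hN'
  haveI : Fintype N' := Fintype.ofFinite N'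
  obtain ⟨k, hk⟩ : ∃ k, N'.index = p ^ k := by
    obtain ⟨k, hk⟩ := IsPGroup.iff_card.1 hUp
    refine ⟨k, ?_⟩
    rw [← hk]
    show N.relIndex K = _
    conv_lhs => rw [← QuotientGroup.ker_mk' N, ← MonoidHom.comap_bot, Subgroup.relIndex_comap,
      hK, Subgroup.map_comap_eq_self_of_surjective (QuotientGroup.mk'_surjective N),
      Subgroup.relIndex_bot_left]
  have hN'card : Nat.card N' = Nat.card N :=
    Nat.card_congr (Subgroup.subgroupOfEquivOfLe hNK).toEquiv
  have hcop : (Nat.card N').Coprime N'.index := by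
    rw [hN'card, hk]; exact Nat.Coprime.pow_right _ hNco
  set θ' : IrrCharacter N' := ⟨CliffordOver.trans N K hNK (θ : N → ℂ),
    CliffordOver.isIrrCharacter_trans N K hNK θ.2⟩ with hθ'
  have hinv' : ∀ g : K, conjFun N' (θ' : N' → ℂ) g = (θ' : N' → ℂ) := fun g => by
    have h : g ∈ inertia N' (θ' : N' → ℂ) := by
      rw [show inertia N' (θ' : N' → ℂ) = (inertia N (θ : N → ℂ)).subgroupOf K from
        CliffordOver.inertia_trans N K hNK _, Subgroup.mem_subgroupOf, mem_inertia]
      exact hinv _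
    exact mem_inertia.1 h
  obtain ⟨ψ₀, hψ₀⟩ := CfsgLib.Glauberman.exists_ext_of_invariant N' hcop θ' hinv'
  have hψ₀c : classInner (fun n : N' => (ψ₀ : K → ℂ) n) (θ' : N' → ℂ) ≠ 0 := by
    rw [funext hψ₀, Char.classInner_irr_self θ'.2]
    exact one_ne_zero
  set e := blockOf M (ψ₀ : K → ℂ) with he
  have hover : ∀ ψ : IrrCharacter K,
      classInner (fun n : N => (ψ : K → ℂ) ⟨n, hNK n.2⟩) (θ : N → ℂ) ≠ 0 → ψ ∈ e := by
    intro ψ hψ
    rw [← CliffordOver.classInner_trans N K hNK] at hψ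
    exact sameBlock_of_constituent_sameBlock N' hM
      (fun g hg => mem_of_regular_of_index N' hpp hk g hg)
      (CfsgLib.BlockReg.sameBlock_refl hM _) hψ₀c hψ
  -- the Sylow subgroup of `K`
  let S : Sylow p K := default
  set Q := (S : Subgroup K).map K.subtype with hQdef
  have hQK : Q ≤ K := Subgroup.map_subtype_le _
  have hQS : Q.subgroupOf K = (S : Subgroup K) := by
    rw [hQdef, Subgroup.subgroupOf, Subgroup.comap_map_eq_self_of_injective K.subtype_injective]
  have hQp : IsPGroup p Q := S.2.map _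
  have hKsup : N' ⊔ (S : Subgroup K) = ⊤ := by
    rw [← Subgroup.index_eq_one]
    refine Nat.eq_one_of_dvd_coprimes (Nat.Coprime.pow_right k
      ((hpp.coprime_iff_not_dvd.2 S.not_dvd_index).symm))
      (Subgroup.index_dvd_of_le le_sup_right) (hk ▸ Subgroup.index_dvd_of_le le_sup_left)
  have hCK : Subgroup.centralizer (Q : Set G) ≤ K := by
    intro x hx
    refine Subgroup.mem_comap.2 (hcentU (Subgroup.mem_centralizer_iff.2 fun v hv => ?_))
    obtain ⟨y, rfl⟩ := QuotientGroup.mk'_surjective N v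
    have hy : (⟨y, hv⟩ : K) ∈ N' ⊔ (S : Subgroup K) := hKsup ▸ Subgroup.mem_top _
    obtain ⟨n, hn, s, hs, hns⟩ := Subgroup.mem_sup_of_normal_left.1 hy
    have hys : QuotientGroup.mk' N y = QuotientGroup.mk' N ((s : K) : G) := by
      rw [show y = ((n : K) : G) * ((s : K) : G) from (congrArg Subtype.val hns).symm, map_mul,
        show QuotientGroup.mk' N ((n : K) : G) = 1 from (QuotientGroup.eq_one_iff _).2 hn, one_mul]
    rw [hys, ← map_mul, ← map_mul]
    exact congrArg (QuotientGroup.mk' N) (Subgroup.mem_centralizer_iff.1 hx _ ⟨s, hs, rfl⟩)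
  have heB : IsPBlock M e := isPBlock_blockOf ψ₀
  have heD : IsDefectGroup p M e (Q.subgroupOf K) := by
    rw [hQS]
    refine (isDefectGroup_sylow_of_deg hM heB (mem_blockOf_self ψ₀) ?_).1 S
    have h1 : charDegree (ψ₀ : K → ℂ) = charDegree (θ : N → ℂ) := by
      have h2 : ((charDegree (ψ₀ : K → ℂ) : ℕ) : ℂ) = (charDegree (θ : N → ℂ) : ℂ) := by
        rw [CfsgLib.BlockReg.deg_cast, CfsgLib.BlockReg.deg_cast,
          ← OneMemClass.coe_one N', hψ₀]
        exact congrArg (θ : N → ℂ) (map_one (Subgroup.subgroupOfEquivOfLe hNK))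
      exact_mod_cast h2
    rwa [h1]
  -- the Brauer correspondent of `e`
  set H := Subgroup.normalizer (Q : Set G) with hH
  set L := H ⊓ K with hL
  haveI : Fintype L := Fintype.ofFinite L
  haveI : Fintype H := Fintype.ofFinite H
  have hLN : Subgroup.normalizer (Q.subgroupOf K : Set K) = L.subgroupOf K := by
    rw [hL, Subgroup.inf_subgroupOf_right, hH, ← Subgroup.subgroupOf_normalizer_eq hQK]
  obtain ⟨b', hb'D, hb'e⟩ := firstMain_exists_correspondent hM heB heD
  let φ : Subgroup.normalizer (Q.subgroupOf K : Set K) ≃* L :=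
    (MulEquiv.subgroupCongr hLN).trans (Subgroup.subgroupOfEquivOfLe inf_le_right)
  have hφ : ∀ k, ((φ k : L) : G) = ((k : K) : G) := fun k => rfl
  set eL := Pairs.pullSet φ.symm b' with heL
  have hbb : Pairs.pullSet φ eL = b' := by
    rw [heL, Pairs.pullSet, Pairs.pullSet, ← Set.image_comp]
    exact Eq.trans (Set.image_congr fun ξ _ => Pairs.pull_pull_symm φ ξ) (Set.image_id' _)
  have heLB : IsPBlock M eL := Pairs.isPBlock_pullSet φ.symm hb'e.1
  have heLD : IsDefectGroup p M eL (Q.subgroupOf L) := by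
    have h := isDefectGroup_pullSet φ.symm hb'D
    have e₁ : ((Q.subgroupOf K).subgroupOf (Subgroup.normalizer (Q.subgroupOf K : Set K))).comap
        φ.symm.toMonoidHom = Q.subgroupOf L := by
      ext x
      simp only [Subgroup.mem_comap, Subgroup.mem_subgroupOf, MulEquiv.coe_toMonoidHom]
      rw [← hφ, φ.apply_symm_apply]
    rwa [e₁] at h
  have heLe : IsInducedBlockIn M K L eL e :=
    isInducedBlockIn_of_isInducedBlock φ hφ heLB (by rwa [hbb])
  have HK := (harrisKnorr K hM hQp hQK hH hL inf_le_left heD heLD heLe).2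
  -- uniqueness of the block of the normalizer
  haveI : (Q.subgroupOf H).Normal := Subgroup.normal_in_normalizer
  haveI : (L.subgroupOf H).Normal := (Subgroup.normal_subgroupOf_iff inf_le_left).2
    fun l h hl hh => Subgroup.mem_inf.2 ⟨H.mul_mem (H.mul_mem hh hl.1) (H.inv_mem hh),
      (inferInstance : K.Normal).conj_mem l hl.2 h⟩
  haveI := Fintype.ofFinite (L.subgroupOf H)
  have hcentH : Subgroup.centralizer (Q.subgroupOf H : Set H) ≤ L.subgroupOf H := by
    intro x hx
    refine Subgroup.mem_subgroupOf.2 ⟨x.2, hCK (Subgroup.mem_centralizer_iff.2 fun q hq => ?_)⟩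
    exact congrArg Subtype.val
      (Subgroup.mem_centralizer_iff.1 hx ⟨q, Subgroup.le_normalizer hq⟩ hq)
  have hQHp : IsPGroup p (Q.subgroupOf H) :=
    hQp.of_equiv (Subgroup.subgroupOfEquivOfLe Subgroup.le_normalizer).symm
  set eH := Pairs.pullSet (Subgroup.subgroupOfEquivOfLe (inf_le_left : L ≤ H)) eL with heH
  have hHuniq : ∀ c : Set (IrrCharacter H), IsPBlock M c →
      (∃ ψ ∈ c, ∃ ξ ∈ eL, classInner (fun l : L => (ψ : H → ℂ) (Subgroup.inclusion inf_le_left l))
        (ξ : L → ℂ) ≠ 0) → IsInducedBlock M (L.subgroupOf H) eH c := by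
    rintro c hc ⟨ψ, hψ, ξ, hξ, hcξ⟩
    have hcξ' : classInner (fun n : L.subgroupOf H => (ψ : H → ℂ) n)
        (Pairs.pull (Subgroup.subgroupOfEquivOfLe (inf_le_left : L ≤ H)) ξ :
          L.subgroupOf H → ℂ) ≠ 0 := by
      rw [show ((Pairs.pull (Subgroup.subgroupOfEquivOfLe (inf_le_left : L ≤ H)) ξ :
          IrrCharacter (L.subgroupOf H)) : L.subgroupOf H → ℂ) =
        CliffordOver.trans L H inf_le_left (ξ : L → ℂ) from rfl,
        CliffordOver.classInner_trans L H inf_le_left]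
      exact hcξ
    have h := isInducedBlock_of_covers (M := M) (L.subgroupOf H) hM hQHp hcentH hcξ'
    rwa [← IsPBlock.eq_blockOf (Pairs.isPBlock_pullSet _ heLB) ⟨ξ, hξ, rfl⟩,
      ← IsPBlock.eq_blockOf hc hψ] at h
  have hcovers : ∀ χ : IrrCharacter G, classInner (fun n : N => (χ : G → ℂ) n) (θ : N → ℂ) ≠ 0 →
      ∃ χ' ∈ blockOf M (χ : G → ℂ), ∃ ψ ∈ e,
        classInner (fun t : K => (χ' : G → ℂ) t) (ψ : K → ℂ) ≠ 0 := by
    intro χ hχ
    obtain ⟨ψ, h1, h2⟩ := exists_intermediate_constituent N K hNK hχ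
    exact ⟨χ, mem_blockOf_self χ, ψ, hover ψ h2, h1⟩
  have hsame : ∀ χ χ' : IrrCharacter G,
      classInner (fun n : N => (χ : G → ℂ) n) (θ : N → ℂ) ≠ 0 →
      classInner (fun n : N => (χ' : G → ℂ) n) (θ : N → ℂ) ≠ 0 →
      blockOf M (χ : G → ℂ) = blockOf M (χ' : G → ℂ) := by
    intro χ χ' hχ hχ'
    obtain ⟨c, ⟨⟨hc, hcc⟩, hcB⟩, -⟩ := HK _ (isPBlock_blockOf χ) (hcovers χ hχ)
    obtain ⟨c', ⟨⟨hc', hcc'⟩, hcB'⟩, -⟩ := HK _ (isPBlock_blockOf χ') (hcovers χ' hχ')
    have e₁ := IsInducedBlock.unique (hHuniq c hc hcc) (hHuniq c' hc' hcc')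
    subst e₁
    exact IsInducedBlock.unique hcB hcB'
  -- a character of degree prime to `p` over `θ`
  obtain ⟨χ₁, hχ₁c, hχ₁p⟩ : ∃ χ : IrrCharacter G,
      classInner (fun n : N => (χ : G → ℂ) n) (θ : N → ℂ) ≠ 0 ∧
        ¬ p ∣ charDegree (χ : G → ℂ) := by
    let P : Sylow p G := default
    set J := N ⊔ (P : Subgroup G) with hJ
    haveI : Fintype J := Fintype.ofFinite J
    have hNJ : N ≤ J := le_sup_left
    haveI : Fintype (N.subgroupOf J) := Fintype.ofFinite _
    set θJ : IrrCharacter (N.subgroupOf J) := ⟨CliffordOver.trans N J hNJ (θ : N → ℂ),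
      CliffordOver.isIrrCharacter_trans N J hNJ θ.2⟩ with hθJ
    have hinvJ : ∀ g : J, conjFun (N.subgroupOf J) (θJ : _ → ℂ) g = (θJ : _ → ℂ) := fun g => by
      have h : g ∈ inertia (N.subgroupOf J) (θJ : _ → ℂ) := by
        rw [show inertia (N.subgroupOf J) (θJ : _ → ℂ) = (inertia N (θ : N → ℂ)).subgroupOf J from
          CliffordOver.inertia_trans N J hNJ _, Subgroup.mem_subgroupOf, mem_inertia]
        exact hinv _
      exact mem_inertia.1 h
    have hcopJ : (Nat.card (N.subgroupOf J)).Coprime (N.subgroupOf J).index := by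
      rw [Nat.card_congr (Subgroup.subgroupOfEquivOfLe hNJ).toEquiv]
      refine Nat.Coprime.coprime_dvd_right ?_ (Nat.Coprime.pow_right
        ((Nat.card G).factorization p) hNco)
      rw [← P.card_eq_multiplicity]
      show N.relIndex J ∣ _
      rw [hJ, sup_comm, Subgroup.relIndex_sup_right]
      exact Subgroup.relIndex_dvd_card N _
    obtain ⟨η, hη⟩ := CfsgLib.Glauberman.exists_ext_of_invariant (N.subgroupOf J) hcopJ θJ hinvJ
    have hηθ : classInner (fun n : N => (η : J → ℂ) ⟨n, hNJ n.2⟩) (θ : N → ℂ) ≠ 0 := by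
      rw [← CliffordOver.classInner_trans N J hNJ, funext hη, Char.classInner_irr_self θJ.2]
      exact one_ne_zero
    have hη1 : (η : J → ℂ) 1 = (θ : N → ℂ) 1 := by
      rw [← OneMemClass.coe_one (N.subgroupOf J), hη]
      exact congrArg (θ : N → ℂ) (map_one (Subgroup.subgroupOfEquivOfLe hNJ))
    obtain ⟨m, hm⟩ := Char.IsCharacter.exists_nat_combination
      (Char.IsCharacter.indFun J (Char.IsIrrCharacter.isCharacter η.2))
    have h1 : J.index * charDegree (θ : N → ℂ) =
        ∑ χ : IrrCharacter G, m χ * charDegree (χ : G → ℂ) := by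
      have h := congrFun hm 1
      rw [Char.indFun_apply_one, hη1] at h
      simp only [Finset.sum_apply, Pi.smul_apply, smul_eq_mul, ← CfsgLib.BlockReg.deg_cast] at h
      exact_mod_cast h
    have hJidx : ¬ p ∣ J.index := fun h =>
      P.not_dvd_index (h.trans (Subgroup.index_dvd_of_le le_sup_right))
    obtain ⟨χ, -, hχ⟩ : ∃ χ ∈ Finset.univ, ¬ p ∣ m χ * charDegree (χ : G → ℂ) := by
      by_contra hall
      push Not at hall
      have hdvd := Finset.dvd_sum hall
      rw [← h1] at hdvd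
      exact (hpp.dvd_mul.1 hdvd).elim hJidx hθp
    refine ⟨χ, constituent_trans N J hNJ (φ := η) ?_ hηθ, fun h => hχ (dvd_mul_of_dvd_right h _)⟩
    rw [← Char.classInner_conj_symm, ← Char.classInner_indFun J _ _
      (Char.IsIrrCharacter.isClassFunction χ.2), hm, Char.classInner_sum_smul_irr, map_natCast]
    exact Nat.cast_ne_zero.2 fun h => hχ (by rw [h, zero_mul]; exact dvd_zero p)
  refine ⟨blockOf M (χ₁ : G → ℂ), isPBlock_blockOf χ₁, fun χ => ⟨fun h => ?_, fun h => ?_⟩,
    χ₁, mem_blockOf_self χ₁, hχ₁p⟩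
  · obtain ⟨η, hη, hc⟩ := CfsgLib.Clifford.exists_constituent_res N χ.2
    obtain ⟨g, hg⟩ := constituent_mem_conjClosure (M := M) N (ψ := ⟨η, hη⟩) hbθ h
      (Set.mem_singleton θ) hχ₁c hc
    rw [Set.mem_singleton_iff] at hg
    have h' := congrArg (fun s : IrrCharacter N => (s : N → ℂ)) hg
    simp only [coe_conjIrr] at h'
    rw [← h', CfsgLib.Clifford.classInner_res_conjFun N
      (Char.IsIrrCharacter.isClassFunction χ.2)]
    exact hc
  · rw [hsame χ₁ χ hχ₁c h]
    exact mem_blockOf_self χ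

end CfsgLib.Blocks
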