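import Cfsg.Agent.Lib.Blocks.Restrict
import Cfsg.Agent.Lib.Char.Induced

/-!
# The induced central character and the induced character
-/

set_option autoImplicit false

namespace CfsgLib.Blocks

open Cfsg CfsgLib.Char
open scoped ComplexConjugate Classical

universe u

variable {G : Type u} [Group G]

theorem sum_conj_eq_card_centralizer_mul [Fintype G] {A : Type*} [CommRing A] (g : G) (f : G → A) :
    ∑ x : G, f (x⁻¹ * g * x)
      = (Nat.card (Subgroup.centralizer ({g} : Set G)) : A)
        * ∑ y ∈ Finset.univ.filter (fun y => IsConj g y), f y := by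
  rw [Finset.mul_sum, ← Finset.sum_fiberwise_of_maps_to
    (s := Finset.univ) (t := Finset.univ.filter (fun y => IsConj g y))
    (g := fun x => x⁻¹ * g * x) (fun x _ => by
      simp only [Finset.mem_filter, Finset.mem_univ, true_and]
      exact isConj_iff.2 ⟨x⁻¹, by simp⟩)]
  refine Finset.sum_congr rfl fun y hy => ?_
  obtain ⟨c, hc⟩ := isConj_iff.1 (Finset.mem_filter.1 hy).2
  rw [Finset.sum_congr rfl (g := fun _ => f y) (fun x hx => by rw [(Finset.mem_filter.1 hx).2]),
    Finset.sum_const, nsmul_eq_mul, Nat.card_eq_fintype_card, Fintype.card_subtype]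
  congr 2
  refine (Finset.card_bij (fun z _ => z * c⁻¹) ?_ ?_ ?_).symm
  · intro z hz
    simp only [Finset.mem_filter, Finset.mem_univ, true_and] at hz ⊢
    rw [Subgroup.mem_centralizer_singleton_iff] at hz
    rw [← hc]
    calc (z * c⁻¹)⁻¹ * g * (z * c⁻¹) = c * (z⁻¹ * (g * z)) * c⁻¹ := by group
      _ = c * (z⁻¹ * (z * g)) * c⁻¹ := by rw [hz]
      _ = c * g * c⁻¹ := by group
  · intro a _ b _ h
    exact mul_right_cancel h
  · intro x hx
    simp only [Finset.mem_filter, Finset.mem_univ, true_and] at hx ⊢
    refine ⟨x * c, ?_, by group⟩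
    rw [Subgroup.mem_centralizer_singleton_iff]
    have h2 : x⁻¹ * g * x = c * g * c⁻¹ := hx.trans hc.symm
    calc x * c * g = x * (c * g * c⁻¹) * c := by group
      _ = x * (x⁻¹ * g * x) * c := by rw [h2]
      _ = g * (x * c) := by group

theorem inducedCentralChar_eq_centralChar_indFun [Fintype G] (H : Subgroup G) (ξ : H → ℂ) (g : G) :
    inducedCentralChar H ξ g = centralChar (indFun H ξ) g := by
  have hG : (Nat.card G : ℂ) ≠ 0 := by exact_mod_cast Nat.card_pos.ne'
  have hH : (Nat.card H : ℂ) ≠ 0 := by exact_mod_cast Nat.card_pos.ne'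
  have hC : (Nat.card (Subgroup.centralizer ({g} : Set G)) : ℂ) *
      ((Subgroup.centralizer ({g} : Set G)).index : ℂ) = (Nat.card G : ℂ) := by
    exact_mod_cast Subgroup.card_mul_index _
  have h1 : indFun H ξ 1 = (Nat.card H : ℂ)⁻¹ * ((Nat.card G : ℂ) * ξ 1) := by
    rw [indFun_apply]
    congr 1
    have : ∀ x : G, extendByZero H ξ (x⁻¹ * 1 * x) = ξ 1 := fun x => by
      rw [mul_one, inv_mul_cancel, show (1 : G) = ((1 : H) : G) from rfl, extendByZero_coe]
    simp only [this, Finset.sum_const, Finset.card_univ, nsmul_eq_mul, Nat.card_eq_fintype_card]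
  have h2 : inducedCentralChar H ξ g
      = (∑ y ∈ Finset.univ.filter (fun y => IsConj g y), extendByZero H ξ y) / ξ 1 := by
    rw [inducedCentralChar, finsum_mem_def, finsum_eq_sum_of_fintype, Finset.sum_div]
    symm
    refine Finset.sum_bij_ne_zero
      (fun y _ hne => (⟨y, by_contra fun hy => hne (by rw [extendByZero_of_notMem H ξ hy, zero_div])⟩ : H))
      (fun _ _ _ => Finset.mem_univ _) (fun _ _ _ _ _ _ h => congrArg Subtype.val h) ?_ ?_
    · intro h _ hne
      have hh : IsConj g (h : G) := by
        by_contra hh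
        exact hne (Set.indicator_of_notMem (s := {h : H | IsConj g (h : G)}) hh _)
      refine ⟨(h : G), Finset.mem_filter.2 ⟨Finset.mem_univ _, hh⟩, ?_, rfl⟩
      rw [extendByZero_coe]
      rwa [Set.indicator_of_mem (s := {h : H | IsConj g (h : G)}) hh] at hne
    · intro y hy hne
      have hyH : y ∈ H := by
        by_contra hyH
        exact hne (by rw [extendByZero_of_notMem H ξ hyH, zero_div])
      rw [Set.indicator_of_mem (s := {h : H | IsConj g (h : G)}) (Finset.mem_filter.1 hy).2]
      exact congrArg (· / ξ 1) (extendByZero_apply_mem H ξ hyH)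
  rw [h2, centralChar, h1, indFun_apply, sum_conj_eq_card_centralizer_mul]
  by_cases hx : ξ 1 = 0
  · simp [hx]
  · field_simp
    linear_combination -(∑ y ∈ Finset.univ.filter (fun y => IsConj g y), extendByZero H ξ y) * hC

variable [Finite G] {M : Ideal AlgInt} [M.IsMaximal]

/-- An induced block contains a character over every character of the inducing block. -/
theorem IsInducedBlock.exists_classInner_ne_zero {H : Subgroup G} [Fintype H]
    {b : Set (IrrCharacter H)} {B : Set (IrrCharacter G)} (hind : IsInducedBlock M H b B)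
    {ξ : IrrCharacter H} (hξ : ξ ∈ b) :
    ∃ χ ∈ B, classInner (fun h : H => (χ : G → ℂ) h) (ξ : H → ℂ) ≠ 0 := by
  by_contra hcon
  push Not at hcon
  have h1 := IsInducedBlock.lam_resCenter_blockIdem hind hind.2.1 hξ
  rw [if_pos rfl, blockIdem, ← mapCenter_resCenter, lam_mapCenter] at h1
  have h0 : lamR M ξ (resCenter H (blockIdemR hind.2.1)) = 0 := by
    apply Subtype.ext
    rw [coe_lamR, omega_eq_sum, ZeroMemClass.coe_zero, div_eq_zero_iff]
    left
    simp only [coe_mapCenter, coeff_map, coeff_resCenter, Subring.coe_subtype,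
      coe_coeff_blockIdemR, blockCoeff_eq_sum]
    calc ∑ h : H, (Nat.card G : ℂ)⁻¹ *
          (∑ χ : IrrCharacter G, blockInd B χ * ((χ : G → ℂ) 1 * conj ((χ : G → ℂ) (h : G)))) *
            (ξ : H → ℂ) h
        = (Nat.card G : ℂ)⁻¹ * ∑ χ : IrrCharacter G, blockInd B χ * (χ : G → ℂ) 1 *
            ((Nat.card H : ℂ) * conj (classInner (fun h : H => (χ : G → ℂ) h) (ξ : H → ℂ))) := by
          simp only [classInner, map_mul, map_sum, map_inv₀, map_natCast, Complex.conj_conj]
          simp only [← mul_assoc, mul_inv_cancel₀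
            (show (Nat.card H : ℂ) ≠ 0 by exact_mod_cast Nat.card_pos.ne'), Finset.mul_sum,
            Finset.sum_mul]
          rw [Finset.sum_comm]
          refine Finset.sum_congr rfl fun χ _ => Finset.sum_congr rfl fun h _ => ?_
          have hH : (Nat.card H : ℂ) ≠ 0 := by exact_mod_cast Nat.card_pos.ne'
          field_simp
      _ = 0 := by
          refine mul_eq_zero_of_right _ (Finset.sum_eq_zero fun χ _ => ?_)
          by_cases hχ : χ ∈ B
          · rw [hcon χ hχ, map_zero, mul_zero, mul_zero]
          · simp [blockInd, hχ]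
  rw [h0, map_zero] at h1
  exact zero_ne_one h1

end CfsgLib.Blocks
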