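import Cfsg.Agent.Lib.Blocks.Cover
import Cfsg.Agent.Lib.Blocks.InducedChar
import Cfsg.Agent.Lib.Blocks.Induced
import Cfsg.Agent.Lib.Char.CliffordOver
import Cfsg.Agent.Lib.Blocks.Pairs.Transport

/-!
# The Fong–Reynolds correspondence for covering blocks
-/

set_option autoImplicit false
set_option maxHeartbeats 1000000
set_option synthInstance.maxHeartbeats 400000

namespace CfsgLib.Blocks

open Cfsg CfsgLib.Char CfsgLib.CharTwist
open scoped ComplexConjugate Classical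

universe u

variable {G : Type u} [Group G] [Fintype G] {M : Ideal AlgInt} [M.IsMaximal]
  (N T : Subgroup G) [hN : N.Normal] [Fintype N] [Fintype T] (hNT : N ≤ T)

/-- `ψ` lies over the set `b`. -/
def OverSet (b : Set (IrrCharacter N)) (ψ : IrrCharacter T) : Prop :=
  ∃ θ ∈ b, classInner (fun n : N => (ψ : T → ℂ) ⟨n, hNT n.2⟩) (θ : N → ℂ) ≠ 0

variable {b : Set (IrrCharacter N)}

omit [Fintype T] in
theorem mem_stab_of_conj (hb : IsPBlock M b)
    (hT : ∀ g : G, g ∈ T ↔ ∀ θ ∈ b, conjIrr N θ g ∈ b)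
    {θ : IrrCharacter N} (hθ : θ ∈ b) {g : G} (hg : conjIrr N θ g ∈ b) : g ∈ T := by
  refine (hT g).2 fun η hη => ?_
  rw [IsPBlock.eq_blockOf hb hθ] at hη
  rw [IsPBlock.eq_blockOf hb hg]
  exact sameBlock_conjIrr N hη g

omit [Fintype T] in
theorem inertia_le_stab (hb : IsPBlock M b)
    (hT : ∀ g : G, g ∈ T ↔ ∀ θ ∈ b, conjIrr N θ g ∈ b)
    {θ : IrrCharacter N} (hθ : θ ∈ b) : inertia N (θ : N → ℂ) ≤ T := fun g hg =>
  mem_stab_of_conj N T hb hT hθ (by
    rwa [show conjIrr N θ g = θ from Subtype.ext (mem_inertia.1 hg)])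

include hNT

omit [Fintype G] [M.IsMaximal] in
theorem conjClosure_pullSet (hT : ∀ g : G, g ∈ T ↔ ∀ θ ∈ b, conjIrr N θ g ∈ b) :
    conjClosure (N.subgroupOf T)
        (Pairs.pullSet (Subgroup.subgroupOfEquivOfLe hNT) b) =
      Pairs.pullSet (Subgroup.subgroupOfEquivOfLe hNT) b := by
  refine Set.Subset.antisymm ?_ (subset_conjClosure _ _)
  rintro ψ ⟨t, θ, hθ, ht⟩
  have h := congrArg (fun η => conjIrr (N.subgroupOf T) η t⁻¹) ht
  simp only [← conjIrr_mul, mul_inv_cancel, conjIrr_one] at h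
  refine ⟨conjIrr N θ ((t⁻¹ : T) : G), (hT _).1 (t⁻¹ : T).2 θ hθ, ?_⟩
  rw [← h]
  exact Subtype.ext (funext fun n => congrArg (θ : N → ℂ) (Subtype.ext rfl))

/-- The idempotent of the block as a central element of the group ring of its stabiliser. -/
theorem exists_stab_idem (hb : IsPBlock M b)
    (hT : ∀ g : G, g ∈ T ↔ ∀ θ ∈ b, conjIrr N θ g ∈ b) :
    ∃ z : Subalgebra.center (locRing M) (MonoidAlgebra (locRing M) T),
      (∀ ψ : IrrCharacter T, OverSet N T hNT b ψ →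
        omega ψ (mapCenter (locRing M).subtype z) = 1) ∧
      ∀ ψ : IrrCharacter T, ¬ OverSet N T hNT b ψ →
        omega ψ (mapCenter (locRing M).subtype z) = 0 := by
  haveI := Fintype.ofFinite (N.subgroupOf T)
  set φ := Subgroup.subgroupOfEquivOfLe hNT with hφ
  set b' := Pairs.pullSet φ b with hb'
  have hclos : conjClosure (N.subgroupOf T) b' = b' := conjClosure_pullSet N T hNT hT
  have hA := blockCoeff_mem (Pairs.isPBlock_pullSet φ hb)
  let f : N.subgroupOf T → locRing M := fun n => ⟨blockCoeff b' n, hA n⟩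
  have hcc : ∀ u x : T, extZero (N.subgroupOf T) f (u * x * u⁻¹) =
      extZero (N.subgroupOf T) f x := by
    intro u x
    by_cases hx : x ∈ N.subgroupOf T
    · rw [extZero, dif_pos (Subgroup.Normal.conj_mem inferInstance x hx u), extZero, dif_pos hx]
      refine Subtype.ext ?_
      have h := sum_blockCoeff_conjClosure (N.subgroupOf T) b' u ⟨x, hx⟩
      rwa [hclos] at h
    · rw [extZero_of_not_mem _ _ hx, extZero_of_not_mem]
      intro hux
      exact hx (by simpa [mul_assoc] using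
        (Subgroup.Normal.conj_mem (inferInstance : (N.subgroupOf T).Normal) _ hux u⁻¹))
  let z : Subalgebra.center (locRing M) (MonoidAlgebra (locRing M) T) :=
    ⟨ofFun (extZero (N.subgroupOf T) f), ofFun_mem_center hcc⟩
  have hres : resCenter (N.subgroupOf T) (mapCenter (locRing M).subtype z) = idemC b' :=
    Subtype.ext (MonoidAlgebra.ext (Finsupp.ext fun n => by
      simp [idemC, coe_mapCenter, z, extZero_coe, f]))
  have key : ∀ (ψ : IrrCharacter T) (η : IrrCharacter (N.subgroupOf T)),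
      classInner (fun n : N.subgroupOf T => (ψ : T → ℂ) n) (η : N.subgroupOf T → ℂ) ≠ 0 →
      omega ψ (mapCenter (locRing M).subtype z) = blockInd b' η := by
    intro ψ η hc
    rw [← omega_idemC b' η, ← hres, omega_resCenter, omega_apply]
    unfold classEval
    refine Finset.sum_congr rfl fun C _ => ?_
    by_cases hC : Quotient.out C ∈ N.subgroupOf T
    · have e : centralChar (ψ : T → ℂ) (Quotient.out C) =
          inducedCentralChar (N.subgroupOf T) (η : N.subgroupOf T → ℂ) (Quotient.out C) :=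
        centralChar_eq_inducedCentralChar (N.subgroupOf T) hc ⟨Quotient.out C, hC⟩
      rw [e]
    · simp [coe_mapCenter, z, extZero_of_not_mem _ _ hC]
  refine ⟨z, fun ψ hψ => ?_, fun ψ hψ => ?_⟩
  · obtain ⟨θ, hθ, hc⟩ := hψ
    rw [← CliffordOver.classInner_trans N T hNT] at hc
    rw [key ψ (Pairs.pull φ θ) hc, blockInd, if_pos ⟨θ, hθ, rfl⟩]
  · obtain ⟨η₀, hη₀, hc⟩ := CfsgLib.Clifford.exists_constituent_res (N.subgroupOf T) ψ.2
    rw [key ψ ⟨η₀, hη₀⟩ hc, blockInd, if_neg]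
    rintro ⟨θ, hθ, he⟩
    refine hψ ⟨θ, hθ, ?_⟩
    rw [← CliffordOver.classInner_trans N T hNT]
    have h2 : CliffordOver.trans N T hNT (θ : N → ℂ) = η₀ := congrArg Subtype.val he
    rwa [h2]

/-- A whole block lies over `b` as soon as one member does. -/
theorem overSet_of_sameBlock (hb : IsPBlock M b)
    (hT : ∀ g : G, g ∈ T ↔ ∀ θ ∈ b, conjIrr N θ g ∈ b) {ψ ψ' : IrrCharacter T}
    (h : SameBlock M (ψ : T → ℂ) (ψ' : T → ℂ)) (hψ : OverSet N T hNT b ψ) :
    OverSet N T hNT b ψ' := by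
  obtain ⟨z, h1, h0⟩ := exists_stab_idem N T hNT hb hT
  by_contra hcon
  have e := sameBlock_iff_lam.1 h
  have e1 : lamR M ψ z = 1 := Subtype.ext (by rw [coe_lamR, h1 ψ hψ, OneMemClass.coe_one])
  have e0 : lamR M ψ' z = 0 := Subtype.ext (by rw [coe_lamR, h0 ψ' hcon, ZeroMemClass.coe_zero])
  have h2 : lam M ψ (mapCenter (red M) z) = lam M ψ' (mapCenter (red M) z) := by rw [e]
  rw [lam_mapCenter, lam_mapCenter, e1, e0, map_one, map_zero] at h2
  exact one_ne_zero h2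

/-- The irreducible character induced from a character over `b`. -/
theorem exists_indFun_overSet (hb : IsPBlock M b)
    (hT : ∀ g : G, g ∈ T ↔ ∀ θ ∈ b, conjIrr N θ g ∈ b) {ψ : IrrCharacter T}
    (hψ : OverSet N T hNT b ψ) :
    ∃ χ : IrrCharacter G, (χ : G → ℂ) = indFun T (ψ : T → ℂ) ∧
      classInner (fun t : T => (χ : G → ℂ) t) (ψ : T → ℂ) ≠ 0 ∧
      (∃ θ ∈ b, classInner (fun n : N => (χ : G → ℂ) n) (θ : N → ℂ) ≠ 0) ∧
      ∀ φ : IrrCharacter T, OverSet N T hNT b φ →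
        classInner (fun t : T => (χ : G → ℂ) t) (φ : T → ℂ) ≠ 0 → φ = ψ := by
  obtain ⟨θ, hθ, hc⟩ := hψ
  have hI := inertia_le_stab N T hb hT hθ
  obtain ⟨hχ, hχψ, hχθ⟩ := CliffordOver.isIrrCharacter_indFun N T hNT θ.2 hI ψ.2 hc
  refine ⟨⟨_, hχ⟩, rfl, hχψ, ⟨θ, hθ, hχθ⟩, ?_⟩
  rintro φ ⟨θ', hθ', hc'⟩ hχφ
  haveI := Fintype.ofFinite (N.subgroupOf T)
  -- the constituent `θ'` is conjugate to `θ` inside `T`
  have hI' := inertia_le_stab N T hb hT hθ'
  obtain ⟨e1, e2, -⟩ :=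
    CliffordOver.indFun_eq_of_constituent N T hNT θ'.2 hI' φ.2 hc' hχ hχφ
  obtain ⟨g, hg⟩ := CfsgLib.Clifford.exists_conjFun_eq N hχ θ'.2 θ.2 (e2 ▸ hc') hχθ
  have hgT : g ∈ T := mem_stab_of_conj N T hb hT hθ' (by
    rwa [show conjIrr N θ' g = θ from Subtype.ext hg])
  have hcφ : classInner (fun n : N => (φ : T → ℂ) ⟨n, hNT n.2⟩) (θ : N → ℂ) ≠ 0 := by
    rw [← CliffordOver.classInner_trans N T hNT] at hc' ⊢
    have h := CfsgLib.Clifford.classInner_res_conjFun (N.subgroupOf T)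
      (IsIrrCharacter.isClassFunction φ.2) (CliffordOver.trans N T hNT (θ' : N → ℂ)) ⟨g, hgT⟩
    rw [show CliffordOver.trans N T hNT (θ : N → ℂ) = conjFun (N.subgroupOf T)
      (CliffordOver.trans N T hNT (θ' : N → ℂ)) ⟨g, hgT⟩ from
        funext fun n => by rw [← hg]; exact congrArg (θ' : N → ℂ) (Subtype.ext rfl), h]
    exact hc'
  exact Subtype.ext ((CliffordOver.indFun_eq_of_constituent N T hNT θ.2 hI ψ.2 hc hχ hχψ).2.2
    φ φ.2 hcφ hχφ)

omit hNT [Fintype N] in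
/-- A character induced from `T` lies in the induced block. -/
theorem isInducedBlock_indFun {ψ : IrrCharacter T} {χ : IrrCharacter G}
    (h : (χ : G → ℂ) = indFun T (ψ : T → ℂ)) :
    IsInducedBlock M T (blockOf M (ψ : T → ℂ)) (blockOf M (χ : G → ℂ)) := by
  refine isInducedBlock_of_lam_resCenter_eq ψ χ ((forall_memLocalIdeal_iff_lam_resCenter T ψ χ).1
    fun g => ?_)
  rw [inducedCentralChar_eq_centralChar_indFun, ← h, sub_self]
  exact ⟨0, 1, M.zero_mem, (Ideal.ne_top_iff_one M).1 Ideal.IsPrime.ne_top', by simp⟩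

/-- Induction reflects blocks on the characters over `b`. -/
theorem sameBlock_of_indFun (hb : IsPBlock M b)
    (hT : ∀ g : G, g ∈ T ↔ ∀ θ ∈ b, conjIrr N θ g ∈ b) {ψ₁ ψ₂ : IrrCharacter T}
    (h₁ : OverSet N T hNT b ψ₁) (h₂ : OverSet N T hNT b ψ₂) {χ₁ χ₂ : IrrCharacter G}
    (e₁ : (χ₁ : G → ℂ) = indFun T (ψ₁ : T → ℂ)) (e₂ : (χ₂ : G → ℂ) = indFun T (ψ₂ : T → ℂ))
    (h : SameBlock M (χ₁ : G → ℂ) (χ₂ : G → ℂ)) :
    SameBlock M (ψ₁ : T → ℂ) (ψ₂ : T → ℂ) := by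
  obtain ⟨z, hz1, hz0⟩ := exists_stab_idem N T hNT hb hT
  refine sameBlock_iff_lam.2 (AlgHom.ext fun a => ?_)
  obtain ⟨w, rfl⟩ := mapCenter_surjective (red_surjective (M := M)) a
  rw [lam_mapCenter, lam_mapCenter]
  haveI := Fintype.ofFinite (G ⧸ T)
  set f : T → ℂ := fun x => (((w * z : Subalgebra.center (locRing M) (MonoidAlgebra (locRing M) T)) :
    MonoidAlgebra (locRing M) T).coeff x : ℂ) with hf
  have hfcl : IsClassFunction T f := fun x u => by
    simp only [hf]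
    rw [coeff_eq_of_isConj (w * z).2 (isConj_iff.2 ⟨u, rfl⟩ : IsConj x (u * x * u⁻¹))]
  have hmem : ∀ g : G, indFun T f g ∈ locRing M := by
    intro g
    rw [indFun_eq_sum_transversal T f hfcl]
    refine Subring.sum_mem _ fun i _ => ?_
    by_cases hi : i.out⁻¹ * g * i.out ∈ T
    · rw [extendByZero_apply_mem T f hi]
      exact SetLike.coe_mem _
    · rw [extendByZero_of_notMem T f hi]
      exact Subring.zero_mem _
  let A : Subalgebra.center (locRing M) (MonoidAlgebra (locRing M) G) :=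
    ⟨ofFun fun g => ⟨indFun T f g, hmem g⟩, ofFun_mem_center fun u x =>
      Subtype.ext (isClassFunction_indFun T f x u)⟩
  have hsum : ∀ φ : IrrCharacter T, ∑ x : T, f x * (φ : T → ℂ) x =
      omega φ (mapCenter (locRing M).subtype (w * z)) * (φ : T → ℂ) 1 := by
    intro φ
    rw [omega_eq_sum, div_mul_cancel₀ _ (IsIrrCharacter.apply_one_ne_zero φ.2)]
    exact Finset.sum_congr rfl fun x _ => by rw [coe_mapCenter, coeff_map]; rfl
  have key : ∀ (ψ : IrrCharacter T) (χ : IrrCharacter G), OverSet N T hNT b ψ →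
      (χ : G → ℂ) = indFun T (ψ : T → ℂ) → lamR M χ A = lamR M ψ w := by
    intro ψ χ hψ hχ
    obtain ⟨χ', hχ', hres, -, huniq⟩ := exists_indFun_overSet N T hNT hb hT hψ
    obtain rfl : χ' = χ := Subtype.ext (hχ'.trans hχ.symm)
    obtain ⟨m, hm⟩ := IsCharacter.exists_nat_combination
      (CfsgLib.Clifford.isCharacter_res (IsIrrCharacter.isCharacter χ'.2) T)
    have hmc : ∀ φ : IrrCharacter T,
        classInner (fun t : T => (χ' : G → ℂ) t) (φ : T → ℂ) = m φ := fun φ => by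
      rw [hm, classInner_sum_smul_irr]
    have hm1 : (m ψ : ℂ) = 1 := by
      rw [← hmc ψ, ← classInner_conj_symm, ← classInner_indFun T (ψ : T → ℂ) (χ' : G → ℂ)
        (IsIrrCharacter.isClassFunction χ'.2), ← hχ, classInner_irr_self χ'.2, map_one]
    have h3 : ∑ x : T, f x * (χ' : G → ℂ) x =
        omega ψ (mapCenter (locRing M).subtype w) * (ψ : T → ℂ) 1 := by
      have h4 : ∀ x : T, (χ' : G → ℂ) x = ∑ φ : IrrCharacter T, (m φ : ℂ) * (φ : T → ℂ) x := by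
        intro x
        simpa [Finset.sum_apply] using congrFun hm x
      simp only [h4, Finset.mul_sum]
      rw [Finset.sum_comm, Finset.sum_eq_single ψ]
      · rw [Finset.sum_congr rfl (fun x _ => mul_left_comm (f x) (m ψ : ℂ) ((ψ : T → ℂ) x)),
          ← Finset.mul_sum, hsum, hm1, one_mul, map_mul, map_mul, hz1 ψ hψ, mul_one]
      · intro φ _ hne
        rw [Finset.sum_congr rfl (fun x _ => mul_left_comm (f x) (m φ : ℂ) ((φ : T → ℂ) x)),
          ← Finset.mul_sum, hsum]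
        by_cases hm0 : m φ = 0
        · simp [hm0]
        rw [map_mul, map_mul, hz0 φ (fun hφ => hne (huniq φ hφ
          (by rw [hmc]; exact Nat.cast_ne_zero.2 hm0)))]
        simp
      · simp
    refine Subtype.ext ?_
    rw [coe_lamR, coe_lamR, omega_eq_sum]
    have h5 : ∀ g : G, (mapCenter (locRing M).subtype A : MonoidAlgebra ℂ G).coeff g =
        indFun T f g := fun g => by simp [coe_mapCenter, A]
    simp only [h5]
    rw [sum_indFun_mul T f _ (IsIrrCharacter.isClassFunction χ'.2), h3, hχ, indFun_apply_one]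
    have hT0 : (Nat.card T : ℂ) ≠ 0 := Nat.cast_ne_zero.2 Nat.card_pos.ne'
    have hI0 : (T.index : ℂ) ≠ 0 := Nat.cast_ne_zero.2 Subgroup.index_ne_zero_of_finite
    have hψ0 := IsIrrCharacter.apply_one_ne_zero ψ.2
    rw [← Subgroup.card_mul_index T, Nat.cast_mul]
    field_simp
  rw [← key ψ₁ χ₁ h₁ e₁, ← key ψ₂ χ₂ h₂ e₂, ← lam_mapCenter, ← lam_mapCenter,
    sameBlock_iff_lam.1 h]

/-- Every character over `b` comes from `T`. -/
theorem exists_overSet_of_covers (hb : IsPBlock M b)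
    (hT : ∀ g : G, g ∈ T ↔ ∀ θ ∈ b, conjIrr N θ g ∈ b) {χ : IrrCharacter G}
    (hχ : ∃ θ ∈ b, classInner (fun n : N => (χ : G → ℂ) n) (θ : N → ℂ) ≠ 0) :
    ∃ ψ : IrrCharacter T, OverSet N T hNT b ψ ∧ (χ : G → ℂ) = indFun T (ψ : T → ℂ) := by
  obtain ⟨θ, hθ, hc⟩ := hχ
  obtain ⟨ψ, hψ, h1, -, h2⟩ := CliffordOver.exists_indFun_eq N T hNT θ.2
    (inertia_le_stab N T hb hT hθ) χ.2 hc
  exact ⟨⟨ψ, hψ⟩, ⟨θ, hθ, h2 ▸ hc⟩, h1.symm⟩

/-- The members of the block induced by a block over `b`. -/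
theorem fongReynolds (hb : IsPBlock M b)
    (hT : ∀ g : G, g ∈ T ↔ ∀ θ ∈ b, conjIrr N θ g ∈ b) {B' : Set (IrrCharacter T)}
    (hB' : IsPBlock M B') {ψ₀ : IrrCharacter T} (hψ₀ : ψ₀ ∈ B')
    (h₀ : OverSet N T hNT b ψ₀) :
    ∃ B : Set (IrrCharacter G), IsInducedBlock M T B' B ∧
      (∃ χ ∈ B, ∃ θ ∈ b, classInner (fun n : N => (χ : G → ℂ) n) (θ : N → ℂ) ≠ 0) ∧
      (∀ ψ ∈ B', OverSet N T hNT b ψ) ∧
      ∀ χ : IrrCharacter G, χ ∈ B ↔ ∃ ψ ∈ B', (χ : G → ℂ) = indFun T (ψ : T → ℂ) := by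
  have hover : ∀ ψ ∈ B', OverSet N T hNT b ψ := fun ψ hψ => by
    rw [IsPBlock.eq_blockOf hB' hψ₀] at hψ
    exact overSet_of_sameBlock N T hNT hb hT hψ h₀
  obtain ⟨χ₀, e₀, -, hθ₀, -⟩ := exists_indFun_overSet N T hNT hb hT h₀
  have hind := isInducedBlock_indFun (M := M) T e₀
  rw [← IsPBlock.eq_blockOf hB' hψ₀] at hind
  refine ⟨_, hind, ⟨χ₀, mem_blockOf_self χ₀, hθ₀⟩, hover, fun χ => ⟨fun hχ => ?_, ?_⟩⟩
  · obtain ⟨θ, hθ, hc⟩ := hθ₀
    obtain ⟨η₀, hη₀, hη⟩ := CfsgLib.Clifford.exists_constituent_res N χ.2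
    obtain ⟨g, hg⟩ := constituent_mem_conjClosure (M := M) N (ψ := ⟨η₀, hη₀⟩) hb hχ hθ hc hη
    obtain ⟨ψ, hψ, e⟩ := exists_overSet_of_covers N T hNT hb hT (χ := χ)
      ⟨_, hg, by
        rw [coe_conjIrr, CfsgLib.Clifford.classInner_res_conjFun N
          (IsIrrCharacter.isClassFunction χ.2)]
        exact hη⟩
    refine ⟨ψ, ?_, e⟩
    rw [IsPBlock.eq_blockOf hB' hψ₀]
    exact sameBlock_of_indFun N T hNT hb hT h₀ hψ e₀ e hχ
  · rintro ⟨ψ, hψ, e⟩
    have h := isInducedBlock_indFun (M := M) T e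
    rw [← IsPBlock.eq_blockOf hB' hψ] at h
    rw [IsInducedBlock.unique hind h]
    exact mem_blockOf_self χ

/-- Defect groups and heights in the correspondence. -/
theorem fongReynolds_defect {p : ℕ} [Fact p.Prime] (hM : IsPModular p M) (hb : IsPBlock M b)
    (hT : ∀ g : G, g ∈ T ↔ ∀ θ ∈ b, conjIrr N θ g ∈ b) {B' : Set (IrrCharacter T)}
    (hB' : IsPBlock M B') {ψ₀ : IrrCharacter T} (hψ₀ : ψ₀ ∈ B')
    (h₀ : OverSet N T hNT b ψ₀) {B : Set (IrrCharacter G)} (hind : IsInducedBlock M T B' B) :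
    (∀ D : Subgroup T, IsDefectGroup p M B' D → IsDefectGroup p M B (D.map T.subtype)) ∧
      ∀ ψ ∈ B', ∃ χ ∈ B, (χ : G → ℂ) = indFun T (ψ : T → ℂ) ∧
        blockHeight p B (χ : G → ℂ) = blockHeight p B' (ψ : T → ℂ) := by
  obtain ⟨B₁, hB₁, -, hover, hmem⟩ := fongReynolds N T hNT hb hT hB' hψ₀ h₀
  obtain rfl : B₁ = B := IsInducedBlock.unique hB₁ hind
  set v : IrrCharacter G → ℕ := fun χ => (charDegree (χ : G → ℂ)).factorization p with hv
  set k := T.index.factorization p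
  have hdeg : ∀ (ψ : IrrCharacter T) (χ : IrrCharacter G),
      (χ : G → ℂ) = indFun T (ψ : T → ℂ) →
        v χ = k + (charDegree (ψ : T → ℂ)).factorization p := by
    intro ψ χ e
    have h1 : charDegree (χ : G → ℂ) = T.index * charDegree (ψ : T → ℂ) := by
      have h2 : (charDegree (χ : G → ℂ) : ℂ) = (T.index : ℂ) * (charDegree (ψ : T → ℂ) : ℂ) := by
        rw [CfsgLib.BlockReg.deg_cast, CfsgLib.BlockReg.deg_cast, e, indFun_apply_one]
      exact_mod_cast h2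
    rw [hv]
    simp only [h1]
    rw [Nat.factorization_mul Subgroup.index_ne_zero_of_finite
      (CfsgLib.BlockReg.deg_pos ψ).ne', Finsupp.add_apply]
  have hex : ∀ ψ ∈ B', ∃ χ ∈ B₁, (χ : G → ℂ) = indFun T (ψ : T → ℂ) := by
    intro ψ hψ
    obtain ⟨χ, e, -⟩ := exists_indFun_overSet N T hNT hb hT (hover ψ hψ)
    exact ⟨χ, (hmem χ).2 ⟨ψ, hψ, e⟩, e⟩
  have hmin : CfsgLib.BlockReg.minExp p B₁ = k + CfsgLib.BlockReg.minExp p B' := by
    obtain ⟨ψ₁, hψ₁, h₁⟩ := CfsgLib.BlockReg.exists_minExp (p := p) (IsPBlock.nonempty hB')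
    obtain ⟨χ₁, hχ₁, e₁⟩ := hex ψ₁ hψ₁
    refine le_antisymm ?_ ?_
    · rw [← h₁, ← hdeg ψ₁ χ₁ e₁]
      exact CfsgLib.BlockReg.minExp_le hχ₁
    · obtain ⟨χ₂, hχ₂, h₂⟩ := CfsgLib.BlockReg.exists_minExp (p := p) (IsPBlock.nonempty hind.2.1)
      obtain ⟨ψ₂, hψ₂, e₂⟩ := (hmem χ₂).1 hχ₂
      rw [← h₂]
      show _ ≤ v χ₂
      rw [hdeg ψ₂ χ₂ e₂]
      exact Nat.add_le_add_left (CfsgLib.BlockReg.minExp_le hψ₂) k
  have hdef : blockDefect p B₁ = blockDefect p B' := by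
    rw [CfsgLib.BlockReg.blockDefect_eq, CfsgLib.BlockReg.blockDefect_eq, hmin,
      ← Subgroup.card_mul_index T, Nat.factorization_mul Nat.card_pos.ne'
        Subgroup.index_ne_zero_of_finite, Finsupp.add_apply]
    show _ + k - _ = _
    omega
  constructor
  · intro D hD
    obtain ⟨E, hE, hle⟩ := exists_defectGroup_ge hM hind hD
    rwa [Subgroup.eq_of_le_of_card_ge hle (le_of_eq (by
      rw [card_defectGroup hM hind.2.1 hE, hdef, ← card_defectGroup hM hB' hD,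
        Subgroup.card_map_of_injective (Subgroup.subtype_injective _)]))]
  · intro ψ hψ
    obtain ⟨χ, hχ, e⟩ := hex ψ hψ
    refine ⟨χ, hχ, e, ?_⟩
    have h1 : CfsgLib.BlockReg.minExp p B₁ ≤ v χ := CfsgLib.BlockReg.minExp_le hχ
    have h2 := hdeg ψ χ e
    simp only [blockHeight]
    change v χ - CfsgLib.BlockReg.minExp p B₁ = _ - CfsgLib.BlockReg.minExp p B'
    omega

omit hNT [M.IsMaximal] [Fintype G] [Fintype N] [Fintype T] in
/-- The stabiliser condition in terms of conjugate characters. -/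
theorem stab_iff (hT : ∀ g : G, g ∈ T ↔ ∀ θ ∈ b, ∀ θ' : IrrCharacter N,
      (∀ n : N, (θ' : N → ℂ) n = (θ : N → ℂ) ⟨g * n * g⁻¹, hN.conj_mem n n.2 g⟩) → θ' ∈ b)
    (g : G) : g ∈ T ↔ ∀ θ ∈ b, conjIrr N θ g ∈ b := by
  rw [hT]
  refine ⟨fun h θ hθ => h θ hθ _ fun n => rfl, fun h θ hθ θ' e => ?_⟩
  rw [show θ' = conjIrr N θ g from Subtype.ext (funext e)]
  exact h θ hθ

end CfsgLib.Blocks
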