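import Cfsg.Agent.Lib.Blocks.FongFull
import Cfsg.Agent.Lib.Blocks.FongReynolds
import Cfsg.Agent.Lib.Blk83.Weight
import Cfsg.Agent.Lib.CharDeep.Gallagher
import Cfsg.Agent.Lib.PLocal.PSolvable
import Cfsg.Agent.S0887

/-!
# Heights in blocks of `p`-solvable groups are bounded by the index of the centre of a defect group
-/

set_option autoImplicit false
set_option maxHeartbeats 1000000
set_option synthInstance.maxHeartbeats 400000

namespace CfsgLib.Blocks

open Cfsg CfsgLib.CharTwist
open scoped Classical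

universe u

variable {G : Type u} [Group G] [Finite G] {p : ℕ} [Fact p.Prime]

/-- The degree of a character over an invariant character of the `p'`-core. -/
theorem factorization_deg_le_center_index [Fintype G] (hsolv : IsPSolvable p G) (N : Subgroup G)
    [hN : N.Normal] [Fintype N] (hNdef : N = pPrimeCore p G) (θ : IrrCharacter N)
    (hinv : ∀ g : G, conjFun N (θ : N → ℂ) g = (θ : N → ℂ)) (χ : IrrCharacter G)
    (hχ : classInner (fun n : N => (χ : G → ℂ) n) (θ : N → ℂ) ≠ 0) (P : Sylow p G) :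
    (charDegree (χ : G → ℂ)).factorization p ≤
      (Subgroup.center (P : Subgroup G)).index.factorization p := by
  have hpp : p.Prime := Fact.out
  have hNco : (Nat.card N).Coprime p := hNdef ▸ CfsgLib.Solvable.pPrimeCore_card_coprime p G
  have hθp : ¬ p ∣ charDegree (θ : N → ℂ) := fun h => (hpp.coprime_iff_not_dvd.1 hNco.symm)
    (h.trans (CfsgLib.BlockReg.deg_dvd_card θ))
  set U := pCore p (G ⧸ N) with hU
  haveI hUn : U.Normal := CfsgLib.Solvable.pCore_normal p (G ⧸ N)
  have hUp : IsPGroup p U := CfsgLib.Components.isPGroup_pCore p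
  have hcentU : Subgroup.centralizer (U : Set (G ⧸ N)) ≤ U :=
    CfsgLib.Blocks82.centralizer_pCore_le (CfsgLib.Blocks82.isPSolvable_quotient hsolv N)
      (CfsgLib.Solvable.pPrimeCore_quotient_eq_bot N hNdef)
  set Z0 := (Subgroup.center U).map U.subtype with hZ0
  haveI : Z0.Normal := ConjAct.normal_of_characteristic_of_normal
  set A := Z0.comap (QuotientGroup.mk' N) with hA
  haveI : A.Normal := Subgroup.Normal.comap inferInstance _
  haveI : Fintype A := Fintype.ofFinite A
  have hNA : N ≤ A := fun x hx => by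
    rw [hA, Subgroup.mem_comap, QuotientGroup.mk'_apply, (QuotientGroup.eq_one_iff x).2 hx]
    exact one_mem _
  -- the centre of the Sylow subgroup
  have hZA : (Subgroup.center (P : Subgroup G)).map (P : Subgroup G).subtype ≤ A := by
    rintro _ ⟨z, hz, rfl⟩
    have hUP : U ≤ (P : Subgroup G).map (QuotientGroup.mk' N) :=
      CfsgLib.Solvable.pCore_le_sylow (P.mapSurjective (QuotientGroup.mk'_surjective N))
    have hcomm : ∀ v ∈ U, v * QuotientGroup.mk' N (z : G) = QuotientGroup.mk' N (z : G) * v := by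
      intro v hv
      obtain ⟨y, hy, rfl⟩ := hUP hv
      rw [← map_mul, ← map_mul]
      exact congrArg (QuotientGroup.mk' N)
        (congrArg Subtype.val (Subgroup.mem_center_iff.1 hz ⟨y, hy⟩))
    have hzU : QuotientGroup.mk' N (z : G) ∈ U := hcentU (Subgroup.mem_centralizer_iff.2 hcomm)
    exact Subgroup.mem_comap.2 ⟨⟨_, hzU⟩,
      Subgroup.mem_center_iff.2 fun v => Subtype.ext (hcomm v v.2), rfl⟩
  have hidxA : A.index.factorization p ≤ (Subgroup.center (P : Subgroup G)).index.factorization p := by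
    have h1 := Subgroup.index_dvd_of_le hZA
    rw [Subgroup.index_map_subtype] at h1
    have h2 := (Nat.factorization_le_iff_dvd Subgroup.index_ne_zero_of_finite
      (mul_ne_zero Subgroup.index_ne_zero_of_finite Subgroup.index_ne_zero_of_finite)).2 h1 p
    rwa [Nat.factorization_mul Subgroup.index_ne_zero_of_finite Subgroup.index_ne_zero_of_finite,
      Finsupp.add_apply, Nat.factorization_eq_zero_of_not_dvd P.not_dvd_index, add_zero] at h2
  -- the constituent on `A`
  obtain ⟨η, hη1, hη2⟩ := exists_intermediate_constituent N A hNA hχ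
  set N' := N.subgroupOf A with hN'
  haveI : Fintype N' := Fintype.ofFinite N'
  have hN'card : Nat.card N' = Nat.card N :=
    Nat.card_congr (Subgroup.subgroupOfEquivOfLe hNA).toEquiv
  obtain ⟨k, hk⟩ : ∃ k, N'.index = p ^ k := by
    obtain ⟨k, hk⟩ := IsPGroup.iff_card.1
      ((hUp.to_subgroup (Subgroup.center U)).map U.subtype : IsPGroup p Z0)
    refine ⟨k, ?_⟩
    rw [← hk]
    show N.relIndex A = _
    conv_lhs => rw [← QuotientGroup.ker_mk' N, ← MonoidHom.comap_bot, Subgroup.relIndex_comap,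
      hA, Subgroup.map_comap_eq_self_of_surjective (QuotientGroup.mk'_surjective N),
      Subgroup.relIndex_bot_left]
  have hcop : (Nat.card N').Coprime N'.index := by
    rw [hN'card, hk]; exact Nat.Coprime.pow_right _ hNco
  set θ' : IrrCharacter N' := ⟨CliffordOver.trans N A hNA (θ : N → ℂ),
    CliffordOver.isIrrCharacter_trans N A hNA θ.2⟩ with hθ'
  have hinv' : ∀ g : A, conjFun N' (θ' : N' → ℂ) g = (θ' : N' → ℂ) := fun g => by
    have h : g ∈ inertia N' (θ' : N' → ℂ) := by
      rw [show inertia N' (θ' : N' → ℂ) = (inertia N (θ : N → ℂ)).subgroupOf A from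
        CliffordOver.inertia_trans N A hNA _, Subgroup.mem_subgroupOf, mem_inertia]
      exact hinv _
    exact mem_inertia.1 h
  obtain ⟨ψ₀, hψ₀⟩ := CfsgLib.Glauberman.exists_ext_of_invariant N' hcop θ' hinv'
  have hres : (fun n : N' => (ψ₀ : A → ℂ) n) = (θ' : N' → ℂ) := funext hψ₀
  obtain ⟨-, -, h3⟩ := CharDeep.Gal.quotient_bijection N' ψ₀.2 (by rw [hres]; exact θ'.2)
  obtain ⟨β, hβ, hb⟩ := h3 (η : A → ℂ) η.2 (by
    rw [hres, hθ', ← CliffordOver.classInner_trans N A hNA] at *
    exact hη2)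
  have hcommQ : ∀ a ∈ (⊤ : Subgroup (A ⧸ N')), ∀ b ∈ (⊤ : Subgroup (A ⧸ N')), a * b = b * a := by
    intro a _ b _
    obtain ⟨x, rfl⟩ := QuotientGroup.mk'_surjective N' a
    obtain ⟨y, rfl⟩ := QuotientGroup.mk'_surjective N' b
    rw [← map_mul, ← map_mul, QuotientGroup.mk'_apply, QuotientGroup.mk'_apply,
      QuotientGroup.eq, hN', Subgroup.mem_subgroupOf, Subgroup.coe_mul, Subgroup.coe_inv,
      ← QuotientGroup.eq]
    obtain ⟨u, hu, hux⟩ := Subgroup.mem_comap.1 x.2
    obtain ⟨v, hv, hvy⟩ := Subgroup.mem_comap.1 y.2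
    show QuotientGroup.mk' N ((x : G) * y) = QuotientGroup.mk' N ((y : G) * x)
    rw [map_mul, map_mul, ← hux, ← hvy, ← map_mul, ← map_mul, Subgroup.mem_center_iff.1 hu v]
  have hβ1 : β 1 = 1 := by
    have h := CfsgLib.Blk83.deg_dvd_index (⟨β, hβ⟩ : IrrCharacter (A ⧸ N')) ⊤ hcommQ
    rw [Subgroup.index_top, Nat.dvd_one] at h
    rw [show β 1 = (charDegree β : ℂ) from
      CfsgLib.Blk83.one_eq (⟨β, hβ⟩ : IrrCharacter (A ⧸ N')), h, Nat.cast_one]
  have hηdeg : charDegree (η : A → ℂ) = charDegree (θ : N → ℂ) := by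
    have h2 : ((charDegree (η : A → ℂ) : ℕ) : ℂ) = (charDegree (θ : N → ℂ) : ℂ) := by
      rw [CfsgLib.BlockReg.deg_cast, CfsgLib.BlockReg.deg_cast, ← hb, Pi.mul_apply,
        Function.comp_apply, map_one, hβ1, one_mul, ← OneMemClass.coe_one N', hψ₀]
      exact congrArg (θ : N → ℂ) (map_one (Subgroup.subgroupOfEquivOfLe hNA))
    exact_mod_cast h2
  -- divisibility
  obtain ⟨hd1, hd2⟩ := Cfsg.Agent.S0887.result A (χ : G → ℂ) χ.2 (η : A → ℂ) η.2 hη1 _ _
    (CfsgLib.BlockReg.deg_cast χ).symm (CfsgLib.BlockReg.deg_cast η).symm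
  have h1 : charDegree (χ : G → ℂ) ∣ A.index * charDegree (θ : N → ℂ) := by
    rw [← hηdeg, ← Nat.div_mul_cancel hd1]
    exact Nat.mul_dvd_mul_right hd2 _
  have h2 := (Nat.factorization_le_iff_dvd (CfsgLib.BlockReg.deg_pos χ).ne'
    (mul_ne_zero Subgroup.index_ne_zero_of_finite (CfsgLib.BlockReg.deg_pos θ).ne')).2 h1 p
  rw [Nat.factorization_mul Subgroup.index_ne_zero_of_finite (CfsgLib.BlockReg.deg_pos θ).ne',
    Finsupp.add_apply, Nat.factorization_eq_zero_of_not_dvd hθp, add_zero] at h2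
  exact h2.trans hidxA

/-- The index of the centre is invariant under isomorphism. -/
theorem index_center_congr {A B : Type*} [Group A] [Group B] [Finite A] (e : A ≃* B) :
    (Subgroup.center A).index = (Subgroup.center B).index := by
  haveI : Finite B := Finite.of_equiv A e.toEquiv
  have h1 := Subgroup.card_mul_index (Subgroup.center A)
  rw [Nat.card_congr e.toEquiv, ← Subgroup.card_mul_index (Subgroup.center B),
    Nat.card_congr (Subgroup.centerCongr e).toEquiv] at h1
  exact Nat.eq_of_mul_eq_mul_left Nat.card_pos h1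

variable {M : Ideal AlgInt} [M.IsMaximal]

/-- Heights are bounded by the exponent of the index of the centre of a defect group. -/
theorem blockHeight_le_center_index (hM : IsPModular p M) (n : ℕ) :
    ∀ (G : Type u) [Group G] [Finite G], Nat.card G = n → IsPSolvable p G →
      ∀ (B : Set (IrrCharacter G)), IsPBlock M B → ∀ P : Subgroup G, IsDefectGroup p M B P →
        ∀ χ ∈ B, blockHeight p B (χ : G → ℂ) ≤ (Subgroup.center P).index.factorization p := by
  induction n using Nat.strong_induction_on with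
  | _ n ih =>
  intro G _ _ hn hsolv B hB P hP χ hχ
  haveI : Fintype G := Fintype.ofFinite G
  set N := pPrimeCore p G with hNdef
  haveI : N.Normal := CfsgLib.Solvable.pPrimeCore_normal p G
  haveI : Fintype N := Fintype.ofFinite N
  obtain ⟨η, hη, hc⟩ := CfsgLib.Clifford.exists_constituent_res N χ.2
  set θ : IrrCharacter N := ⟨η, hη⟩ with hθ
  set T := inertia N (θ : N → ℂ) with hTdef
  by_cases hT : T = ⊤
  · have hinv : ∀ g : G, conjFun N (θ : N → ℂ) g = (θ : N → ℂ) := fun g =>
      mem_inertia.1 (show g ∈ T by rw [hT]; trivial)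
    obtain ⟨B', hB', hmem, χ', hχ', hdeg⟩ := fong_full hM hsolv N hNdef θ hinv
    obtain rfl : B' = B := IsPBlock.eq_of_mem hB' hB ((hmem χ).2 hc) hχ
    obtain ⟨S, rfl⟩ := (isDefectGroup_sylow_of_deg hM hB' hχ' hdeg).2 P hP
    exact (Nat.sub_le _ _).trans
      (factorization_deg_le_center_index hsolv N hNdef θ hinv χ hc S)
  · haveI : Fintype T := Fintype.ofFinite T
    have hNT : N ≤ T := le_inertia N (Char.IsIrrCharacter.isClassFunction θ.2)
    have hpp : p.Prime := Fact.out
    have hNco : (Nat.card N).Coprime p := hNdef ▸ CfsgLib.Solvable.pPrimeCore_card_coprime p G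
    have hθblock : ({θ} : Set (IrrCharacter N)) = blockOf M (θ : N → ℂ) :=
      ((Cfsg.Agent.S0914.result p M hM θ).1 fun h => (hpp.coprime_iff_not_dvd.1 hNco.symm)
        (h.trans (Nat.div_dvd_of_dvd (CfsgLib.BlockReg.deg_dvd_card θ)))).symm
    have hbθ : IsPBlock M ({θ} : Set (IrrCharacter N)) := hθblock ▸ isPBlock_blockOf θ
    have hTb : ∀ g : G, g ∈ T ↔ ∀ θ₁ ∈ ({θ} : Set (IrrCharacter N)),
        conjIrr N θ₁ g ∈ ({θ} : Set (IrrCharacter N)) := fun g => by
      simp only [Set.mem_singleton_iff, forall_eq, hTdef, mem_inertia]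
      exact ⟨fun h => Subtype.ext (by rw [coe_conjIrr]; exact h),
        fun h => by rw [← coe_conjIrr, h]⟩
    obtain ⟨ψ, hψo, hψe⟩ := exists_overSet_of_covers N T hNT hbθ hTb (χ := χ)
      ⟨θ, Set.mem_singleton θ, hc⟩
    set B' := blockOf M (ψ : T → ℂ) with hB'def
    have hB' : IsPBlock M B' := isPBlock_blockOf ψ
    have hψB' : ψ ∈ B' := mem_blockOf_self ψ
    obtain ⟨B₁, hind, -, -, hmem⟩ := fongReynolds N T hNT hbθ hTb hB' hψB' hψo
    obtain rfl : B₁ = B :=
      IsPBlock.eq_of_mem hind.2.1 hB ((hmem χ).2 ⟨ψ, hψB', hψe⟩) hχ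
    obtain ⟨hdef, hht⟩ := fongReynolds_defect N T hNT hM hbθ hTb hB' hψB' hψo hind
    obtain ⟨χ₂, -, he, hh⟩ := hht ψ hψB'
    obtain rfl : χ₂ = χ := Subtype.ext (he.trans hψe.symm)
    obtain ⟨D, hD⟩ := exists_defectGroup hM hB'
    obtain ⟨x, hx⟩ := defectGroup_conj hM hB (hdef D hD) hP
    rw [hh]
    have hlt : Nat.card T < n := hn ▸ lt_of_le_of_ne (Subgroup.card_le_card_group T)
      fun h => hT (Subgroup.eq_top_of_card_eq T h)
    refine (ih _ hlt T rfl (CfsgLib.PLocal.isPSolvable_subgroup hsolv T) B' hB' D hD ψ hψB').trans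
      (le_of_eq ?_)
    rw [index_center_congr ((D.equivMapOfInjective T.subtype T.subtype_injective).trans
      ((((D.map T.subtype).equivMapOfInjective _ (MulAut.conj x).injective).trans
        (MulEquiv.subgroupCongr hx))))]

end CfsgLib.Blocks
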