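import Cfsg.Agent.Lib.Blocks.Quotient
import Cfsg.Agent.Lib.Blocks.Induced

/-!
# Defect groups of blocks of a quotient group
-/

set_option autoImplicit false
set_option maxHeartbeats 1000000
set_option synthInstance.maxHeartbeats 400000

namespace CfsgLib.Blocks

open Cfsg CfsgLib.Char
open scoped Classical

universe u v

variable {G : Type u} [Group G] [Finite G] (N : Subgroup G) [hN : N.Normal] {p : ℕ} [Fact p.Prime]

/-- A `p`-subgroup of a quotient is the image of a `p`-subgroup. -/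
theorem exists_pSubgroup_map_eq {Dbar : Subgroup (G ⧸ N)} (h : IsPGroup p Dbar) :
    ∃ T : Subgroup G, IsPGroup p T ∧ T.map (QuotientGroup.mk' N) = Dbar := by
  set f := (QuotientGroup.mk' N).subgroupComap Dbar with hf
  have hsurj : Function.Surjective f :=
    (QuotientGroup.mk' N).subgroupComap_surjective_of_surjective Dbar
      (QuotientGroup.mk'_surjective N)
  obtain ⟨T⟩ := (inferInstance : Nonempty (Sylow p (Dbar.comap (QuotientGroup.mk' N))))
  have htop : (T : Subgroup (Dbar.comap (QuotientGroup.mk' N))).map f = ⊤ := by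
    refine ((T.mapSurjective hsurj).is_maximal' ?_ le_top).symm
    exact h.of_equiv Subgroup.topEquiv.symm
  refine ⟨(T : Subgroup (Dbar.comap (QuotientGroup.mk' N))).map
    (Dbar.comap (QuotientGroup.mk' N)).subtype, T.2.map _, ?_⟩
  rw [Subgroup.map_map,
    show (QuotientGroup.mk' N).comp (Dbar.comap (QuotientGroup.mk' N)).subtype =
      Dbar.subtype.comp f from MonoidHom.ext fun _ => rfl,
    ← Subgroup.map_map, htop, ← MonoidHom.range_eq_map, Subgroup.range_subtype]

variable {R : Type v} [CommRing R] [CharP R p]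

/-- A nonzero coefficient of a projection at an element centralized by the image of a `p`-group
comes from a nonzero coefficient at an element centralized by the group. -/
theorem exists_fixed_of_coeff_projC_ne_zero {T : Subgroup G} (hT : IsPGroup p T)
    (a : Subalgebra.center R (MonoidAlgebra R G)) {c : G ⧸ N}
    (hc : c ∈ Subgroup.centralizer ((T.map (QuotientGroup.mk' N) : Subgroup (G ⧸ N)) : Set (G ⧸ N)))
    (h : (projC N a : MonoidAlgebra R (G ⧸ N)).coeff c ≠ 0) :
    ∃ g : G, (g : G ⧸ N) = c ∧ g ∈ Subgroup.centralizer (T : Set G) ∧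
      (a : MonoidAlgebra R G).coeff g ≠ 0 := by
  letI := Fintype.ofFinite G
  letI : MulAction T G := MulAction.compHom G ((MulAut.conj : G →* MulAut G).comp T.subtype)
  rw [coeff_projC, Finset.sum_filter] at h
  rw [sum_eq_sum_fixed hT _ fun u x => ?_] at h
  · obtain ⟨x, hx, hx0⟩ := Finset.exists_ne_zero_of_sum_ne_zero h
    split_ifs at hx0 with hxc
    · refine ⟨x, hxc, ?_, hx0⟩
      rw [Subgroup.mem_centralizer_iff]
      intro u hu
      have h1 : u * x * u⁻¹ = x := (Finset.mem_filter.1 hx).2 ⟨u, hu⟩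
      exact mul_inv_eq_iff_eq_mul.1 h1
    · exact absurd rfl hx0
  · change (if ((u * x * u⁻¹ : G) : G ⧸ N) = c then (a : MonoidAlgebra R G).coeff (u * x * u⁻¹)
      else 0) = _
    rw [← coeff_eq_of_isConj a.2 (isConj_iff.2 ⟨(u : G), rfl⟩ : IsConj x (u * x * u⁻¹))]
    refine if_congr ?_ rfl rfl
    have hu := Subgroup.mem_centralizer_iff.1 hc _ ⟨u, u.2, rfl⟩
    simp only [QuotientGroup.mk'_apply] at hu
    rw [QuotientGroup.mk_mul, QuotientGroup.mk_mul]
    erw [QuotientGroup.mk_inv]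
    rw [mul_inv_eq_iff_eq_mul, ← hu, mul_right_inj]

variable {M : Ideal AlgInt} [M.IsMaximal]

/-- A defect group of a block of the quotient contained in `B` lies in the image of a defect
group of `B`. -/
theorem exists_defectGroup_map_ge (hM : IsPModular p M) {Bbar : Set (IrrCharacter (G ⧸ N))}
    (hBbar : IsPBlock M Bbar) {B : Set (IrrCharacter G)} (hB : IsPBlock M B)
    {χ : IrrCharacter (G ⧸ N)} (hχ : χ ∈ Bbar) (hχB : infl N χ ∈ B) {Dbar : Subgroup (G ⧸ N)}
    (hDbar : IsDefectGroup p M Bbar Dbar) :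
    ∃ P : Subgroup G, IsDefectGroup p M B P ∧ Dbar ≤ P.map (QuotientGroup.mk' N) := by
  haveI : CharP (ResField M) p := charP_resField hM.1 hM.2.2
  letI := Fintype.ofFinite G
  letI := Fintype.ofFinite (ConjClasses (G ⧸ N))
  set e := projC N (blockIdem hB) with he
  have h1 : lam M χ e = 1 := by rw [he, ← lam_infl, lam_blockIdem_of_mem hB hχB]
  have h2 : ∃ y : G ⧸ N, (e : MonoidAlgebra (ResField M) (G ⧸ N)).coeff y ≠ 0 ∧
      lam M χ (classSumC (ResField M) y) ≠ 0 := by
    by_contra hcon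
    push Not at hcon
    refine one_ne_zero (α := ResField M) ?_
    rw [← h1, show e = ∑ C : ConjClasses (G ⧸ N),
      (e : MonoidAlgebra (ResField M) (G ⧸ N)).coeff (Quotient.out C) •
        classSumC (ResField M) (Quotient.out C) from Subtype.ext (by
          push_cast [coe_classSumC]
          exact center_eq_sum_classSum e.2), map_sum]
    refine Finset.sum_eq_zero fun C _ => ?_
    rw [map_smul, smul_eq_mul]
    by_cases h : (e : MonoidAlgebra (ResField M) (G ⧸ N)).coeff (Quotient.out C) = 0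
    · rw [h, zero_mul]
    · rw [hcon _ h, mul_zero]
  obtain ⟨y, hy, hlam⟩ := h2
  rw [Ne, lam_classSumC_eq_zero_iff] at hlam
  obtain ⟨c, hyc, hc⟩ := exists_isConj_centralizer_defectGroup hM hBbar hDbar hχ hlam
  rw [coeff_eq_of_isConj e.2 hyc] at hy
  obtain ⟨T, hT, rfl⟩ := exists_pSubgroup_map_eq N (isPGroup_defectGroup hDbar)
  obtain ⟨g, -, hgT, hg⟩ := exists_fixed_of_coeff_projC_ne_zero N hT _ hc hy
  rw [Ne, coeff_blockIdem_eq_zero_iff] at hg
  obtain ⟨D, hD⟩ := exists_defectGroup hM hB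
  obtain ⟨x, hx⟩ := exists_conj_le_defectGroup hM hB hD hg hT hgT
  refine ⟨D.map (MulAut.conj x⁻¹).toMonoidHom, IsDefectGroup.conj' hD x⁻¹,
    Subgroup.map_mono fun u hu => ?_⟩
  exact ⟨_, hx ⟨u, hu, rfl⟩, by simp [mul_assoc]⟩

omit [M.IsMaximal] [CharP R p] in
/-- The image of a conjugate. -/
theorem map_mk_conj (P : Subgroup G) (x : G) :
    (P.map (MulAut.conj x).toMonoidHom).map (QuotientGroup.mk' N) =
      (P.map (QuotientGroup.mk' N)).map (MulAut.conj (x : G ⧸ N)).toMonoidHom := by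
  rw [Subgroup.map_map, Subgroup.map_map]
  exact congrArg P.map (MonoidHom.ext fun u => by simp)

/-- Over a normal `p`-subgroup some block of the quotient contained in `B` has the images of the
defect groups of `B` as defect groups. -/
theorem exists_block_quotient_defectGroup (hM : IsPModular p M) (hP : IsPGroup p N)
    {B : Set (IrrCharacter G)} (hB : IsPBlock M B) :
    ∃ Bbar : Set (IrrCharacter (G ⧸ N)), IsPBlock M Bbar ∧ (∀ χ ∈ Bbar, infl N χ ∈ B) ∧
      ∀ Dbar, IsDefectGroup p M Bbar Dbar ↔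
        ∃ P, IsDefectGroup p M B P ∧ Dbar = P.map (QuotientGroup.mk' N) := by
  letI := Fintype.ofFinite G
  obtain ⟨g, hg, hgB⟩ := CfsgLib.BlockReg.exists_defect_class hM hB
  obtain ⟨D, hgD⟩ := exists_centSylow p g
  have hD : IsDefectGroup p M B D := (isDefectGroup_iff D).2 ⟨g, hgB, hgD⟩
  have hgN : ∀ n ∈ N, n * g = g * n :=
    Subgroup.mem_centralizer_iff.1 (Subgroup.centralizer_le
      (show (N : Set G) ⊆ (D : Set G) from le_defectGroup_of_normal hM hB hD hP) hgD.mem_centralizer)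
  set S : Finset (Set (IrrCharacter (G ⧸ N))) :=
    ((Finset.univ.filter fun χ : IrrCharacter (G ⧸ N) => infl N χ ∈ B).image
      fun χ : IrrCharacter (G ⧸ N) => blockOf M (χ : G ⧸ N → ℂ)) with hS
  have hblock : ∀ b ∈ S, IsPBlock M b := fun b hb => by
    obtain ⟨χ, -, rfl⟩ := Finset.mem_image.1 hb
    exact isPBlock_blockOf χ
  have hinB : ∀ b ∈ S, ∀ χ ∈ b, infl N χ ∈ B := by
    intro b hb χ hχ
    obtain ⟨χ₀, hχ₀, rfl⟩ := Finset.mem_image.1 hb
    rw [IsPBlock.eq_blockOf hB (Finset.mem_filter.1 hχ₀).2]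
    exact sameBlock_infl N hχ
  have hsum : projC N (idemC B) = ∑ b ∈ S, idemC b := omega_ext fun ψ => by
    rw [← omega_infl, omega_idemC, map_sum]
    simp only [omega_idemC]
    by_cases hψ : infl N ψ ∈ B
    · rw [Finset.sum_eq_single (blockOf M (ψ : G ⧸ N → ℂ))]
      · simp [blockInd, hψ, mem_blockOf_self]
      · intro b hb hne
        rw [blockInd, if_neg]
        exact fun hmem => hne (IsPBlock.eq_blockOf (hblock b hb) hmem)
      · intro hn
        exact absurd (Finset.mem_image.2 ⟨ψ, by simp [hψ], rfl⟩) hn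
    · rw [blockInd, if_neg hψ, Finset.sum_eq_zero fun b hb => ?_]
      rw [blockInd, if_neg fun hmem => hψ (hinB b hb ψ hmem)]
  have hfib : ∑ b ∈ S, blockCoeff b (g : G ⧸ N) = blockCoeff B g := by
    have h := congrArg (fun a : Subalgebra.center ℂ (MonoidAlgebra ℂ (G ⧸ N)) =>
      (a : MonoidAlgebra ℂ (G ⧸ N)).coeff (g : G ⧸ N)) hsum
    simp only [coeff_projC, coe_idemC, coeff_ofFun, AddSubmonoidClass.coe_finsetSum,
      MonoidAlgebra.coeff_sum, Finsupp.finsetSum_apply] at h
    rw [← h, Finset.sum_eq_single g (fun g' hg' hne => ?_) (by simp)]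
    refine CfsgLib.BlockReg.blockCoeff_singular hM hB g' ?_
    by_contra hreg
    refine hne ?_
    have hu : g⁻¹ * g' ∈ N := QuotientGroup.eq.1 (Finset.mem_filter.1 hg').2.symm
    obtain ⟨j, hj⟩ := hP ⟨_, hu⟩
    have h2 : g⁻¹ * g' = 1 := by
      refine CfsgLib.BlockReg.eq_one_of_regular_mul (p := p) (k := j) ?_ hg
        (congrArg Subtype.val hj) (by rwa [mul_inv_cancel_left])
      exact (hgN _ hu).symm
    exact (inv_mul_eq_one.1 h2).symm
  obtain ⟨Bbar, hmem, hne⟩ : ∃ b ∈ S, ¬ MemLocalIdeal M (blockCoeff b (g : G ⧸ N)) := by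
    by_contra hcon
    push Not at hcon
    refine hgB.2.1 ?_
    rw [← hfib]
    exact CfsgLib.BlockReg.memIdeal_sum hM S hcon
  have hBbar := hblock Bbar hmem
  obtain ⟨Dbar, hDbar⟩ := exists_defectGroup hM hBbar
  obtain ⟨χ, hχ⟩ := IsPBlock.nonempty hBbar
  obtain ⟨P, hP', hle⟩ :=
    exists_defectGroup_map_ge N hM hBbar hB hχ (hinB _ hmem χ hχ) hDbar
  obtain ⟨x, hx⟩ := exists_conj_le_defectGroup hM hBbar hDbar hne
    ((isPGroup_defectGroup hD).map (QuotientGroup.mk' N)) (by
      rw [Subgroup.mem_centralizer_iff]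
      rintro _ ⟨u, hu, rfl⟩
      simp only [QuotientGroup.mk'_apply, ← QuotientGroup.mk_mul]
      rw [Subgroup.mem_centralizer_iff.1 hgD.mem_centralizer u hu])
  obtain ⟨y, hy⟩ := defectGroup_conj hM hB hP' hD
  rw [← hy, map_mk_conj] at hx
  have heq : Dbar = P.map (QuotientGroup.mk' N) := by
    refine Subgroup.eq_of_le_of_card_ge hle ?_
    have h := Subgroup.card_le_of_le hx
    rwa [card_map_conj, card_map_conj] at h
  refine ⟨Bbar, hBbar, hinB _ hmem, fun E => ⟨fun hE => ?_, ?_⟩⟩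
  · obtain ⟨z, hz⟩ := defectGroup_conj hM hBbar hDbar hE
    obtain ⟨z, rfl⟩ := QuotientGroup.mk_surjective z
    refine ⟨_, IsDefectGroup.conj' hP' z, ?_⟩
    rw [map_mk_conj, ← heq, hz]
  · rintro ⟨Q, hQ, rfl⟩
    obtain ⟨z, rfl⟩ := defectGroup_conj hM hB hP' hQ
    rw [map_mk_conj, ← heq]
    exact IsDefectGroup.conj' hDbar _

end CfsgLib.Blocks
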