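import Cfsg.Agent.Lib.Blocks.Local
import Cfsg.Agent.Lib.Blocks.ClassSum
import Cfsg.Agent.Lib.Char.Complete
import Cfsg.Agent.Lib.Char.Integral
import Mathlib.Algebra.MonoidAlgebra.MapDomain

/-!
# Central characters on the centres of group algebras over ℂ, the local ring and its residue field
-/

set_option autoImplicit false

namespace CfsgLib.Blocks

open Cfsg CfsgLib.Char
open scoped ComplexConjugate Classical

universe u v w

variable {G : Type u} [Group G] [Finite G]

noncomputable instance instFintypeConjClassesBlocks : Fintype (ConjClasses G) :=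
  Fintype.ofFinite _

section Generic

variable {R : Type v} [CommRing R] {S : Type w} [CommRing S]

/-- Evaluation on class representatives: a linear form on the group algebra. -/
noncomputable def classEval (w : G → R) (a : MonoidAlgebra R G) : R :=
  ∑ C : ConjClasses G, a.coeff (Quotient.out C) * w (Quotient.out C)

theorem classEval_add (w : G → R) (a b : MonoidAlgebra R G) :
    classEval w (a + b) = classEval w a + classEval w b := by
  simp [classEval, add_mul, Finset.sum_add_distrib]

theorem classEval_smul (w : G → R) (r : R) (a : MonoidAlgebra R G) :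
    classEval w (r • a) = r * classEval w a := by
  simp [classEval, Finset.mul_sum, mul_assoc]

theorem classEval_map (f : R →+* S) (w : G → R) (a : MonoidAlgebra R G) :
    f (classEval w a) = classEval (fun g => f (w g)) (MonoidAlgebra.mapRingHom G f a) := by
  simp [classEval, map_sum]

theorem coeff_map (f : R →+* S) (a : MonoidAlgebra R G) (g : G) :
    (MonoidAlgebra.mapRingHom G f a).coeff g = f (a.coeff g) := by
  simp

theorem map_mem_center (f : R →+* S) {a : MonoidAlgebra R G}
    (ha : a ∈ Subalgebra.center R (MonoidAlgebra R G)) :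
    MonoidAlgebra.mapRingHom G f a ∈ Subalgebra.center S (MonoidAlgebra S G) := by
  rw [mem_center_iff_conjFixed] at ha ⊢
  intro u hu x
  simp [ha u hu x]

theorem map_classSum (f : R →+* S) (g : G) :
    MonoidAlgebra.mapRingHom G f (classSum R g) = classSum S g := by
  ext x
  simp only [coeff_map, coeff_classSum]
  split_ifs <;> simp

theorem map_ofFun (f : R →+* S) (φ : G → R) :
    MonoidAlgebra.mapRingHom G f (ofFun φ) = ofFun (fun g => f (φ g)) := by
  ext x; simp

theorem ofFun_mem_center {φ : G → R} (h : ∀ u x : G, φ (u * x * u⁻¹) = φ x) :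
    ofFun φ ∈ Subalgebra.center R (MonoidAlgebra R G) := by
  rw [mem_center_iff_conjFixed]
  intro u _ x
  simpa using h u x

theorem classEval_classSum (w : G → R) (hw : ∀ u x : G, w (u * x * u⁻¹) = w x) (g : G) :
    classEval w (classSum R g) = w g := by
  rw [classEval, Finset.sum_eq_single (ConjClasses.mk g)]
  · have hx : IsConj g (Quotient.out (ConjClasses.mk g)) :=
      (ConjClasses.mk_eq_mk_iff_isConj.1 (Quotient.out_eq (ConjClasses.mk g))).symm
    obtain ⟨u, hu⟩ := isConj_iff.1 hx
    rw [coeff_classSum, if_pos hx, one_mul, ← hu, hw]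
  · intro C _ hC
    have : ¬ IsConj g (Quotient.out C) := by
      intro hc
      apply hC
      rw [← Quotient.out_eq C]
      exact (ConjClasses.mk_eq_mk_iff_isConj.2 hc).symm
    rw [coeff_classSum, if_neg this, zero_mul]
  · simp

/-- The natural map on centres. -/
noncomputable def mapCenter (f : R →+* S) :
    Subalgebra.center R (MonoidAlgebra R G) →+* Subalgebra.center S (MonoidAlgebra S G) :=
  ((MonoidAlgebra.mapRingHom G f).comp
    (Subalgebra.center R (MonoidAlgebra R G)).val.toRingHom).codRestrict
      (Subalgebra.center S (MonoidAlgebra S G)) (fun a => map_mem_center f a.2)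

theorem coe_mapCenter (f : R →+* S) (a : Subalgebra.center R (MonoidAlgebra R G)) :
    (mapCenter f a : MonoidAlgebra S G) = MonoidAlgebra.mapRingHom G f (a : MonoidAlgebra R G) :=
  rfl

theorem mapCenter_smul (f : R →+* S) (r : R) (a : Subalgebra.center R (MonoidAlgebra R G)) :
    mapCenter f (r • a) = f r • mapCenter f a := by
  refine Subtype.ext (MonoidAlgebra.ext (Finsupp.ext fun x => ?_))
  simp [coe_mapCenter]

theorem mapCenter_algebraMap (f : R →+* S) (r : R) :
    mapCenter (G := G) f (algebraMap R _ r) = algebraMap S _ (f r) := by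
  rw [Algebra.algebraMap_eq_smul_one, mapCenter_smul, map_one, Algebra.algebraMap_eq_smul_one]

theorem mapCenter_injective {f : R →+* S} (hf : Function.Injective f) :
    Function.Injective (mapCenter (G := G) f) := by
  intro a b h
  refine Subtype.ext (MonoidAlgebra.ext (Finsupp.ext fun x => hf ?_))
  simpa [coe_mapCenter] using
    congrArg (fun z : Subalgebra.center S (MonoidAlgebra S G) => (z : MonoidAlgebra S G).coeff x) h

theorem mapCenter_surjective {f : R →+* S} (hf : Function.Surjective f) :
    Function.Surjective (mapCenter (G := G) f) := by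
  intro a
  choose s hs using hf
  refine ⟨⟨ofFun (fun x => s ((a : MonoidAlgebra S G).coeff x)), ofFun_mem_center fun u x => ?_⟩, ?_⟩
  · rw [coeff_eq_of_isConj a.2 (isConj_iff.2 ⟨u, rfl⟩ : IsConj x (u * x * u⁻¹))]
  · refine Subtype.ext (MonoidAlgebra.ext (Finsupp.ext fun x => ?_))
    simp [coe_mapCenter, hs]

/-- The class sum as an element of the centre. -/
noncomputable def classSumC (R : Type v) [CommRing R] (g : G) :
    Subalgebra.center R (MonoidAlgebra R G) := ⟨classSum R g, classSum_mem_center g⟩

@[simp] theorem coe_classSumC (g : G) :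
    (classSumC R g : MonoidAlgebra R G) = classSum R g := rfl

@[simp] theorem mapCenter_classSumC (f : R →+* S) (g : G) :
    mapCenter f (classSumC R g) = classSumC S g := Subtype.ext (map_classSum f g)

end Generic

theorem centralChar_conj (χ : Cfsg.IrrCharacter G) (u x : G) :
    centralChar (χ : G → ℂ) (u * x * u⁻¹) = centralChar (χ : G → ℂ) x := by
  have h1 : (χ : G → ℂ) (u * x * u⁻¹) = (χ : G → ℂ) x :=
    IsIrrCharacter.isClassFunction χ.2 x u
  have h2 : (Subgroup.centralizer ({u * x * u⁻¹} : Set G)).index
      = (Subgroup.centralizer ({x} : Set G)).index := by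
    rw [index_centralizer_eq_card_isConj, index_centralizer_eq_card_isConj]
    have hc : IsConj x (u * x * u⁻¹) := isConj_iff.2 ⟨u, rfl⟩
    exact Nat.card_congr (Equiv.subtypeEquivRight fun y =>
      ⟨fun h => hc.trans h, fun h => hc.symm.trans h⟩)
  rw [centralChar, centralChar, h1, h2]

theorem centralChar_isIntegral (χ : Cfsg.IrrCharacter G) (g : G) :
    IsIntegral ℤ (centralChar (χ : G → ℂ) g) := by
  obtain ⟨n, ρ, hρ, hχ⟩ := χ.2
  haveI := hρ
  rw [centralChar, ← hχ, Representation.char_one]
  exact CfsgLib.Char.isIntegral_index_mul_char_div ρ g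

theorem centralChar_one (χ : Cfsg.IrrCharacter G) : centralChar (χ : G → ℂ) 1 = 1 := by
  have e : Subgroup.centralizer ({1} : Set G) = ⊤ := by
    ext x; simp [Subgroup.mem_centralizer_singleton_iff]
  rw [centralChar, e, Subgroup.index_top, Nat.cast_one, one_mul,
    div_self (IsIrrCharacter.apply_one_ne_zero χ.2)]

/-- The sum of a class-invariant summand over the group, by classes. -/
theorem sum_eq_sum_classes {A : Type*} [AddCommMonoid A] [Fintype G] (F : G → A)
    (hF : ∀ u x : G, F (u * x * u⁻¹) = F x) :
    ∑ x : G, F x = ∑ C : ConjClasses G,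
      (Subgroup.centralizer ({Quotient.out C} : Set G)).index • F (Quotient.out C) := by
  rw [← Finset.sum_fiberwise Finset.univ (ConjClasses.mk : G → ConjClasses G) F]
  refine Finset.sum_congr rfl fun C _ => ?_
  have hC : ∀ x : G, ConjClasses.mk x = C ↔ IsConj (Quotient.out C) x := by
    intro x
    conv_lhs => rw [← Quotient.out_eq C]
    exact ⟨fun h => (ConjClasses.mk_eq_mk_iff_isConj.1 h).symm,
      fun h => (ConjClasses.mk_eq_mk_iff_isConj.2 h).symm⟩
  rw [Finset.sum_congr rfl (g := fun _ => F (Quotient.out C)), Finset.sum_const,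
    index_centralizer_eq_card_isConj, Nat.card_eq_fintype_card, Fintype.card_subtype]
  · congr 2
    exact Finset.filter_congr fun x _ => hC x
  · intro x hx
    obtain ⟨u, hu⟩ := isConj_iff.1 ((hC x).1 (Finset.mem_filter.1 hx).2)
    rw [← hu, hF]

/-- On the centre, evaluation at central characters is the sum over the group. -/
theorem classEval_centralChar_eq [Fintype G] (χ : Cfsg.IrrCharacter G) (a : MonoidAlgebra ℂ G)
    (ha : a ∈ Subalgebra.center ℂ (MonoidAlgebra ℂ G)) :
    classEval (centralChar (χ : G → ℂ)) a
      = (∑ g : G, a.coeff g * (χ : G → ℂ) g) / (χ : G → ℂ) 1 := by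
  rw [sum_eq_sum_classes (fun g => a.coeff g * (χ : G → ℂ) g), Finset.sum_div, classEval]
  · refine Finset.sum_congr rfl fun C _ => ?_
    rw [centralChar, nsmul_eq_mul]
    ring
  · intro u x
    rw [IsIrrCharacter.isClassFunction χ.2 x u,
      coeff_eq_of_isConj ha (isConj_iff.2 ⟨u, rfl⟩ : IsConj x (u * x * u⁻¹))]

theorem lift_eq_opOfFun [Fintype G] {V : Type*} [AddCommGroup V] [Module ℂ V]
    (ρ : Representation ℂ G V) (a : MonoidAlgebra ℂ G) :
    MonoidAlgebra.lift ℂ (Module.End ℂ V) G ρ a = opOfFun ρ (fun g => a.coeff g) := by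
  rw [MonoidAlgebra.lift_apply, opOfFun, Finsupp.sum_fintype]
  simp

theorem classEval_centralChar_mul (χ : Cfsg.IrrCharacter G) (a b : MonoidAlgebra ℂ G)
    (ha : a ∈ Subalgebra.center ℂ (MonoidAlgebra ℂ G))
    (hb : b ∈ Subalgebra.center ℂ (MonoidAlgebra ℂ G)) :
    classEval (centralChar (χ : G → ℂ)) (a * b)
      = classEval (centralChar (χ : G → ℂ)) a * classEval (centralChar (χ : G → ℂ)) b := by
  haveI := Fintype.ofFinite G
  obtain ⟨n, ρ, hρ, hχ⟩ := χ.2
  haveI := hρ
  have key : ∀ c ∈ Subalgebra.center ℂ (MonoidAlgebra ℂ G),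
      MonoidAlgebra.lift ℂ (Module.End ℂ (Fin n → ℂ)) G ρ c
        = classEval (centralChar (χ : G → ℂ)) c • (1 : Module.End ℂ (Fin n → ℂ)) := by
    intro c hc
    have hf : Cfsg.IsClassFunction G (fun g => c.coeff g) := fun g h =>
      (coeff_eq_of_isConj hc (isConj_iff.2 ⟨h, rfl⟩ : IsConj g (h * g * h⁻¹))).symm
    rw [lift_eq_opOfFun, opOfFun_irreducible ρ hf, classEval_centralChar_eq χ c hc, ← hχ,
      Representation.char_one]
    rfl
  have h1 := key (a * b) (Subalgebra.mul_mem _ ha hb)
  rw [map_mul, key a ha, key b hb, smul_mul_smul_comm, one_mul] at h1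
  have : Nontrivial (Fin n → ℂ) := Module.finrank_pos_iff.mp (finrank_pos_of_isIrreducible ρ)
  exact (smul_left_injective ℂ (one_ne_zero (α := Module.End ℂ (Fin n → ℂ))) h1).symm

/-- The central character of an irreducible character on the centre of the complex group algebra. -/
noncomputable def omega (χ : Cfsg.IrrCharacter G) :
    Subalgebra.center ℂ (MonoidAlgebra ℂ G) →ₐ[ℂ] ℂ :=
  AlgHom.ofLinearMap
    { toFun := fun a => classEval (centralChar (χ : G → ℂ)) (a : MonoidAlgebra ℂ G)
      map_add' := fun a b => by simp [classEval_add]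
      map_smul' := fun r a => by simp [classEval_smul] }
    (by
      show classEval (centralChar (χ : G → ℂ)) ((1 : Subalgebra.center ℂ (MonoidAlgebra ℂ G)) : MonoidAlgebra ℂ G) = 1
      rw [OneMemClass.coe_one, ← classSum_one, classEval_classSum _ (centralChar_conj χ),
        centralChar_one])
    (fun a b => classEval_centralChar_mul χ _ _ a.2 b.2)

theorem omega_apply (χ : Cfsg.IrrCharacter G) (a : Subalgebra.center ℂ (MonoidAlgebra ℂ G)) :
    omega χ a = classEval (centralChar (χ : G → ℂ)) (a : MonoidAlgebra ℂ G) := rfl

theorem omega_eq_sum [Fintype G] (χ : Cfsg.IrrCharacter G)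
    (a : Subalgebra.center ℂ (MonoidAlgebra ℂ G)) :
    omega χ a = (∑ g : G, (a : MonoidAlgebra ℂ G).coeff g * (χ : G → ℂ) g) / (χ : G → ℂ) 1 :=
  classEval_centralChar_eq χ _ a.2

@[simp] theorem omega_classSumC (χ : Cfsg.IrrCharacter G) (g : G) :
    omega χ (classSumC ℂ g) = centralChar (χ : G → ℂ) g :=
  classEval_classSum _ (centralChar_conj χ) g

/-- The central characters separate the centre. -/
theorem omega_ext {a b : Subalgebra.center ℂ (MonoidAlgebra ℂ G)}
    (h : ∀ χ, omega χ a = omega χ b) : a = b := by
  haveI := Fintype.ofFinite G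
  rw [← sub_eq_zero]
  have h0 : ∀ χ, omega χ (a - b) = 0 := fun χ => by rw [map_sub, h χ, sub_self]
  set c := a - b
  let θ : G → ℂ := fun g => (c : MonoidAlgebra ℂ G).coeff g⁻¹
  have hθ : Cfsg.IsClassFunction G θ := fun g x => by
    show (c : MonoidAlgebra ℂ G).coeff (x * g * x⁻¹)⁻¹ = _
    refine (coeff_eq_of_isConj c.2 ?_).symm
    exact isConj_iff.2 ⟨x, by group⟩
  have hθ0 := eq_zero_of_forall_classInner_eq_zero hθ fun χ hχ => by
    have h1 := h0 ⟨χ, hχ⟩
    rw [omega_eq_sum, div_eq_zero_iff] at h1
    rw [Cfsg.classInner, mul_eq_zero]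
    right
    rw [← h1.resolve_right (IsIrrCharacter.apply_one_ne_zero hχ)]
    refine Fintype.sum_equiv (Equiv.inv G) _ _ fun g => ?_
    simp [θ, IsIrrCharacter.apply_inv hχ]
  refine Subtype.ext (MonoidAlgebra.ext (Finsupp.ext fun g => ?_))
  simpa [θ] using congrFun hθ0 g⁻¹

section Modular

variable {M : Ideal AlgInt}

/-- The central character value as an element of the local ring. -/
noncomputable def centralR (M : Ideal AlgInt) [M.IsPrime] (χ : Cfsg.IrrCharacter G) (g : G) :
    locRing M :=
  ⟨centralChar (χ : G → ℂ) g, isIntegral_mem_locRing (centralChar_isIntegral χ g)⟩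

@[simp] theorem coe_centralR [M.IsPrime] (χ : Cfsg.IrrCharacter G) (g : G) :
    (centralR M χ g : ℂ) = centralChar (χ : G → ℂ) g := rfl

theorem centralR_conj [M.IsPrime] (χ : Cfsg.IrrCharacter G) (u x : G) :
    centralR M χ (u * x * u⁻¹) = centralR M χ x := Subtype.ext (centralChar_conj χ u x)

theorem coe_classEval_centralR [M.IsPrime] (χ : Cfsg.IrrCharacter G)
    (a : Subalgebra.center (locRing M) (MonoidAlgebra (locRing M) G)) :
    ((classEval (centralR M χ) (a : MonoidAlgebra (locRing M) G) : locRing M) : ℂ)
      = omega χ (mapCenter (locRing M).subtype a) :=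
  classEval_map (locRing M).subtype _ _

/-- The central character on the centre of the group ring over the local ring. -/
noncomputable def lamR (M : Ideal AlgInt) [M.IsPrime] (χ : Cfsg.IrrCharacter G) :
    Subalgebra.center (locRing M) (MonoidAlgebra (locRing M) G) →ₐ[locRing M] locRing M :=
  AlgHom.ofLinearMap
    { toFun := fun a => classEval (centralR M χ) (a : MonoidAlgebra (locRing M) G)
      map_add' := fun a b => by simp [classEval_add]
      map_smul' := fun r a => by simp [classEval_smul] }
    (Subtype.ext (by
      show ((classEval (centralR M χ) _ : locRing M) : ℂ) = _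
      rw [coe_classEval_centralR, map_one, map_one, OneMemClass.coe_one]))
    (fun a b => Subtype.ext (by
      show ((classEval (centralR M χ) _ : locRing M) : ℂ) = _
      rw [coe_classEval_centralR, map_mul, map_mul, MulMemClass.coe_mul]
      show _ = ((classEval (centralR M χ) _ : locRing M) : ℂ) * ((classEval (centralR M χ) _ : locRing M) : ℂ)
      rw [coe_classEval_centralR, coe_classEval_centralR]))

theorem coe_lamR [M.IsPrime] (χ : Cfsg.IrrCharacter G)
    (a : Subalgebra.center (locRing M) (MonoidAlgebra (locRing M) G)) :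
    ((lamR M χ a : locRing M) : ℂ) = omega χ (mapCenter (locRing M).subtype a) :=
  coe_classEval_centralR χ a

@[simp] theorem lamR_classSumC [M.IsPrime] (χ : Cfsg.IrrCharacter G) (g : G) :
    lamR M χ (classSumC (locRing M) g) = centralR M χ g :=
  classEval_classSum _ (centralR_conj χ) g

theorem lamR_ext [M.IsPrime]
    {a b : Subalgebra.center (locRing M) (MonoidAlgebra (locRing M) G)}
    (h : ∀ χ, lamR M χ a = lamR M χ b) : a = b :=
  mapCenter_injective Subtype.val_injective
    (omega_ext fun χ => by rw [← coe_lamR, ← coe_lamR, h χ])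

theorem red_classEval [M.IsMaximal] (χ : Cfsg.IrrCharacter G)
    (a : Subalgebra.center (locRing M) (MonoidAlgebra (locRing M) G)) :
    red M (lamR M χ a) = classEval (fun g => red M (centralR M χ g))
      (mapCenter (red M) a : MonoidAlgebra (ResField M) G) :=
  classEval_map (red M) _ _

/-- The central character modulo `M` on the centre of the modular group algebra. -/
noncomputable def lam (M : Ideal AlgInt) [M.IsMaximal] (χ : Cfsg.IrrCharacter G) :
    Subalgebra.center (ResField M) (MonoidAlgebra (ResField M) G) →ₐ[ResField M] ResField M :=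
  AlgHom.ofLinearMap
    { toFun := fun a => classEval (fun g => red M (centralR M χ g))
        (a : MonoidAlgebra (ResField M) G)
      map_add' := fun a b => by simp [classEval_add]
      map_smul' := fun r a => by simp [classEval_smul] }
    (by
      show classEval (fun g => red M (centralR M χ g))
        ((1 : Subalgebra.center (ResField M) (MonoidAlgebra (ResField M) G)) :
          MonoidAlgebra (ResField M) G) = 1
      rw [← map_one (mapCenter (G := G) (red M)), ← red_classEval, map_one, map_one])
    (fun a b => by
      obtain ⟨a', rfl⟩ := mapCenter_surjective (red_surjective (M := M)) a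
      obtain ⟨b', rfl⟩ := mapCenter_surjective (red_surjective (M := M)) b
      let w : G → ResField M := fun g => red M (centralR M χ g)
      show classEval w ((mapCenter (red M) a' * mapCenter (red M) b' :
          Subalgebra.center (ResField M) (MonoidAlgebra (ResField M) G)) :
            MonoidAlgebra (ResField M) G)
        = classEval w (mapCenter (red M) a' : MonoidAlgebra (ResField M) G)
          * classEval w (mapCenter (red M) b' : MonoidAlgebra (ResField M) G)
      rw [← red_classEval, ← red_classEval, ← map_mul (mapCenter (red M)), ← red_classEval,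
        map_mul, map_mul])

theorem lam_apply [M.IsMaximal] (χ : Cfsg.IrrCharacter G)
    (a : Subalgebra.center (ResField M) (MonoidAlgebra (ResField M) G)) :
    lam M χ a = classEval (fun g => red M (centralR M χ g))
      (a : MonoidAlgebra (ResField M) G) := rfl

theorem lam_mapCenter [M.IsMaximal] (χ : Cfsg.IrrCharacter G)
    (a : Subalgebra.center (locRing M) (MonoidAlgebra (locRing M) G)) :
    lam M χ (mapCenter (red M) a) = red M (lamR M χ a) := (red_classEval χ a).symm

@[simp] theorem lam_classSumC [M.IsMaximal] (χ : Cfsg.IrrCharacter G) (g : G) :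
    lam M χ (classSumC (ResField M) g) = red M (centralR M χ g) :=
  classEval_classSum (fun g => red M (centralR M χ g)) (fun u x => by rw [centralR_conj]) g

end Modular

end CfsgLib.Blocks
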