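import Cfsg.Agent.Lib.Blocks.Defect
import Cfsg.Agent.Lib.BlockReg.Integral
import Cfsg.Agent.Lib.Char.CentralOver

/-!
# Characters of largest `p`-part over a central `p`-subgroup
-/

set_option autoImplicit false
set_option maxHeartbeats 1000000
set_option synthInstance.maxHeartbeats 400000

namespace CfsgLib.Blocks

open Cfsg CfsgLib.Char CfsgLib.BlockReg
open scoped ComplexConjugate

universe u

variable {G : Type u} [Group G] [Finite G] {p : ℕ} [Fact p.Prime] {M : Ideal AlgInt}

omit [Group G] [Finite G] in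
/-- Divisibility read in the local ring. -/
theorem pow_dvd_of_eq_mul (hM : IsPModular p M) :
    ∀ (k : ℕ) (n : ℤ) (r : ℂ), MemLocalRing M r → (n : ℂ) = r * ((p : ℂ) ^ k) → (p : ℤ) ^ k ∣ n := by
  intro k
  induction k with
  | zero => intro n r _ _; simp
  | succ k ih =>
    intro n r hr hn
    have h1 : MemLocalIdeal M (n : ℂ) := by
      rw [hn, pow_succ, ← mul_assoc]
      exact memIdeal_mul_left hM (memRing_mul hM hr (by
        exact_mod_cast memRing_natCast hM (p ^ k)))
        ((memIdeal_natCast_iff hM p).2 dvd_rfl)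
    obtain ⟨m, rfl⟩ := (memIdeal_intCast_iff hM n).1 h1
    rw [pow_succ']
    refine mul_dvd_mul_left _ (ih m r hr ?_)
    have hp : (p : ℂ) ≠ 0 := Nat.cast_ne_zero.2 hM.1.ne_zero
    push_cast at hn
    apply mul_left_cancel₀ hp
    rw [hn]; ring

variable {D : Subgroup G} (hDZ : D ≤ Subgroup.center G) (χ : IrrCharacter G)

include hDZ in
/-- Translation by a central element keeps absolute values. -/
theorem normSq_apply_mul_central {z : G} (hz : z ∈ D) (g : G) :
    Complex.normSq ((χ : G → ℂ) (g * z)) = Complex.normSq ((χ : G → ℂ) g) := by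
  have hd : (χ : G → ℂ) 1 ≠ 0 := IsIrrCharacter.apply_one_ne_zero χ.2
  have h := CfsgLib.CharOver.apply_mul_central χ.2 (hDZ hz)
  have h1 := h z⁻¹
  rw [inv_mul_cancel, char_inv] at h1
  have hzn : Complex.normSq ((χ : G → ℂ) z) = Complex.normSq ((χ : G → ℂ) 1) := by
    have h2 := congrArg Complex.normSq h1
    rw [map_mul, map_mul, Complex.normSq_conj] at h2
    exact ((mul_self_inj (Complex.normSq_nonneg _) (Complex.normSq_nonneg _)).1 h2.symm)
  have h3 := congrArg Complex.normSq (h g)
  rw [map_mul, map_mul, hzn] at h3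
  exact mul_right_cancel₀ (fun h0 => hd (Complex.normSq_eq_zero.1 h0)) h3

variable (hM : IsPModular p M) (hD : IsPGroup p D)
  (hdeg : (charDegree (χ : G → ℂ)).factorization p = D.index.factorization p)

include hDZ hM hD hdeg

/-- The regular elements carry exactly one `|D|`-th of the norm; the character vanishes outside
their translates by `D`. -/
theorem central_defect_sums [Fintype G] :
    (∀ g : G, (∀ y z : G, ¬ p ∣ orderOf y → z ∈ D → y * z ≠ g) → (χ : G → ℂ) g = 0) ∧
    (Nat.card D : ℂ) * ∑ g : G, (if p ∣ orderOf g then 0 else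
      (χ : G → ℂ) g * conj ((χ : G → ℂ) g)) = (Nat.card G : ℂ) := by
  classical
  haveI : Fintype D := Fintype.ofFinite D
  obtain ⟨d, hd⟩ := IsPGroup.iff_card.1 hD
  set a := (Nat.card G).factorization p with ha
  have hidx : D.index.factorization p + d = a := by
    rw [ha, ← Subgroup.card_mul_index D,
      Nat.factorization_mul Nat.card_pos.ne' Subgroup.index_ne_zero_of_finite, Finsupp.add_apply,
      hd, hM.1.factorization_pow, Finsupp.single_eq_same, add_comm]
  set k := D.index.factorization p with hk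
  set S : ℝ := ∑ g ∈ Finset.univ.filter (fun g : G => ¬ p ∣ orderOf g),
    Complex.normSq ((χ : G → ℂ) g) with hS
  set T : Finset G := ((Finset.univ.filter fun g : G => ¬ p ∣ orderOf g) ×ˢ
    (Finset.univ : Finset D)).image (fun yz => yz.1 * (yz.2 : G)) with hT
  have hinj : Set.InjOn (fun yz : G × D => yz.1 * (yz.2 : G))
      (((Finset.univ.filter fun g : G => ¬ p ∣ orderOf g) ×ˢ (Finset.univ : Finset D) :
        Finset (G × D)) : Set (G × D)) := by
    rintro ⟨y, z⟩ hy ⟨y', z'⟩ hy' h
    simp only [Finset.coe_product, Set.mem_prod, Finset.coe_filter, Finset.mem_univ, true_and,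
      Finset.coe_univ, Set.mem_univ, and_true, Set.mem_setOf_eq] at hy hy'
    simp only at h
    set w : D := z * z'⁻¹ with hw
    have hyw : y * (w : G) = y' := by
      rw [hw, Subgroup.coe_mul, InvMemClass.coe_inv, ← mul_assoc, h, mul_inv_cancel_right]
    obtain ⟨j, hj⟩ := hD w
    have hw1 : (w : G) = 1 := eq_one_of_regular_mul (p := p) (k := j)
      (Subgroup.mem_center_iff.1 (hDZ w.2) y) hy (congrArg Subtype.val hj) (hyw ▸ hy')
    have hy2 : y = y' := by rw [← hyw, hw1, mul_one]
    subst hy2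
    exact Prod.ext rfl (Subtype.ext (mul_left_cancel h))
  have hTsum : ∑ g ∈ T, Complex.normSq ((χ : G → ℂ) g) = (Nat.card D : ℝ) * S := by
    rw [hT, Finset.sum_image hinj, Finset.sum_product, hS, Finset.mul_sum]
    refine Finset.sum_congr rfl fun y _ => ?_
    rw [Finset.sum_congr rfl fun (z : D) _ => normSq_apply_mul_central hDZ χ z.2 y,
      Finset.sum_const, nsmul_eq_mul, Finset.card_univ, Nat.card_eq_fintype_card]
  have hall : ∑ g : G, Complex.normSq ((χ : G → ℂ) g) = (Nat.card G : ℝ) := by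
    have h := classInner_irrCharacter χ χ
    rw [if_pos rfl, classInner, inv_mul_eq_iff_eq_mul₀ (Nat.cast_ne_zero.2 Nat.card_pos.ne'),
      mul_one] at h
    have h2 : ((∑ g : G, Complex.normSq ((χ : G → ℂ) g) : ℝ) : ℂ) = ((Nat.card G : ℝ) : ℂ) := by
      push_cast
      rw [← h]
      exact Finset.sum_congr rfl fun g _ => (Complex.mul_conj _).symm
    exact_mod_cast h2
  obtain ⟨n, hn⟩ := exists_int_classInner_tilde hM.1 χ χ
  have hSC : (S : ℂ) = ∑ g : G, (if p ∣ orderOf g then 0 else
      (χ : G → ℂ) g * conj ((χ : G → ℂ) g)) := by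
    rw [hS, Finset.sum_filter]
    push_cast
    refine Finset.sum_congr rfl fun g _ => ?_
    by_cases h : p ∣ orderOf g <;> simp [h, Complex.mul_conj]
  have hnS : (n : ℂ) * (Nat.card G : ℂ) = ((p : ℂ) ^ a) * (S : ℂ) := by
    rw [← hn, classInner, hSC, mul_comm, ← mul_assoc,
      mul_inv_cancel₀ (Nat.cast_ne_zero.2 Nat.card_pos.ne'), one_mul, Finset.mul_sum]
    refine Finset.sum_congr rfl fun g _ => ?_
    simp only [CfsgLib.BlockReg.tilde, ← ha]
    push_cast
    split_ifs <;> ring
  have hdvd : (p : ℤ) ^ k ∣ n := by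
    obtain ⟨m, hm⟩ : p ^ k ∣ charDegree (χ : G → ℂ) := hdeg ▸ Nat.ordProj_dvd _ _
    refine pow_dvd_of_eq_mul hM k n (rInner p (χ : G → ℂ) (χ : G → ℂ) * (m : ℂ))
      (memRing_mul hM (rInner_memRing hM χ χ) (memRing_natCast hM m)) ?_
    rw [← hn, classInner_eq_rInner_mul, hm]
    push_cast; ring
  have hSpos : 0 < S := by
    rw [hS]
    refine Finset.sum_pos' (fun g _ => Complex.normSq_nonneg _)
      ⟨1, by simp [hM.1.ne_one], Complex.normSq_pos.2 (IsIrrCharacter.apply_one_ne_zero χ.2)⟩
  have hnR : (n : ℝ) * (Nat.card G : ℝ) = (p : ℝ) ^ a * S := by exact_mod_cast hnS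
  have hcD : (Nat.card D : ℝ) = (p : ℝ) ^ d := by exact_mod_cast hd
  have hG0 : (0 : ℝ) < Nat.card G := by exact_mod_cast Nat.card_pos
  have hp0 : (0 : ℝ) < (p : ℝ) := by exact_mod_cast hM.1.pos
  have hnk : (p : ℝ) ^ k ≤ (n : ℝ) := by
    have hnpos : (0 : ℝ) < n := by
      by_contra hneg
      push Not at hneg
      have h1 : (0 : ℝ) < (p : ℝ) ^ a * S := mul_pos (pow_pos hp0 _) hSpos
      have h2 := mul_nonpos_of_nonpos_of_nonneg hneg hG0.le
      linarith
    exact_mod_cast Int.le_of_dvd (by exact_mod_cast hnpos) hdvd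
  have hle1 : ∑ g ∈ T, Complex.normSq ((χ : G → ℂ) g) ≤ (Nat.card G : ℝ) := by
    rw [← hall]
    exact Finset.sum_le_sum_of_subset_of_nonneg (Finset.subset_univ _)
      fun g _ _ => Complex.normSq_nonneg _
  rw [hTsum] at hle1
  have hge : (Nat.card G : ℝ) ≤ (Nat.card D : ℝ) * S := by
    have h1 : (p : ℝ) ^ k * (Nat.card G : ℝ) ≤ (p : ℝ) ^ k * ((Nat.card D : ℝ) * S) := by
      calc (p : ℝ) ^ k * (Nat.card G : ℝ) ≤ (n : ℝ) * (Nat.card G : ℝ) :=
            mul_le_mul_of_nonneg_right hnk hG0.le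
        _ = (p : ℝ) ^ k * ((Nat.card D : ℝ) * S) := by
            rw [hnR, hcD, ← mul_assoc, ← pow_add, hidx]
    exact le_of_mul_le_mul_left h1 (pow_pos hp0 _)
  refine ⟨fun g hg => ?_, ?_⟩
  · have h1 : ∑ x ∈ Finset.univ \ T, Complex.normSq ((χ : G → ℂ) x) = 0 := by
      rw [Finset.sum_sdiff_eq_sub (Finset.subset_univ _), hall, hTsum]
      linarith
    refine Complex.normSq_eq_zero.1
      ((Finset.sum_eq_zero_iff_of_nonneg fun x _ => Complex.normSq_nonneg _).1 h1 g ?_)
    simp only [hT, Finset.mem_sdiff, Finset.mem_univ, true_and, Finset.mem_image,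
      Finset.mem_product, Finset.mem_filter, and_true]
    rintro ⟨⟨y, z⟩, hy, hyz⟩
    exact hg y z hy z.2 hyz
  · rw [← hSC]
    exact_mod_cast le_antisymm hle1 hge

/-- The block of such a character has `D` as a defect group. -/
theorem isDefectGroup_central [M.IsMaximal] :
    IsDefectGroup p M (blockOf M (χ : G → ℂ)) D := by
  classical
  haveI := Fintype.ofFinite G
  set B := blockOf M (χ : G → ℂ)
  have hB : IsPBlock M B := isPBlock_blockOf χ
  obtain ⟨E, hE⟩ := exists_defectGroup hM hB
  haveI : D.Normal := ⟨fun x hx g => by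
    rw [Subgroup.mem_center_iff.1 (hDZ hx) g, mul_inv_cancel_right]; exact hx⟩
  have hle := le_defectGroup_of_normal hM hB hE hD
  suffices h : Nat.card E ≤ Nat.card D by
    rwa [Subgroup.eq_of_le_of_card_ge hle h]
  set k := D.index.factorization p
  obtain ⟨d, hd⟩ := IsPGroup.iff_card.1 hD
  have hidx : k + d = (Nat.card G).factorization p := by
    rw [← Subgroup.card_mul_index D,
      Nat.factorization_mul Nat.card_pos.ne' Subgroup.index_ne_zero_of_finite, Finsupp.add_apply,
      hd, hM.1.factorization_pow, Finsupp.single_eq_same, add_comm]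
  rw [card_defectGroup hM hB hE, hd, CfsgLib.BlockReg.blockDefect_eq]
  refine Nat.pow_le_pow_right hM.1.pos ?_
  suffices hk : k ≤ minExp p B by omega
  by_contra hlt
  push Not at hlt
  obtain ⟨-, hsum⟩ := central_defect_sums hDZ χ hM hD hdeg
  have hterm : ∀ g : G, ¬ p ∣ orderOf g →
      MemLocalIdeal M ((χ : G → ℂ) g * centralChar (χ : G → ℂ) g⁻¹) := by
    intro g _
    by_cases hw : MemLocalIdeal M (centralChar (χ : G → ℂ) g⁻¹)
    · exact memIdeal_mul_left hM (memRing_char hM χ g) hw
    refine memIdeal_mul_right hM ?_ (memRing_centralChar hM χ _)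
    have hcs := factorization_csize_le hM hB (χ := χ) (mem_blockOf_self χ) hw
    rw [csize_inv] at hcs
    have hlt' : (csize g).factorization p + 1 ≤ k := by omega
    have hval : (χ : G → ℂ) g = centralChar (χ : G → ℂ) g *
        ((charDegree (χ : G → ℂ) : ℂ) / ((p * csize g : ℕ) : ℂ)) * (p : ℂ) := by
      rw [CfsgLib.BlockReg.centralChar_eq, deg_cast]
      have h1 : (χ : G → ℂ) 1 ≠ 0 := IsIrrCharacter.apply_one_ne_zero χ.2
      have h2 : (csize g : ℂ) ≠ 0 := Nat.cast_ne_zero.2 (csize_ne_zero g)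
      have h3 : (p : ℂ) ≠ 0 := Nat.cast_ne_zero.2 hM.1.ne_zero
      push_cast
      field_simp
    rw [hval]
    refine memIdeal_mul_left hM (memRing_mul hM (memRing_centralChar hM χ g)
      (natCast_div_memRing hM (Nat.mul_ne_zero hM.1.ne_zero (csize_ne_zero g)) (Or.inr ?_)))
      ((memIdeal_natCast_iff hM p).2 dvd_rfl)
    rw [Nat.factorization_mul hM.1.ne_zero (csize_ne_zero g), Finsupp.add_apply,
      hM.1.factorization_self, hdeg]
    omega
  refine not_memIdeal_one hM ?_
  have h1 : (1 : ℂ) = ((Nat.card D * charDegree (χ : G → ℂ) : ℕ) : ℂ) / (Nat.card G : ℂ) *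
      ∑ C : ConjClasses G, (if p ∣ orderOf (Quotient.out C) then 0 else
        (χ : G → ℂ) (Quotient.out C) * centralChar (χ : G → ℂ) (Quotient.out C)⁻¹) := by
    have hG : (Nat.card G : ℂ) ≠ 0 := Nat.cast_ne_zero.2 Nat.card_pos.ne'
    conv_lhs => rw [← div_self hG]
    conv_lhs => arg 1; rw [← hsum]
    rw [CfsgLib.Blocks.sum_eq_sum_classes (fun g : G => if p ∣ orderOf g then (0 : ℂ) else
      (χ : G → ℂ) g * conj ((χ : G → ℂ) g))]
    · simp only [nsmul_eq_mul, Finset.mul_sum, Finset.sum_div]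
      refine Finset.sum_congr rfl fun C _ => ?_
      split_ifs
      · simp
      · rw [CfsgLib.BlockReg.centralChar_eq, csize_inv, ← char_inv]
        have h1 : (χ : G → ℂ) 1 ≠ 0 := IsIrrCharacter.apply_one_ne_zero χ.2
        push_cast
        rw [deg_cast, CfsgLib.BlockReg.csize]
        field_simp
    · intro u x
      rw [IsIrrCharacter.isClassFunction χ.2 x u,
        show orderOf (u * x * u⁻¹) = orderOf x from MulEquiv.orderOf_eq (MulAut.conj u) x]
  rw [h1]
  refine memIdeal_mul_left hM (natCast_div_memRing hM Nat.card_pos.ne' (Or.inr ?_))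
    (memIdeal_sum hM _ fun C _ => ?_)
  · rw [Nat.factorization_mul Nat.card_pos.ne' (deg_pos χ).ne', Finsupp.add_apply, hd,
      hM.1.factorization_pow, Finsupp.single_eq_same, hdeg]
    omega
  · split_ifs with h
    · exact memIdeal_zero hM
    · exact hterm _ h

end CfsgLib.Blocks
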