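import Cfsg.Agent.Lib.Blocks.Quotient
import Cfsg.Agent.Lib.Blocks.Defect
import Cfsg.Agent.Lib.Char.Clifford
import Cfsg.Agent.Lib.Char.CentralOver
import Cfsg.Agent.S0914

/-!
# Blocks whose defect group is centralized up to itself by the group
-/

set_option autoImplicit false
set_option maxHeartbeats 1000000
set_option synthInstance.maxHeartbeats 400000

namespace CfsgLib.Blocks

open Cfsg CfsgLib.Char CfsgLib.BlockReg
open scoped ComplexConjugate Classical

universe u

variable {G : Type u} [Group G] [Finite G] {p : ℕ} [Fact p.Prime] {M : Ideal AlgInt}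
  {P : Subgroup G}

omit [Finite G] [Fact p.Prime] in
theorem normal_of_sup_centralizer (hG : P ⊔ Subgroup.centralizer (P : Set G) = ⊤) : P.Normal := by
  rw [← Subgroup.normalizer_eq_top_iff, eq_top_iff, ← hG]
  exact sup_le Subgroup.le_normalizer (Subgroup.centralizer_le_normalizer _)

omit [Finite G] [Fact p.Prime] in
theorem exists_mul_of_sup_centralizer (hG : P ⊔ Subgroup.centralizer (P : Set G) = ⊤) (g : G) :
    ∃ u ∈ P, ∃ c ∈ Subgroup.centralizer (P : Set G), u * c = g := by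
  haveI := normal_of_sup_centralizer hG
  have h : g ∈ P ⊔ Subgroup.centralizer (P : Set G) := hG ▸ Subgroup.mem_top g
  exact Subgroup.mem_sup_of_normal_left.1 h

omit [Fact p.Prime] in
theorem exists_index_centralizer_eq_pow (hp : p.Prime) (hP : IsPGroup p P)
    (hG : P ⊔ Subgroup.centralizer (P : Set G) = ⊤) :
    ∃ k : ℕ, (Subgroup.centralizer (P : Set G)).index = p ^ k := by
  haveI := normal_of_sup_centralizer hG
  haveI : (Subgroup.centralizer (P : Set G)).Normal := Subgroup.normal_centralizer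
  haveI : Fact p.Prime := ⟨hp⟩
  rw [Subgroup.index_eq_card]
  refine IsPGroup.iff_card.1 (hP.of_surjective
    ((QuotientGroup.mk' (Subgroup.centralizer (P : Set G))).comp P.subtype) fun x => ?_)
  obtain ⟨g, rfl⟩ := QuotientGroup.mk_surjective x
  obtain ⟨u, hu, c, hc, rfl⟩ := exists_mul_of_sup_centralizer hG g
  refine ⟨⟨u, hu⟩, ?_⟩
  simp [(QuotientGroup.eq_one_iff c).2 hc]

theorem regular_mem_centralizer (hP : IsPGroup p P)
    (hG : P ⊔ Subgroup.centralizer (P : Set G) = ⊤) {y : G} (hy : ¬ p ∣ orderOf y) :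
    y ∈ Subgroup.centralizer (P : Set G) := by
  haveI := normal_of_sup_centralizer hG
  haveI : (Subgroup.centralizer (P : Set G)).Normal := Subgroup.normal_centralizer
  obtain ⟨k, hk⟩ := exists_index_centralizer_eq_pow Fact.out hP hG
  have h1 : y ^ p ^ k ∈ Subgroup.centralizer (P : Set G) := hk ▸ Subgroup.pow_index_mem _ y
  obtain ⟨m, hm⟩ := exists_pow_eq_self_of_coprime
    (Nat.Coprime.pow_left k ((Fact.out : p.Prime).coprime_iff_not_dvd.2 hy))
  rw [← hm]
  exact pow_mem h1 m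

/-- Restriction to `P` is isotypic. -/
theorem exists_res_eq_smul [Fintype P] (hG : P ⊔ Subgroup.centralizer (P : Set G) = ⊤)
    (φ : IrrCharacter G) (ξ : IrrCharacter P)
    (hc : classInner (fun u : P => (φ : G → ℂ) u) (ξ : P → ℂ) ≠ 0) :
    ∃ e : ℕ, e ≠ 0 ∧ (fun u : P => (φ : G → ℂ) u) = (e : ℂ) • (ξ : P → ℂ) := by
  haveI := normal_of_sup_centralizer hG
  haveI := Fintype.ofFinite G
  obtain ⟨e, he⟩ := CfsgLib.Char.IsCharacter.exists_nat_classInner
    (CfsgLib.Clifford.isCharacter_res (IsIrrCharacter.isCharacter φ.2) P) ξ.2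
  refine ⟨e, fun h => hc (by rw [he, h, Nat.cast_zero]), ?_⟩
  have horb : CfsgLib.Clifford.orbit P (ξ : P → ℂ) = {(ξ : P → ℂ)} := by
    refine Finset.eq_singleton_iff_unique_mem.2 ⟨CfsgLib.Clifford.self_mem_orbit P _, fun ψ hψ => ?_⟩
    obtain ⟨g, rfl⟩ := (CfsgLib.Clifford.mem_orbit P).1 hψ
    obtain ⟨u, hu, c, hcc, rfl⟩ := exists_mul_of_sup_centralizer hG g
    funext n
    have h1 : u * c * (n : G) * (u * c)⁻¹ = u * n * u⁻¹ := by
      rw [mul_assoc u c, ← Subgroup.mem_centralizer_iff.1 hcc n n.2]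
      group
    refine Eq.trans (congrArg (ξ : P → ℂ) (Subtype.ext ?_)) (IsIrrCharacter.isClassFunction ξ.2 n ⟨u, hu⟩)
    simpa using h1
  have h := CfsgLib.Clifford.res_eq P φ.2 ξ.2 hc
  rwa [horb, Finset.sum_singleton, he] at h

/-- Values at products with elements centralizing `P`. -/
theorem apply_mul_of_isotypic [Fintype P] (φ : IrrCharacter G) (ξ : IrrCharacter P) {e : ℕ}
    (hres : (fun u : P => (φ : G → ℂ) u) = (e : ℂ) • (ξ : P → ℂ)) {y : G}
    (hy : y ∈ Subgroup.centralizer (P : Set G)) :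
    (∀ u : P, (φ : G → ℂ) ((u : G) * y) * (ξ : P → ℂ) 1 = (ξ : P → ℂ) u * (φ : G → ℂ) y) ∧
      IsIntegral ℤ ((φ : G → ℂ) y / (ξ : P → ℂ) 1) := by
  set H := Subgroup.centralizer ({y} : Set G) with hH
  haveI := Fintype.ofFinite H
  have hPH : P ≤ H := le_centralizer_singleton_iff.2 hy
  have hyH : y ∈ H := Subgroup.mem_centralizer_singleton_iff.2 rfl
  have hyZ : (⟨y, hyH⟩ : H) ∈ Subgroup.center H := Subgroup.mem_center_iff.2 fun h =>
    Subtype.ext (Subgroup.mem_centralizer_singleton_iff.1 h.2)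
  obtain ⟨m, hm⟩ := IsCharacter.exists_nat_combination
    (CfsgLib.Clifford.isCharacter_res (IsIrrCharacter.isCharacter φ.2) H)
  have hval : ∀ h : H, (φ : G → ℂ) h = ∑ η : IrrCharacter H, (m η : ℂ) * (η : H → ℂ) h := by
    intro h
    have := congrFun hm h
    simpa [Finset.sum_apply] using this
  have hηP : ∀ η : IrrCharacter H, IsCharacter P (fun u : P => (η : H → ℂ) ⟨u, hPH u.2⟩) :=
    fun η => CfsgLib.CharTwist.isCharacter_comp (IsIrrCharacter.isCharacter η.2)
      (Subgroup.inclusion hPH)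
  choose k hk using fun (η : IrrCharacter H) (ζ : IrrCharacter P) =>
    IsCharacter.exists_nat_classInner (hηP η) ζ.2
  have hiso : ∀ η : IrrCharacter H, m η ≠ 0 →
      (fun u : P => (η : H → ℂ) ⟨u, hPH u.2⟩) = (k η ξ : ℂ) • (ξ : P → ℂ) := by
    intro η hη
    have h := IsClassFunction.eq_sum_classInner (CfsgLib.Char.IsCharacter.isClassFunction (hηP η))
    rw [h, Finset.sum_eq_single ξ, hk]
    · intro ζ _ hne
      have h0 : ∑ η' : IrrCharacter H, m η' * k η' ζ = 0 := by
        have e1 : classInner (fun u : P => (φ : G → ℂ) u) (ζ : P → ℂ) = 0 := by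
          rw [hres, classInner_smul_left, classInner_irrCharacter, if_neg hne.symm, mul_zero]
        have e2 : (fun u : P => (φ : G → ℂ) u) =
            ∑ η' : IrrCharacter H, (m η' : ℂ) • (fun u : P => (η' : H → ℂ) ⟨u, hPH u.2⟩) := by
          funext u
          have := hval ⟨u, hPH u.2⟩
          simpa [Finset.sum_apply] using this
        rw [e2, classInner_sum_left] at e1
        simp only [classInner_smul_left, hk] at e1
        exact_mod_cast e1
      rcases mul_eq_zero.1 ((Finset.sum_eq_zero_iff.1 h0) η (Finset.mem_univ _)) with h1 | h1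
      · exact absurd h1 hη
      · rw [hk, h1, Nat.cast_zero, zero_smul]
    · simp
  have hξ1 : (ξ : P → ℂ) 1 ≠ 0 := IsIrrCharacter.apply_one_ne_zero ξ.2
  have hk1 : ∀ η : IrrCharacter H, m η ≠ 0 → (η : H → ℂ) 1 = (k η ξ : ℂ) * (ξ : P → ℂ) 1 := by
    intro η hη
    exact congrFun (hiso η hη) 1
  constructor
  · intro u
    rw [show (u : G) * y = ((⟨u, hPH u.2⟩ * ⟨y, hyH⟩ : H) : G) from rfl, hval,
      show (φ : G → ℂ) y = _ from hval ⟨y, hyH⟩, Finset.sum_mul, Finset.mul_sum]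
    refine Finset.sum_congr rfl fun η _ => ?_
    by_cases hη : m η = 0
    · simp [hη]
    have h1 := CfsgLib.CharOver.apply_mul_central η.2 hyZ ⟨u, hPH u.2⟩
    have h2 : (η : H → ℂ) ⟨u, hPH u.2⟩ = (k η ξ : ℂ) * (ξ : P → ℂ) u := by
      have := congrFun (hiso η hη) u
      simpa using this
    have hk0 : (k η ξ : ℂ) ≠ 0 := fun h0 =>
      IsIrrCharacter.apply_one_ne_zero η.2 (by rw [hk1 η hη, h0, zero_mul])
    rw [h2, hk1 η hη] at h1
    refine mul_left_cancel₀ hk0 ?_
    linear_combination (m η : ℂ) * h1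
  · rw [show (φ : G → ℂ) y = _ from hval ⟨y, hyH⟩, Finset.sum_div]
    refine IsIntegral.sum _ fun η _ => ?_
    by_cases hη : m η = 0
    · simp [hη, isIntegral_zero]
    have htop : Subgroup.centralizer ({⟨y, hyH⟩} : Set H) = ⊤ := by
      rw [eq_top_iff]
      exact fun h _ => Subgroup.mem_centralizer_singleton_iff.2 (Subgroup.mem_center_iff.1 hyZ h)
    have h1 : (m η : ℂ) * (η : H → ℂ) ⟨y, hyH⟩ / (ξ : P → ℂ) 1 =
        ((m η * k η ξ : ℕ) : ℂ) * centralChar (η : H → ℂ) ⟨y, hyH⟩ := by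
      have hk0 : (k η ξ : ℂ) ≠ 0 := fun h0 =>
        IsIrrCharacter.apply_one_ne_zero η.2 (by rw [hk1 η hη, h0, zero_mul])
      rw [centralChar, htop, Subgroup.index_top, hk1 η hη]
      push_cast
      field_simp
    rw [h1]
    exact (isIntegral_natCast _).mul (centralChar_isIntegral η _)

variable [M.IsMaximal] (hM : IsPModular p M) (hP : IsPGroup p P)
  (hG : P ⊔ Subgroup.centralizer (P : Set G) = ⊤) {B : Set (IrrCharacter G)}
  (hB : IsPBlock M B) (hD : IsDefectGroup p M B P)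

include hM hB hD in
omit hP hG in
theorem minExp_eq_index : minExp p B = P.index.factorization p := by
  obtain ⟨θ, hθ⟩ := IsPBlock.nonempty hB
  have h1 : minExp p B ≤ (Nat.card G).factorization p := by
    refine (minExp_le hθ).trans ?_
    obtain ⟨m, hm⟩ := deg_dvd_card θ
    have hm0 : m ≠ 0 := fun h => Nat.card_pos.ne' (by rw [hm, h, mul_zero])
    rw [hm, Nat.factorization_mul (deg_pos θ).ne' hm0, Finsupp.add_apply]
    omega
  have h2 := card_defectGroup hM hB hD
  rw [CfsgLib.BlockReg.blockDefect_eq] at h2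
  have h3 : (Nat.card G).factorization p =
      ((Nat.card G).factorization p - minExp p B) + P.index.factorization p := by
    conv_lhs => rw [← Subgroup.card_mul_index P]
    rw [Nat.factorization_mul Nat.card_pos.ne' Subgroup.index_ne_zero_of_finite, Finsupp.add_apply,
      h2, hM.1.factorization_pow, Finsupp.single_eq_same]
  omega

include hM hP hG hB hD

/-- The inflations in the block: one character, of defect zero in the quotient. -/
theorem infl_defect_zero [P.Normal] (χ : IrrCharacter (G ⧸ P)) (hχ : infl P χ ∈ B) :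
    blockOf M (χ : G ⧸ P → ℂ) = {χ} ∧
      (charDegree (χ : G ⧸ P → ℂ)).factorization p = P.index.factorization p ∧
      ¬ p ∣ Nat.card (G ⧸ P) / charDegree (χ : G ⧸ P → ℂ) := by
  have hdeg : charDegree (infl P χ : G → ℂ) = charDegree (χ : G ⧸ P → ℂ) := by
    simp [charDegree]
  obtain ⟨m, hm⟩ := deg_dvd_card χ
  have hd0 := (deg_pos χ).ne'
  have hm0 : m ≠ 0 := fun h => Nat.card_pos.ne' (by rw [hm, h, mul_zero] : Nat.card (G ⧸ P) = 0)
  have h1 : P.index.factorization p ≤ (charDegree (χ : G ⧸ P → ℂ)).factorization p := by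
    rw [← minExp_eq_index hM hB hD, ← hdeg]; exact minExp_le hχ
  have h2 : P.index.factorization p =
      (charDegree (χ : G ⧸ P → ℂ)).factorization p + m.factorization p := by
    rw [Subgroup.index_eq_card, hm, Nat.factorization_mul hd0 hm0, Finsupp.add_apply]
  have h3 : ¬ p ∣ Nat.card (G ⧸ P) / charDegree (χ : G ⧸ P → ℂ) := by
    rw [hm, Nat.mul_div_cancel_left _ (Nat.pos_of_ne_zero hd0)]
    intro hdvd
    have := (Fact.out : p.Prime).factorization_pos_of_dvd hm0 hdvd
    omega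
  exact ⟨(Cfsg.Agent.S0914.result p M hM χ).1 h3, by omega, h3⟩

theorem eq_of_infl_mem [P.Normal] {χ ψ : IrrCharacter (G ⧸ P)} (hχ : infl P χ ∈ B)
    (hψ : infl P ψ ∈ B) : ψ = χ := by
  obtain ⟨k, hk⟩ := exists_index_centralizer_eq_pow Fact.out hP hG
  have h := sameBlock_of_infl_of_pCentral P hM hP hk (block_congr hM hB hχ hψ)
  have h1 : ψ ∈ blockOf M (χ : G ⧸ P → ℂ) := h
  rwa [(infl_defect_zero hM hP hG hB hD χ hχ).1, Set.mem_singleton_iff] at h1

omit hP hG hD in
theorem sum_regular_eq_zero [Fintype G] {φ ψ : IrrCharacter G} (hφ : φ ∈ B) (hψ : ψ ∉ B) :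
    ∑ g : G, (if p ∣ orderOf g then 0 else (φ : G → ℂ) g * conj ((ψ : G → ℂ) g)) = 0 := by
  have h0 := classInner_tilde_eq_zero hM hB hφ hψ
  rw [classInner, mul_eq_zero, or_iff_right
    (inv_ne_zero (Nat.cast_ne_zero.2 Nat.card_pos.ne'))] at h0
  refine (mul_eq_zero.1 (Eq.trans ?_ h0)).resolve_left
    (Nat.cast_ne_zero.2 (pow_ne_zero ((Nat.card G).factorization p) hM.1.ne_zero) :
      ((p ^ (Nat.card G).factorization p : ℕ) : ℂ) ≠ 0)
  rw [Finset.mul_sum]
  refine Finset.sum_congr rfl fun g _ => ?_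
  simp only [CfsgLib.BlockReg.tilde]
  split_ifs <;> ring

omit hB hD in
theorem regular_lift_unique [P.Normal] {g g' : G} (hg : ¬ p ∣ orderOf g)
    (hg' : ¬ p ∣ orderOf g') (h : (g : G ⧸ P) = g') : g = g' := by
  have hu : g⁻¹ * g' ∈ P := QuotientGroup.eq.1 h
  obtain ⟨j, hj⟩ := hP ⟨_, hu⟩
  have h1 : g⁻¹ * g' = 1 := by
    refine eq_one_of_regular_mul (p := p) (k := j) ?_ hg (congrArg Subtype.val hj)
      (by rwa [mul_inv_cancel_left])
    exact (Subgroup.mem_centralizer_iff.1 (regular_mem_centralizer hP hG hg) _ hu).symm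
  exact inv_mul_eq_one.1 h1

/-- On regular elements every character of the block is a multiple of the inflated one. -/
theorem apply_regular [P.Normal] {χ : IrrCharacter (G ⧸ P)} (hχ : infl P χ ∈ B)
    {φ : IrrCharacter G} (hφ : φ ∈ B) {g : G} (hg : ¬ p ∣ orderOf g) :
    (φ : G → ℂ) g * (χ : G ⧸ P → ℂ) 1 = (φ : G → ℂ) 1 * (infl P χ : G → ℂ) g := by
  haveI := Fintype.ofFinite G
  haveI := Fintype.ofFinite (G ⧸ P)
  let f : G ⧸ P → ℂ := fun x =>
    ∑ y ∈ Finset.univ.filter (fun y : G => ¬ p ∣ orderOf y ∧ (y : G ⧸ P) = x), (φ : G → ℂ) y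
  have hf : ∀ y : G, ¬ p ∣ orderOf y → f y = (φ : G → ℂ) y := by
    intro y hy
    show ∑ z ∈ _, _ = _
    rw [Finset.sum_eq_single y]
    · intro z hz hne
      simp only [Finset.mem_filter, Finset.mem_univ, true_and] at hz
      exact absurd (regular_lift_unique hM hP hG hz.1 hy hz.2) hne
    · intro h; exact absurd (Finset.mem_filter.2 ⟨Finset.mem_univ _, hy, rfl⟩) h
  have hcf : IsClassFunction (G ⧸ P) f := by
    intro x u
    obtain ⟨u, rfl⟩ := QuotientGroup.mk_surjective u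
    refine (Finset.sum_equiv (MulAut.conj u).toEquiv (fun y => ?_) fun y _ => ?_).symm
    · simp only [Finset.mem_filter, Finset.mem_univ, true_and, MulEquiv.toEquiv_eq_coe,
        EquivLike.coe_coe, MulAut.conj_apply, QuotientGroup.mk_mul, QuotientGroup.mk_inv]
      rw [show orderOf (u * y * u⁻¹) = orderOf y from MulEquiv.orderOf_eq (MulAut.conj u) y]
      exact and_congr_right fun _ => ⟨fun h => by rw [h], fun h => by simpa using h⟩
    · exact (IsIrrCharacter.isClassFunction φ.2 y u).symm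
  have hfe := CfsgLib.Char.IsClassFunction.eq_sum_classInner hcf
  rw [Finset.sum_eq_single χ] at hfe
  · set c := classInner f (χ : G ⧸ P → ℂ) with hc
    have e1 : (φ : G → ℂ) 1 = c * (χ : G ⧸ P → ℂ) 1 := by
      rw [← hf 1 (by simp [hM.1.ne_one]), hfe]
      simp
    rw [← hf g hg, hfe, e1]
    simp only [Pi.smul_apply, smul_eq_mul, coe_infl, Function.comp_apply]
    ring
  · intro ψ _ hne
    have hψ : infl P ψ ∉ B := fun h => hne (eq_of_infl_mem hM hP hG hB hD hχ h)
    have h0 : classInner f (ψ : G ⧸ P → ℂ) = 0 := by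
      rw [classInner, mul_eq_zero]
      right
      rw [← sum_regular_eq_zero hM hB hφ hψ,
        ← Finset.sum_fiberwise Finset.univ (fun y : G => (y : G ⧸ P)) (fun y : G =>
          if p ∣ orderOf y then 0 else (φ : G → ℂ) y * conj ((infl P ψ : G → ℂ) y))]
      refine Finset.sum_congr rfl fun x _ => ?_
      rw [Finset.sum_mul, ← Finset.sum_filter_add_sum_filter_not
        (Finset.univ.filter fun y : G => (y : G ⧸ P) = x) (fun y : G => p ∣ orderOf y),
        Finset.sum_eq_zero (fun y hy => if_pos (Finset.mem_filter.1 hy).2), zero_add,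
        Finset.filter_filter]
      refine Finset.sum_congr (Finset.filter_congr fun y _ => And.comm) fun y hy => ?_
      simp only [Finset.mem_filter, Finset.mem_univ, true_and] at hy
      simp [hy.1, hy.2]
    rw [h0, zero_smul]
  · simp

/-- The values of the characters of the block. -/
theorem block_values [P.Normal] [Fintype P] {χ : IrrCharacter (G ⧸ P)} (hχ : infl P χ ∈ B)
    {φ : IrrCharacter G} (hφ : φ ∈ B) (ξ : IrrCharacter P)
    (hc : classInner (fun u : P => (φ : G → ℂ) u) (ξ : P → ℂ) ≠ 0) :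
    (∀ (u : P) (y : G), ¬ p ∣ orderOf y →
      (φ : G → ℂ) ((u : G) * y) = (ξ : P → ℂ) u * (infl P χ : G → ℂ) y) ∧
    ∀ g : G, (∀ (u : P) (y : G), ¬ p ∣ orderOf y → (u : G) * y ≠ g) → (φ : G → ℂ) g = 0 := by
  haveI := Fintype.ofFinite G
  obtain ⟨e, he0, hres⟩ := exists_res_eq_smul hG φ ξ hc
  set θ := infl P χ with hθ
  have hξ1 : (ξ : P → ℂ) 1 ≠ 0 := IsIrrCharacter.apply_one_ne_zero ξ.2
  have hχ1 : (χ : G ⧸ P → ℂ) 1 ≠ 0 := IsIrrCharacter.apply_one_ne_zero χ.2
  have hφ1 : (φ : G → ℂ) 1 = (e : ℂ) * (ξ : P → ℂ) 1 := by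
    have := congrFun hres 1
    simpa using this
  set m : ℂ := (e : ℂ) / (χ : G ⧸ P → ℂ) 1 with hm
  have hyval : ∀ y : G, ¬ p ∣ orderOf y →
      (φ : G → ℂ) y = m * (ξ : P → ℂ) 1 * (θ : G → ℂ) y := by
    intro y hy
    have h := apply_regular hM hP hG hB hD hχ hφ hy
    rw [hφ1] at h
    rw [hm, div_mul_eq_mul_div, div_mul_eq_mul_div, eq_div_iff hχ1]
    linear_combination h
  have huy : ∀ (u : P) (y : G), ¬ p ∣ orderOf y →
      (φ : G → ℂ) ((u : G) * y) = m * ((ξ : P → ℂ) u * (θ : G → ℂ) y) := by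
    intro u y hy
    refine mul_right_cancel₀ hξ1 ?_
    rw [(apply_mul_of_isotypic φ ξ hres (regular_mem_centralizer hP hG hy)).1 u, hyval y hy]
    ring
  have hint : ∀ y : G, ¬ p ∣ orderOf y → IsIntegral ℤ (m * (θ : G → ℂ) y) := by
    intro y hy
    have h := (apply_mul_of_isotypic φ ξ hres (regular_mem_centralizer hP hG hy)).2
    rwa [hyval y hy, mul_right_comm, mul_div_cancel_right₀ _ hξ1] at h
  -- the sum of the squares of the inflated character on regular elements
  set T : Finset G := ((Finset.univ : Finset P) ×ˢ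
    (Finset.univ.filter fun y : G => ¬ p ∣ orderOf y)).image (fun uy => (uy.1 : G) * uy.2) with hT
  have hinj : Set.InjOn (fun uy : P × G => (uy.1 : G) * uy.2)
      ((((Finset.univ : Finset P) ×ˢ (Finset.univ.filter fun y : G => ¬ p ∣ orderOf y)) :
        Finset (P × G)) : Set (P × G)) := by
    rintro ⟨u, y⟩ hy ⟨u', y'⟩ hy' h
    simp only [Finset.coe_product, Set.mem_prod, Finset.coe_filter, Finset.mem_univ, true_and,
      Finset.coe_univ, Set.mem_univ, Set.mem_ofPred_eq] at hy hy'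
    simp only at h
    have h1 : (y : G ⧸ P) = y' := by
      have h2 := congrArg (fun g : G => (g : G ⧸ P)) h
      simpa [(QuotientGroup.eq_one_iff (u : G)).2 u.2,
        (QuotientGroup.eq_one_iff (u' : G)).2 u'.2] using h2
    have h3 : y = y' := regular_lift_unique hM hP hG hy hy' h1
    subst h3
    exact Prod.ext (Subtype.ext (mul_right_cancel h)) rfl
  have hθout : ∀ g, g ∉ T → (θ : G → ℂ) g = 0 := by
    intro g hg
    have hs : p ∣ orderOf (g : G ⧸ P) := by
      by_contra hreg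
      obtain ⟨y, hy, hyg⟩ := exists_regular_lift P hM.1 hreg
      have hu : g * y⁻¹ ∈ P := by
        rw [← QuotientGroup.eq_one_iff, QuotientGroup.mk_mul, QuotientGroup.mk_inv, hyg,
          mul_inv_cancel]
      exact hg (Finset.mem_image.2 ⟨(⟨_, hu⟩, y), by simp [hy], by simp⟩)
    have hb : IsPBlock M ({χ} : Set (IrrCharacter (G ⧸ P))) :=
      ⟨χ, ((infl_defect_zero hM hP hG hB hD χ hχ).1).symm⟩
    have h := blockCoeff_singular hM hb (g : G ⧸ P) hs
    rw [blockCoeff, finsum_mem_singleton, mul_eq_zero,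
      or_iff_right (inv_ne_zero (Nat.cast_ne_zero.2 Nat.card_pos.ne')), mul_eq_zero,
      or_iff_right hχ1, map_eq_zero] at h
    exact h
  set S : ℝ := ∑ y ∈ Finset.univ.filter (fun y : G => ¬ p ∣ orderOf y),
    Complex.normSq ((θ : G → ℂ) y) with hS
  have hnorm : ∀ ψ : IrrCharacter G,
      ∑ g : G, Complex.normSq ((ψ : G → ℂ) g) = (Nat.card G : ℝ) := by
    intro ψ
    have h := classInner_irrCharacter ψ ψ
    rw [if_pos rfl, classInner, inv_mul_eq_iff_eq_mul₀ (Nat.cast_ne_zero.2 Nat.card_pos.ne'),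
      mul_one] at h
    have h2 : ((∑ g : G, Complex.normSq ((ψ : G → ℂ) g) : ℝ) : ℂ) = ((Nat.card G : ℝ) : ℂ) := by
      push_cast
      rw [← h]
      exact Finset.sum_congr rfl fun g _ => (Complex.mul_conj _).symm
    exact_mod_cast h2
  have hξnorm : ∑ u : P, Complex.normSq ((ξ : P → ℂ) u) = (Nat.card P : ℝ) := by
    have h := classInner_irrCharacter ξ ξ
    rw [if_pos rfl, classInner, inv_mul_eq_iff_eq_mul₀ (Nat.cast_ne_zero.2 Nat.card_pos.ne'),
      mul_one] at h
    have h2 : ((∑ u : P, Complex.normSq ((ξ : P → ℂ) u) : ℝ) : ℂ) = ((Nat.card P : ℝ) : ℂ) := by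
      push_cast
      rw [← h]
      exact Finset.sum_congr rfl fun g _ => (Complex.mul_conj _).symm
    exact_mod_cast h2
  have hθT : (Nat.card P : ℝ) * S = Nat.card G := by
    rw [← hnorm θ, ← Finset.sum_subset (Finset.subset_univ T)
      (fun g _ hg => by rw [hθout g hg, map_zero]), hT, Finset.sum_image hinj,
      Finset.sum_product, Finset.sum_congr rfl fun (u : P) _ => Finset.sum_congr rfl fun y _ => by
        rw [show (θ : G → ℂ) ((u : G) * y) = (θ : G → ℂ) y by
          simp [hθ, (QuotientGroup.eq_one_iff (u : G)).2 u.2]],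
      Finset.sum_const, nsmul_eq_mul, Finset.card_univ, Nat.card_eq_fintype_card]
  -- integrality of the multiplicity
  obtain ⟨n, hn⟩ := exists_int_classInner_tilde hM.1 φ θ
  obtain ⟨d, hd⟩ := IsPGroup.iff_card.1 hP
  set k := P.index.factorization p
  have hidx : k + d = (Nat.card G).factorization p := by
    rw [← Subgroup.card_mul_index P,
      Nat.factorization_mul Nat.card_pos.ne' Subgroup.index_ne_zero_of_finite, Finsupp.add_apply,
      hd, hM.1.factorization_pow, Finsupp.single_eq_same, add_comm]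
  have hSC : (S : ℂ) = ∑ y : G, (if p ∣ orderOf y then 0 else
      (θ : G → ℂ) y * conj ((θ : G → ℂ) y)) := by
    rw [hS, Finset.sum_filter]
    push_cast
    refine Finset.sum_congr rfl fun y _ => ?_
    by_cases h : p ∣ orderOf y <;> simp [h, Complex.mul_conj]
  have hG0 : (Nat.card G : ℂ) ≠ 0 := Nat.cast_ne_zero.2 Nat.card_pos.ne'
  have hθTC : (Nat.card P : ℂ) * (S : ℂ) = (Nat.card G : ℂ) := by exact_mod_cast hθT
  have hn' : (n : ℂ) = (p : ℂ) ^ k * (m * (ξ : P → ℂ) 1) := by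
    have hP0 : (Nat.card P : ℂ) ≠ 0 := Nat.cast_ne_zero.2 Nat.card_pos.ne'
    have hpa : ((p ^ (Nat.card G).factorization p : ℕ) : ℂ) = (p : ℂ) ^ k * (Nat.card P : ℂ) := by
      rw [← hidx, hd]; push_cast; rw [pow_add]
    rw [← hn, classInner, Finset.sum_congr rfl (g := fun y : G =>
      ((p : ℂ) ^ k * (Nat.card P : ℂ) * (m * (ξ : P → ℂ) 1)) *
        (if p ∣ orderOf y then 0 else (θ : G → ℂ) y * conj ((θ : G → ℂ) y)))]
    · rw [← Finset.mul_sum, ← hSC, ← hθTC]
      have hS0 : (S : ℂ) ≠ 0 := fun h0 => hG0 (by rw [← hθTC, h0, mul_zero])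
      field_simp
    · intro y _
      simp only [CfsgLib.BlockReg.tilde, hpa]
      split_ifs with h
      · simp
      · rw [hyval y h]; ring
  obtain ⟨j, hj⟩ : ∃ j, charDegree (ξ : P → ℂ) * p ^ k = p ^ j := by
    obtain ⟨i, -, hi⟩ := (Nat.dvd_prime_pow hM.1).1 (hd ▸ deg_dvd_card ξ)
    exact ⟨i + k, by rw [hi, pow_add]⟩
  have hpj : (p : ℂ) ^ j = (ξ : P → ℂ) 1 * (p : ℂ) ^ k := by
    rw [← deg_cast]; exact_mod_cast hj.symm
  have hmq : IsIntegral ℤ (m * ((Nat.card (G ⧸ P) / charDegree (χ : G ⧸ P → ℂ) : ℕ) : ℂ)) := by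
    obtain ⟨q, hq⟩ := deg_dvd_card χ
    rw [hq, Nat.mul_div_cancel_left _ (deg_pos χ)]
    have hq' : (S : ℂ) = (χ : G ⧸ P → ℂ) 1 * (q : ℂ) := by
      have h1 : (Nat.card G : ℂ) = (Nat.card P : ℂ) * (Nat.card (G ⧸ P) : ℂ) := by
        rw [Subgroup.card_eq_card_quotient_mul_card_subgroup P, mul_comm]; push_cast; ring
      rw [h1, hq, Nat.cast_mul, deg_cast] at hθTC
      exact mul_left_cancel₀ (Nat.cast_ne_zero.2 Nat.card_pos.ne') hθTC
    have h2 : m * (q : ℂ) = ∑ C : ConjClasses G, (if p ∣ orderOf (Quotient.out C) then 0 else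
        centralChar (θ : G → ℂ) (Quotient.out C) *
          (m * conj ((θ : G → ℂ) (Quotient.out C)))) := by
      refine mul_right_cancel₀ hχ1 ?_
      rw [mul_assoc, mul_comm (q : ℂ), ← hq', hSC, CfsgLib.Blocks.sum_eq_sum_classes
        (fun y : G => if p ∣ orderOf y then (0 : ℂ) else (θ : G → ℂ) y * conj ((θ : G → ℂ) y))
        (fun u x => by
          rw [IsIrrCharacter.isClassFunction θ.2 x u,
            show orderOf (u * x * u⁻¹) = orderOf x from MulEquiv.orderOf_eq (MulAut.conj u) x]),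
        Finset.mul_sum, Finset.sum_mul]
      refine Finset.sum_congr rfl fun C _ => ?_
      simp only [nsmul_eq_mul]
      split_ifs
      · simp
      · have hθ1 : (θ : G → ℂ) 1 = (χ : G ⧸ P → ℂ) 1 := by simp [hθ]
        rw [Cfsg.centralChar, hθ1]
        field_simp
    rw [h2]
    refine IsIntegral.sum _ fun C _ => ?_
    split_ifs with hC
    · exact isIntegral_zero
    · refine (centralChar_isIntegral θ _).mul ?_
      rw [← char_inv]
      exact hint _ (by rwa [orderOf_inv])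
  obtain ⟨hcop1, -, hcop⟩ := infl_defect_zero hM hP hG hB hD χ hχ
  set q := Nat.card (G ⧸ P) / charDegree (χ : G ⧸ P → ℂ)
  have hp0 : (p : ℂ) ≠ 0 := Nat.cast_ne_zero.2 hM.1.ne_zero
  have hmint : ∃ z : ℤ, m = (z : ℂ) := by
    have hmn : m = (n : ℂ) / (p : ℂ) ^ j := by
      rw [hn', hpj, eq_div_iff (mul_ne_zero hξ1 (pow_ne_zero _ hp0))]; ring
    rw [hmn] at hmq
    obtain ⟨z, hz⟩ := CfsgLib.Char.exists_int_of_isIntegral_ratCast
      (q := (n : ℚ) * (q : ℚ) / (p : ℚ) ^ j) (by push_cast; convert hmq using 1; field_simp)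
    have hp0' : (p : ℚ) ^ j ≠ 0 := pow_ne_zero _ (Nat.cast_ne_zero.2 hM.1.ne_zero)
    have hz' : n * (q : ℤ) = z * (p : ℤ) ^ j := by
      rw [eq_div_iff hp0'] at hz
      exact_mod_cast hz.symm
    have hcoZ : IsCoprime ((p : ℤ) ^ j) (q : ℤ) := by
      refine IsCoprime.pow_left ?_
      exact Nat.isCoprime_iff_coprime.2 (hM.1.coprime_iff_not_dvd.2 hcop)
    obtain ⟨w, rfl⟩ := hcoZ.dvd_of_dvd_mul_right ⟨z, hz'.trans (mul_comm _ _)⟩
    exact ⟨w, by rw [hmn]; push_cast; field_simp⟩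
  obtain ⟨z, hz⟩ := hmint
  have hzpos : 0 < z := by
    have h1 : (e : ℤ) = z * (charDegree (χ : G ⧸ P → ℂ) : ℤ) := by
      have h2 : (e : ℂ) = (z : ℂ) * (χ : G ⧸ P → ℂ) 1 := by
        rw [← hz, hm, div_mul_cancel₀ _ hχ1]
      rw [← deg_cast] at h2
      exact_mod_cast h2
    by_contra hneg
    push Not at hneg
    have h3 : z * (charDegree (χ : G ⧸ P → ℂ) : ℤ) ≤ 0 :=
      mul_nonpos_of_nonpos_of_nonneg hneg (by positivity)
    have h4 : (0 : ℤ) < e := by exact_mod_cast Nat.pos_of_ne_zero he0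
    omega
  have hTφ : ∑ g ∈ T, Complex.normSq ((φ : G → ℂ) g) = (z : ℝ) ^ 2 * Nat.card G := by
    rw [hT, Finset.sum_image hinj, Finset.sum_product, ← hθT, ← hξnorm, hS, Finset.sum_mul,
      Finset.mul_sum]
    refine Finset.sum_congr rfl fun u _ => ?_
    rw [Finset.mul_sum, Finset.mul_sum]
    refine Finset.sum_congr rfl fun y hy => ?_
    rw [huy u y (Finset.mem_filter.1 hy).2, hz, map_mul, map_mul, ← Complex.ofReal_intCast,
      Complex.normSq_ofReal]
    ring
  have hGR : (0 : ℝ) < Nat.card G := by exact_mod_cast Nat.card_pos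
  have hle : (z : ℝ) ^ 2 * Nat.card G ≤ (Nat.card G : ℝ) := by
    rw [← hTφ, ← hnorm φ]
    exact Finset.sum_le_sum_of_subset_of_nonneg (Finset.subset_univ _)
      fun g _ _ => Complex.normSq_nonneg _
  have hz1 : z = 1 := by
    have h1 : (z : ℝ) ^ 2 ≤ 1 := by nlinarith
    have h2 : z ^ 2 ≤ 1 := by exact_mod_cast h1
    nlinarith
  refine ⟨fun u y hy => by rw [huy u y hy, hz, hz1, Int.cast_one, one_mul], fun g hg => ?_⟩
  have h1 : ∑ x ∈ Finset.univ \ T, Complex.normSq ((φ : G → ℂ) x) = 0 := by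
    rw [Finset.sum_sdiff_eq_sub (Finset.subset_univ _), hnorm, hTφ, hz1]
    simp
  refine Complex.normSq_eq_zero.1
    ((Finset.sum_eq_zero_iff_of_nonneg fun x _ => Complex.normSq_nonneg _).1 h1 g ?_)
  simp only [hT, Finset.mem_sdiff, Finset.mem_univ, true_and, Finset.mem_image,
    Finset.mem_product, Finset.mem_filter]
  rintro ⟨⟨u, y⟩, hy, huy'⟩
  exact hg u y hy huy'

/-- Every character of the defect group lies under a character of the block. -/
theorem exists_mem_over [Fintype P] (ξ : IrrCharacter P) :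
    ∃ φ ∈ B, classInner (fun u : P => (φ : G → ℂ) u) (ξ : P → ℂ) ≠ 0 := by
  haveI := Fintype.ofFinite G
  haveI := normal_of_sup_centralizer hG
  obtain ⟨χ, hχ⟩ := exists_infl_mem P hM hP hB
  by_contra hcon
  push Not at hcon
  have h0 : classInner (fun u : P => ∑ φ ∈ B.toFinset,
      (φ : G → ℂ) 1 * (φ : G → ℂ) u) (ξ : P → ℂ) = 0 := by
    rw [show (fun u : P => ∑ φ ∈ B.toFinset, (φ : G → ℂ) 1 * (φ : G → ℂ) u) =
      ∑ φ ∈ B.toFinset, ((φ : G → ℂ) 1) • (fun u : P => (φ : G → ℂ) u) by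
        funext u; simp [Finset.sum_apply], classInner_sum_left]
    refine Finset.sum_eq_zero fun φ hφ => ?_
    rw [classInner_smul_left, hcon φ (Set.mem_toFinset.1 hφ), mul_zero]
  rw [classInner, mul_eq_zero, or_iff_right (inv_ne_zero (Nat.cast_ne_zero.2 Nat.card_pos.ne')),
    Finset.sum_eq_single 1] at h0
  · simp only [OneMemClass.coe_one, mul_eq_zero, map_eq_zero,
      IsIrrCharacter.apply_one_ne_zero ξ.2, or_false] at h0
    have h1 : ∀ φ ∈ B.toFinset, (φ : G → ℂ) 1 * (φ : G → ℂ) 1 =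
        ((charDegree (φ : G → ℂ) ^ 2 : ℕ) : ℂ) := fun φ _ => by
      push_cast; rw [deg_cast]; ring
    rw [Finset.sum_congr rfl h1, ← Nat.cast_sum, Nat.cast_eq_zero,
      Finset.sum_eq_zero_iff] at h0
    exact pow_ne_zero 2 (deg_pos (infl P χ)).ne' (h0 _ (Set.mem_toFinset.2 hχ))
  · intro u _ hu
    have hs : p ∣ orderOf ((u : G)⁻¹) := by
      obtain ⟨i, hi⟩ := IsPGroup.iff_orderOf.1 hP u
      rw [orderOf_inv, Subgroup.orderOf_coe, hi]
      refine dvd_pow_self p fun h => hu ?_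
      rw [← orderOf_eq_one_iff, hi, h, pow_zero]
    have h2 := blockCoeff_singular hM hB _ hs
    rw [blockCoeff, mul_eq_zero,
      or_iff_right (inv_ne_zero (Nat.cast_ne_zero.2 Nat.card_pos.ne')),
      finsum_mem_eq_toFinset_sum] at h2
    rw [show (∑ φ ∈ B.toFinset, (φ : G → ℂ) 1 * (φ : G → ℂ) u) = 0 from
      Eq.trans (Finset.sum_congr rfl fun φ _ => by rw [char_inv, Complex.conj_conj]) h2,
      zero_mul]
  · simp

/-- The number of characters of the block. -/
theorem card_block_centralizing : Nat.card B = Nat.card (ConjClasses P) := by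
  haveI := normal_of_sup_centralizer hG
  haveI := Fintype.ofFinite G
  haveI := Fintype.ofFinite P
  obtain ⟨χ, hχ⟩ := exists_infl_mem P hM hP hB
  have hex : ∀ φ : B, ∃ ξ : IrrCharacter P,
      classInner (fun u : P => ((φ : IrrCharacter G) : G → ℂ) u) (ξ : P → ℂ) ≠ 0 := fun φ => by
    obtain ⟨ξ, hξ, hc⟩ := CfsgLib.Clifford.exists_constituent_res P φ.1.2
    exact ⟨⟨ξ, hξ⟩, hc⟩
  choose F hF using hex
  have hbij : Function.Bijective F := by
    constructor
    · rintro ⟨φ, hφ⟩ ⟨φ', hφ'⟩ h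
      have h1 := block_values hM hP hG hB hD hχ hφ _ (hF ⟨φ, hφ⟩)
      have h2 := block_values hM hP hG hB hD hχ hφ' _ (hF ⟨φ', hφ'⟩)
      rw [← h] at h2
      refine Subtype.ext (Subtype.ext (funext fun g => ?_))
      by_cases hg : ∃ (u : P) (y : G), ¬ p ∣ orderOf y ∧ (u : G) * y = g
      · obtain ⟨u, y, hy, rfl⟩ := hg
        rw [h1.1 u y hy, h2.1 u y hy]
      · push Not at hg
        rw [h1.2 g hg, h2.2 g hg]
    · intro ξ
      obtain ⟨φ, hφ, hc⟩ := exists_mem_over hM hP hG hB hD ξ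
      refine ⟨⟨φ, hφ⟩, ?_⟩
      obtain ⟨e, he, hres⟩ := exists_res_eq_smul hG φ ξ hc
      by_contra hne
      apply hF ⟨φ, hφ⟩
      rw [hres, classInner_smul_left, classInner_irrCharacter, if_neg fun h => hne h.symm, mul_zero]
  rw [Nat.card_congr (Equiv.ofBijective F hbij), CfsgLib.Char.card_irrCharacter]

/-- The canonical character. -/
theorem canonical_character :
    (∃! θ : IrrCharacter G, θ ∈ B ∧ ∀ x ∈ P, (θ : G → ℂ) x = (θ : G → ℂ) 1) ∧
      ∀ θ ∈ B, (∀ x ∈ P, (θ : G → ℂ) x = (θ : G → ℂ) 1) →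
        (charDegree (θ : G → ℂ)).factorization p = P.index.factorization p := by
  haveI := normal_of_sup_centralizer hG
  obtain ⟨χ, hχ⟩ := exists_infl_mem P hM hP hB
  have huniq : ∀ θ ∈ B, (∀ x ∈ P, (θ : G → ℂ) x = (θ : G → ℂ) 1) → θ = infl P χ := by
    intro θ hθ hθP
    obtain ⟨ψ, rfl⟩ := exists_infl_eq P hθP
    rw [eq_of_infl_mem hM hP hG hB hD hχ hθ]
  refine ⟨⟨infl P χ, ⟨hχ, fun x hx => infl_apply_mem P χ hx⟩, fun θ h => huniq θ h.1 h.2⟩,
    fun θ hθ hθP => ?_⟩
  rw [huniq θ hθ hθP, ← (infl_defect_zero hM hP hG hB hD χ hχ).2.1]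
  simp [charDegree]

end CfsgLib.Blocks
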