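import Cfsg.Agent.Lib.Blocks.Pairs.Lift
import Cfsg.Agent.Lib.Blocks.Cover
import Mathlib.RingTheory.Artinian.Ring
import Mathlib.RingTheory.Jacobson.Radical

/-!
# Every character of a covered block lies under the covering block

Elementary proof inside the group algebra: write the idempotent of the covering block times the
covered block idempotent in coset components; if some character `θ` of the covered block were
missed, every component would be a normal element of the block algebra of `N` lying in the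
reduction of the annihilator of `θ`, hence in the radical, and the product would vanish.
-/

set_option autoImplicit false
set_option maxHeartbeats 1000000
set_option synthInstance.maxHeartbeats 400000

namespace CfsgLib.Blocks.CoverAll

open Cfsg CfsgLib.Blocks CfsgLib.Blocks.Pairs CfsgLib.Char
open scoped ComplexConjugate Classical

universe u v

section NormalElement

variable {k : Type v} [Field k] {A : Type u} [Ring A] [Algebra k A] [FiniteDimensional k A]
  (z : A)

theorem pow_normal_left (hl : ∀ x, ∃ y, x * z = z * y) (n : ℕ) :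
    ∀ x, ∃ y, x * z ^ n = z ^ n * y := by
  induction n with
  | zero => exact fun x => ⟨x, by simp⟩
  | succ n ih =>
    intro x
    obtain ⟨y, hy⟩ := ih x
    obtain ⟨y', hy'⟩ := hl y
    exact ⟨y', by rw [pow_succ, ← mul_assoc, hy, mul_assoc, hy', ← mul_assoc]⟩

theorem pow_normal_right (hr : ∀ x, ∃ y, z * x = y * z) (n : ℕ) :
    ∀ x, ∃ y, z ^ n * x = y * z ^ n := by
  induction n with
  | zero => exact fun x => ⟨x, by simp⟩
  | succ n ih =>
    intro x
    obtain ⟨y, hy⟩ := hr x
    obtain ⟨y', hy'⟩ := ih y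
    exact ⟨y', by rw [pow_succ, mul_assoc, hy, ← mul_assoc, hy', mul_assoc]⟩

/-- A power of a normal element generates the ideal of a central idempotent. -/
theorem exists_central_idem (hl : ∀ x, ∃ y, x * z = z * y) (hr : ∀ x, ∃ y, z * x = y * z) :
    ∃ (n : ℕ) (a : A), IsIdempotentElem (z ^ (n + 1) * a) ∧
      z ^ (n + 1) * a ∈ Subalgebra.center k A ∧ z ^ (n + 1) * a * z ^ (n + 1) = z ^ (n + 1) := by
  obtain ⟨n, hn⟩ := IsArtinian.monotone_stabilizes (LinearMap.mulLeft k z).iterateRange
  set w := z ^ (n + 1) with hw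
  have hmem : w ∈ LinearMap.range ((LinearMap.mulLeft k z) ^ (n + 1 + (n + 1))) := by
    have h1 : ((LinearMap.mulLeft k z).iterateRange (n + 1)) =
        (LinearMap.mulLeft k z).iterateRange (n + 1 + (n + 1)) :=
      (hn (n + 1) (by omega)).symm.trans (hn _ (by omega))
    have h2 : w ∈ LinearMap.range ((LinearMap.mulLeft k z) ^ (n + 1)) :=
      ⟨1, by rw [LinearMap.pow_mulLeft]; simp [hw]⟩
    have h3 : LinearMap.range ((LinearMap.mulLeft k z) ^ (n + 1)) =
        LinearMap.range ((LinearMap.mulLeft k z) ^ (n + 1 + (n + 1))) := h1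
    rw [h3] at h2
    exact h2
  obtain ⟨a, ha⟩ := hmem
  rw [LinearMap.pow_mulLeft, LinearMap.mulLeft_apply, pow_add, ← hw, mul_assoc] at ha
  have hwl := pow_normal_left z hl (n + 1)
  have hwr := pow_normal_right z hr (n + 1)
  rw [← hw] at hwl hwr
  obtain ⟨a1, ha1⟩ := hwr a
  obtain ⟨b, hb⟩ := hwr a1
  have hb' : b * w * w = w := by rw [← hb, mul_assoc, ← ha1, ha]
  have e1 : b * w = w * a := by
    conv_lhs => rw [← ha, ← mul_assoc, ← mul_assoc, hb']
  have hfix : ∀ x, w * a * (w * x) = w * x := fun x => by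
    rw [← e1, ← mul_assoc, hb']
  have hfix' : ∀ x, x * w * (w * a) = x * w := fun x => by
    rw [mul_assoc, ha]
  refine ⟨n, a, hfix a, ?_, ?_⟩
  · rw [Subalgebra.mem_center_iff]
    intro x
    obtain ⟨y, hy⟩ := hwl x
    obtain ⟨y', hy'⟩ := hwr (a * x)
    have h1 : w * a * (x * (w * a)) = x * (w * a) := by
      rw [← mul_assoc x, hy, mul_assoc w y a, hfix]
    have h2 : w * a * x * (w * a) = w * a * x := by
      rw [mul_assoc w a x, hy', hfix']
    rw [← h1, ← mul_assoc, h2]
  · have := hfix 1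
    rwa [mul_one] at this

omit [FiniteDimensional k A] in
theorem isNilpotent_mul (hl : ∀ x, ∃ y, x * z = z * y) (hz : IsNilpotent z) (a : A) :
    IsNilpotent (z * a) := by
  obtain ⟨m, hm⟩ := hz
  have h : ∀ j : ℕ, ∃ c, (z * a) ^ j = z ^ j * c := by
    intro j
    induction j with
    | zero => exact ⟨1, by simp⟩
    | succ j ih =>
      obtain ⟨c, hc⟩ := ih
      obtain ⟨y, hy⟩ := pow_normal_left z hl j a
      refine ⟨y * c, ?_⟩
      rw [pow_succ', hc, mul_assoc, ← mul_assoc a, hy, mul_assoc, ← mul_assoc, ← pow_succ']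
  obtain ⟨c, hc⟩ := h m
  exact ⟨m, by rw [hc, hm, zero_mul]⟩

omit [Algebra k A] [FiniteDimensional k A] in
theorem mem_jacobson_of_nil {z : A} (h : ∀ a, IsNilpotent (z * a)) :
    z ∈ (⊥ : Ideal A).jacobson := by
  rw [Ideal.mem_jacobson_iff]
  intro y
  obtain ⟨m, hm⟩ := h y
  have hn : IsNilpotent (y * z) := ⟨m + 1, by
    have e : ∀ j : ℕ, (y * z) ^ (j + 1) = y * (z * y) ^ j * z := by
      intro j
      induction j with
      | zero => simp
      | succ j ih => rw [pow_succ _ (j + 1), ih, pow_succ]; simp only [mul_assoc]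
    rw [e, hm, mul_zero, zero_mul]⟩
  obtain ⟨u, hu⟩ := hn.isUnit_one_add
  refine ⟨(↑u⁻¹ : A), ?_⟩
  have h1 : (↑u⁻¹ : A) * (1 + y * z) = 1 := by rw [← hu, Units.inv_mul]
  rw [Submodule.mem_bot, mul_assoc]
  rw [mul_add, mul_one] at h1
  rw [sub_eq_zero, add_comm]
  exact h1

end NormalElement

variable {G : Type u} [Group G] [Finite G] (N : Subgroup G) [hN : N.Normal]
  {F : Type v} [Field F]

/-- The coset component at `t`. -/
noncomputable def comp (t : G) (w : MonoidAlgebra F G) : MonoidAlgebra F N :=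
  ofFun fun n => w.coeff ((n : G) * t)

omit hN in
@[simp] theorem coeff_comp (t : G) (w : MonoidAlgebra F G) (n : N) :
    (comp N t w).coeff n = w.coeff ((n : G) * t) := rfl

omit hN in
theorem coeff_up_mul [Fintype N] (a : MonoidAlgebra F N) (w : MonoidAlgebra F G) (g : G) :
    (up N a * w).coeff g = ∑ m : N, a.coeff m * w.coeff ((m : G)⁻¹ * g) := by
  haveI := Fintype.ofFinite G
  rw [coeff_mul_group,
    ← Finset.sum_subset
      (Finset.subset_univ ((Finset.univ : Finset N).map ⟨Subtype.val, Subtype.val_injective⟩))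
      (fun x _ hx => ?_), Finset.sum_map]
  · exact Finset.sum_congr rfl fun x _ => by rw [Function.Embedding.coeFn_mk, coeff_up_coe]
  · have hxH : x ∉ N := fun h => hx (Finset.mem_map.mpr ⟨⟨x, h⟩, Finset.mem_univ _, rfl⟩)
    simp [up, hxH]

omit hN in
theorem coeff_mul_up [Fintype N] (a : MonoidAlgebra F N) (w : MonoidAlgebra F G) (g : G) :
    (w * up N a).coeff g = ∑ m : N, w.coeff (g * (m : G)⁻¹) * a.coeff m := by
  haveI := Fintype.ofFinite G
  rw [coeff_mul_group, ← Fintype.sum_equiv ((Equiv.inv G).trans (Equiv.mulLeft g))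
    (fun y => w.coeff (g * y⁻¹) * (up N a).coeff y) _ (fun y => by simp),
    ← Finset.sum_subset
      (Finset.subset_univ ((Finset.univ : Finset N).map ⟨Subtype.val, Subtype.val_injective⟩))
      (fun x _ hx => ?_), Finset.sum_map]
  · exact Finset.sum_congr rfl fun x _ => by rw [Function.Embedding.coeFn_mk, coeff_up_coe]
  · have hxH : x ∉ N := fun h => hx (Finset.mem_map.mpr ⟨⟨x, h⟩, Finset.mem_univ _, rfl⟩)
    simp [up, hxH]

omit hN in
theorem comp_up_mul (t : G) (a : MonoidAlgebra F N) (w : MonoidAlgebra F G) :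
    comp N t (up N a * w) = a * comp N t w := by
  haveI := Fintype.ofFinite N
  ext n
  rw [coeff_comp, coeff_up_mul, coeff_mul_group]
  refine Finset.sum_congr rfl fun m _ => ?_
  rw [coeff_comp, Subgroup.coe_mul, Subgroup.coe_inv, mul_assoc]

/-- Transport of coefficients by conjugation. -/
noncomputable def twist (t : G) (a : MonoidAlgebra F N) : MonoidAlgebra F N :=
  ofFun fun n => a.coeff ((MulAut.conjNormal (H := N) t).symm n)

theorem comp_mul_up (t : G) (a : MonoidAlgebra F N) (w : MonoidAlgebra F G) :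
    comp N t (w * up N a) = comp N t w * twist N t a := by
  haveI := Fintype.ofFinite N
  ext n
  rw [coeff_comp, coeff_mul_up, coeff_mul_group]
  let e : N ≃ N := ((MulAut.conjNormal (H := N) t).toEquiv.trans (Equiv.inv N)).trans
    (Equiv.mulLeft n)
  refine Fintype.sum_equiv e _ _ fun m => ?_
  have he : e m = n * (MulAut.conjNormal (H := N) t m)⁻¹ := rfl
  rw [he, twist, coeff_ofFun, coeff_comp]
  congr 2
  · rw [Subgroup.coe_mul, Subgroup.coe_inv, MulAut.conjNormal_apply]
    group
  · rw [mul_inv_rev, inv_inv, mul_assoc, inv_mul_cancel, mul_one, MulEquiv.symm_apply_apply]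

theorem twist_surjective (t : G) : Function.Surjective (twist N t (F := F)) := fun a =>
  ⟨ofFun fun n => a.coeff (MulAut.conjNormal (H := N) t n), by ext n; simp [twist]⟩

omit hN in
theorem comp_mul_single (t s : G) (w : MonoidAlgebra F G) :
    comp N t (w * MonoidAlgebra.single s 1) = comp N (t * s⁻¹) w := by
  ext n
  rw [coeff_comp, coeff_mul_single_group, coeff_comp, mul_one, mul_assoc]

/-- Decomposition along the cosets of the normal subgroup. -/
theorem decompose [Fintype (G ⧸ N)] (w : MonoidAlgebra F G) :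
    w = ∑ q : G ⧸ N, up N (comp N q.out w) * MonoidAlgebra.single q.out 1 := by
  ext g
  rw [MonoidAlgebra.coeff_sum, Finsupp.finsetSum_apply, Finset.sum_eq_single (g : G ⧸ N)]
  · rw [coeff_mul_single_group, mul_one]
    have hm : g * ((g : G ⧸ N).out)⁻¹ ∈ N := by
      rw [← QuotientGroup.eq_one_iff]
      simp
    rw [show g * ((g : G ⧸ N).out)⁻¹ = ((⟨_, hm⟩ : N) : G) from rfl, coeff_up_coe, coeff_comp]
    simp
  · intro q _ hq
    rw [coeff_mul_single_group, mul_one]
    refine up_suppIn N _ _ fun hm => hq ?_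
    rw [← QuotientGroup.eq_one_iff] at hm
    simp only [QuotientGroup.mk_mul, QuotientGroup.mk_inv, QuotientGroup.out_eq'] at hm
    exact (mul_inv_eq_one.1 hm).symm
  · simp

section Irr

omit hN in
/-- The coefficient at the identity of the product of two idempotents of characters. -/
theorem coeff_one_up_mul [Fintype N] (θ : IrrCharacter N) (B : Set (IrrCharacter G)) :
    (up N (ofFun (blockCoeff {θ})) * ofFun (blockCoeff B)).coeff 1 =
      (Nat.card G : ℂ)⁻¹ * ∑ᶠ χ ∈ B, ((θ : N → ℂ) 1 * (χ : G → ℂ) 1) *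
        classInner (fun n : N => (χ : G → ℂ) n) (θ : N → ℂ) := by
  rw [coeff_up_mul]
  simp only [coeff_ofFun, blockCoeff, finsum_mem_singleton, finsum_mem_eq_toFinset_sum,
    Finset.mul_sum, Cfsg.classInner]
  rw [Finset.sum_comm]
  refine Finset.sum_congr rfl fun χ _ => Finset.sum_congr rfl fun m _ => ?_
  rw [← IsIrrCharacter.apply_inv χ.2, mul_inv_rev, inv_inv, inv_one, one_mul,
    Nat.card_eq_fintype_card (α := N)]
  ring

omit hN in
theorem blockCoeff_conj_eq (B : Set (IrrCharacter G)) (g : G) :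
    conj (blockCoeff B g) = blockCoeff B g⁻¹ := by
  simp only [blockCoeff, finsum_mem_eq_toFinset_sum, map_mul, map_inv₀, Complex.conj_natCast,
    map_sum]
  congr 1
  refine Finset.sum_congr rfl fun χ _ => ?_
  rw [IsIrrCharacter.apply_inv χ.2, ← IsIrrCharacter.apply_inv χ.2 1, inv_one]

omit hN in
/-- The product of two idempotents of characters vanishes with its coefficient at `1`. -/
theorem up_mul_eq_zero (A : Set (IrrCharacter N)) (B : Set (IrrCharacter G))
    (h : (up N (ofFun (blockCoeff A)) * ofFun (blockCoeff B)).coeff 1 = 0) :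
    up N (ofFun (blockCoeff A)) * ofFun (blockCoeff B) = 0 := by
  haveI := Fintype.ofFinite G
  haveI := Fintype.ofFinite N
  set a := up N (ofFun (blockCoeff A)) with ha
  set E : MonoidAlgebra ℂ G := ofFun (blockCoeff B) with hE
  have hcomm : ∀ x : MonoidAlgebra ℂ G, x * E = E * x := fun x =>
    Subalgebra.mem_center_iff.1 (idemC B).2 x
  have haa : a * a = a := by
    rw [ha, ← up_mul]
    exact congrArg (up N) (exact_idem A)
  have hEE : E * E = E := exact_idem B
  set z := a * E with hz
  have hzz : z * z = z := by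
    rw [hz, mul_assoc, ← mul_assoc E a, ← hcomm a, mul_assoc, hEE, ← mul_assoc, haa]
  have hastar : ∀ x : G, conj (a.coeff x) = a.coeff x⁻¹ := by
    intro x
    by_cases hx : x ∈ N
    · simp [ha, up, hx, blockCoeff_conj_eq]
      rfl
    · simp [ha, up, hx]
  have hstar : ∀ g : G, conj (z.coeff g) = z.coeff g⁻¹ := by
    intro g
    rw [hz, coeff_mul_group, map_sum]
    conv_rhs => rw [coeff_mul_group, ← Equiv.sum_comp (Equiv.inv G)]
    refine Finset.sum_congr rfl fun x _ => ?_
    rw [map_mul, hastar, hE, coeff_ofFun, blockCoeff_conj_eq, coeff_ofFun, Equiv.inv_apply,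
      inv_inv, mul_inv_rev, inv_inv,
      ← blockCoeff_conj B x (g⁻¹ * x)]
    simp [mul_assoc]
  have hsum : ∑ x : G, (Complex.normSq (z.coeff x) : ℂ) = 0 := by
    have h' := h
    rw [← hzz, coeff_mul_group] at h'
    rw [← h']
    refine Finset.sum_congr rfl fun x _ => ?_
    rw [mul_one, ← hstar, Complex.mul_conj]
  rw [← Complex.ofReal_sum, Complex.ofReal_eq_zero,
    Finset.sum_eq_zero_iff_of_nonneg fun x _ => Complex.normSq_nonneg _] at hsum
  ext g
  simpa using hsum g (Finset.mem_univ _)

end Irr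

variable {M : Ideal AlgInt} [M.IsMaximal]

omit hN in
theorem loc_comp {E : MonoidAlgebra ℂ G} (hE : Loc M E) (t : G) : Loc M (comp N t E) :=
  fun _ => hE _

omit hN in
theorem rd_comp {E : MonoidAlgebra ℂ G} (hE : Loc M E) (t : G) :
    rd M (comp N t E) = comp N t (rd M E) := by
  ext n
  exact (coeff_rd (loc_comp N hE t) n).trans (coeff_rd hE _).symm

/-- Reduction of the annihilator of an element. -/
def RedAnn (e : MonoidAlgebra ℂ G) (x : MonoidAlgebra (ResField M) G) : Prop :=
  ∃ Y, Loc M Y ∧ rd M Y = x ∧ e * Y = 0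

omit hN in
theorem exists_lift (x : MonoidAlgebra (ResField M) G) : ∃ Y, Loc M Y ∧ rd M Y = x := by
  choose r hr using fun g => red_surjective (M := M) (x.coeff g)
  have hl : Loc M (ofFun fun g => (r g : ℂ)) := fun g => by simp
  refine ⟨ofFun fun g => (r g : ℂ), hl, ?_⟩
  ext g
  rw [coeff_rd hl, ← hr g]
  exact congrArg (red M) (Subtype.ext (by simp))

omit hN in
theorem RedAnn.mul_left {e : MonoidAlgebra ℂ G} (he : ∀ y, y * e = e * y)
    {x : MonoidAlgebra (ResField M) G} (hx : RedAnn e x) (a : MonoidAlgebra (ResField M) G) :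
    RedAnn e (a * x) := by
  obtain ⟨Y, hY, rfl, h0⟩ := hx
  obtain ⟨W, hW, rfl⟩ := exists_lift a
  exact ⟨W * Y, hW.mul hY, rd_mul hW hY, by rw [← mul_assoc, ← he, mul_assoc, h0, mul_zero]⟩

omit hN in
theorem RedAnn.mul_right {e : MonoidAlgebra ℂ G}
    {x : MonoidAlgebra (ResField M) G} (hx : RedAnn e x) (a : MonoidAlgebra (ResField M) G) :
    RedAnn e (x * a) := by
  obtain ⟨Y, hY, rfl, h0⟩ := hx
  obtain ⟨W, hW, rfl⟩ := exists_lift a
  exact ⟨Y * W, hY.mul hW, rd_mul hY hW, by rw [← mul_assoc, h0, zero_mul]⟩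

omit hN in
/-- A block idempotent is not the reduction of an element killed by one of its characters. -/
theorem not_redAnn {b : Set (IrrCharacter G)} (hb : IsPBlock M b) {θ : IrrCharacter G}
    (hθ : θ ∈ b) :
    ¬ RedAnn (ofFun (blockCoeff {θ})) (blockIdem hb : MonoidAlgebra (ResField M) G) := by
  rintro ⟨Y, hY, hYf, h0⟩
  haveI := Fintype.ofFinite G
  set e : MonoidAlgebra ℂ G := ofFun (blockCoeff {θ}) with he
  set Z := exact b - Y with hZdef
  have hef : e * exact b = e := by
    have h : idemC {θ} * idemC b = idemC {θ} := omega_ext fun χ => by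
      rw [map_mul, omega_idemC, omega_idemC]
      by_cases hχ : χ = θ
      · subst hχ; simp [blockInd, hθ]
      · simp [blockInd, hχ]
    exact congrArg Subtype.val h
  have heZ : e * Z = e := by rw [hZdef, mul_sub, hef, h0, sub_zero]
  have hZ : Loc M Z := fun g => by simp [hZdef, sub_mem (loc_exact hb g) (hY g)]
  have hker : ∀ g, (⟨Z.coeff g, hZ g⟩ : locRing M) ∈ RingHom.ker (red M) := fun g => by
    have e1 : (⟨Z.coeff g, hZ g⟩ : locRing M) =
        ⟨(exact b).coeff g, loc_exact hb g⟩ - ⟨Y.coeff g, hY g⟩ :=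
      Subtype.ext (by simp [hZdef])
    have e2 := congrArg (fun x => x.coeff g) hYf
    simp only [coeff_rd hY, coeff_blockIdem] at e2
    rw [RingHom.mem_ker, e1, map_sub, e2, sub_eq_zero]
    rfl
  let S : Submodule (locRing M) ℂ := Submodule.span _ (Set.range fun g => e.coeff g)
  have hS : S ≤ RingHom.ker (red M) • S := by
    rw [Submodule.span_le]
    rintro _ ⟨g, rfl⟩
    have e1 : e.coeff g = ∑ x : G, (⟨Z.coeff (x⁻¹ * g), hZ _⟩ : locRing M) • e.coeff x := by
      conv_lhs => rw [← heZ, coeff_mul_group]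
      exact Finset.sum_congr rfl fun x _ => by rw [mul_comm]; rfl
    simp only [SetLike.mem_coe]
    rw [e1]
    exact sum_mem fun x _ => Submodule.smul_mem_smul (hker _) (Submodule.subset_span ⟨x, rfl⟩)
  have hS0 := Submodule.eq_bot_of_le_smul_of_le_jacobson_bot (RingHom.ker (red M)) S
    (Submodule.fg_span (Set.finite_range _)) hS ker_red_le_jacobson
  have h1 : e.coeff 1 ∈ S := Submodule.subset_span ⟨1, rfl⟩
  rw [hS0, Submodule.mem_bot] at h1
  simp [he, blockCoeff, IsIrrCharacter.apply_one_ne_zero θ.2] at h1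

omit hN in
/-- A normal element of a block algebra inside the reduced annihilator is nilpotent. -/
theorem isNilpotent_of_redAnn {b : Set (IrrCharacter G)} (hb : IsPBlock M b) {θ : IrrCharacter G}
    (hθ : θ ∈ b) {z : MonoidAlgebra (ResField M) G}
    (hl : ∀ x, ∃ y, x * z = z * y) (hr : ∀ x, ∃ y, z * x = y * z)
    (hzI : RedAnn (ofFun (blockCoeff {θ})) z)
    (hzf : (blockIdem hb : MonoidAlgebra (ResField M) G) * z = z) : IsNilpotent z := by
  haveI : FiniteDimensional (ResField M) (MonoidAlgebra (ResField M) G) :=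
    finiteDimensional_monoidAlgebra
  obtain ⟨n, a, hidem, hc, hfix⟩ := exists_central_idem (k := ResField M) z hl hr
  set w := z ^ (n + 1) with hw
  set f := (blockIdem hb : MonoidAlgebra (ResField M) G) with hf
  set ec : Subalgebra.center (ResField M) (MonoidAlgebra (ResField M) G) := ⟨w * a, hc⟩ with hec
  have hwI : RedAnn (ofFun (blockCoeff {θ})) (w * a) := by
    rw [hw, pow_succ', mul_assoc]
    exact hzI.mul_right _
  have hfe : blockIdem hb * ec = ec := Subtype.ext (by
    show f * (w * a) = w * a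
    rw [hw, pow_succ', mul_assoc, ← mul_assoc f, hzf])
  have hii : ec * ec = ec := Subtype.ext hidem
  have hval : ∀ ψ, lam M ψ ec = 0 := by
    by_contra hcon
    push Not at hcon
    obtain ⟨ψ, hψ⟩ := hcon
    have hψb : ψ ∈ b := by
      by_contra hn
      apply hψ
      rw [← hfe, map_mul, lam_blockIdem, blockInd, if_neg hn, zero_mul]
    have hone : lam M ψ ec = 1 :=
      mul_left_cancel₀ hψ (by rw [← map_mul, hii, mul_one])
    have hd : ∀ φ, lam M φ (blockIdem hb - ec) = 0 := fun φ => by
      by_cases hφ : φ ∈ b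
      · rw [map_sub, lam_blockIdem_of_mem hb hφ, IsPBlock.lam_eq hb hφ hψb, hone, sub_self]
      · rw [← hfe, map_sub, map_mul, lam_blockIdem, blockInd, if_neg hφ, zero_mul, sub_self]
    have hdi : IsIdempotentElem (blockIdem hb - ec) := by
      have a1 : f * f = f := congrArg Subtype.val (isIdempotentElem_blockIdem hb).eq
      have a2 : f * (w * a) = w * a := congrArg Subtype.val hfe
      have a3 : w * a * f = w * a := (Subalgebra.mem_center_iff.1 hc f).symm.trans a2
      have a4 : w * a * (w * a) = w * a := hidem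
      refine Subtype.ext ?_
      show (f - w * a) * (f - w * a) = f - w * a
      rw [sub_mul, mul_sub, mul_sub, a1, a2, a3, a4]
      abel
    have h0 := hdi.eq_zero_of_isNilpotent (isNilpotent_of_lam_eq_zero _ hd)
    apply not_redAnn hb hθ
    rw [show (blockIdem hb : MonoidAlgebra (ResField M) G) = w * a from
      congrArg Subtype.val (sub_eq_zero.1 h0)]
    exact hwI
  have h0 := IsIdempotentElem.eq_zero_of_isNilpotent (show IsIdempotentElem ec from hii)
    (isNilpotent_of_lam_eq_zero _ hval)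
  exact ⟨n + 1, by rw [← hw, ← hfix, show w * a = 0 from congrArg Subtype.val h0, zero_mul]⟩

/-- Every member of a covered block lies under a member of the covering block. -/
theorem exists_over [Fintype N] (B : Set (IrrCharacter G)) (hB : IsPBlock M B)
    (b : Set (IrrCharacter N)) (hb : IsPBlock M b)
    (hcov : ∃ χ ∈ B, ∃ θ ∈ b, classInner (fun n : N => (χ : G → ℂ) n) (θ : N → ℂ) ≠ 0)
    {θ : IrrCharacter N} (hθ : θ ∈ b) :
    ∃ χ ∈ B, classInner (fun n : N => (χ : G → ℂ) n) (θ : N → ℂ) ≠ 0 := by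
  by_contra hcon
  push Not at hcon
  haveI := Fintype.ofFinite G
  haveI := Fintype.ofFinite (G ⧸ N)
  haveI : FiniteDimensional (ResField M) (MonoidAlgebra (ResField M) N) :=
    finiteDimensional_monoidAlgebra
  haveI : IsArtinianRing (MonoidAlgebra (ResField M) N) :=
    IsArtinianRing.of_finite (ResField M) _
  set eθ : MonoidAlgebra ℂ N := ofFun (blockCoeff {θ}) with heθ
  have heθc : ∀ y, y * eθ = eθ * y := Subalgebra.mem_center_iff.1 (idemC {θ}).2
  set E : MonoidAlgebra ℂ G := exact B with hE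
  have hann : up N eθ * E = 0 := up_mul_eq_zero N {θ} B (by
    rw [coeff_one_up_mul, finsum_mem_of_eqOn_zero, mul_zero]
    intro χ hχ
    simp [hcon χ hχ])
  set e := rd M E with he
  have hec : ∀ x, x * e = e * x := by
    rw [he, hE, rd_exact hB]
    exact Subalgebra.mem_center_iff.1 (blockIdem hB).2
  set f := (blockIdem hb : MonoidAlgebra (ResField M) N) with hf
  have hfc : ∀ x, x * f = f * x := Subalgebra.mem_center_iff.1 (blockIdem hb).2
  have hff : f * f = f := congrArg Subtype.val (isIdempotentElem_blockIdem hb).eq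
  let z : G → MonoidAlgebra (ResField M) N := fun t => f * comp N t e
  have hzI : ∀ t, RedAnn eθ (z t) := fun t => by
    refine RedAnn.mul_left heθc ⟨comp N t E, loc_comp N (loc_exact hB) t,
      rd_comp N (loc_exact hB) t, ?_⟩ f
    rw [← comp_up_mul, hann]
    ext n; simp
  have hy : ∀ t x, x * comp N t e = comp N t e * twist N t x := fun t x => by
    rw [← comp_up_mul, ← comp_mul_up, hec]
  have hl : ∀ t x, ∃ y, x * z t = z t * y := fun t x =>
    ⟨twist N t x, by simp only [z]; rw [← mul_assoc, hfc, mul_assoc, hy, ← mul_assoc]⟩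
  have hr : ∀ t x, ∃ y, z t * x = y * z t := fun t x => by
    obtain ⟨y, rfl⟩ := twist_surjective N t x
    exact ⟨y, by simp only [z]; rw [← mul_assoc y, hfc, mul_assoc, mul_assoc, hy]⟩
  have hJ : ∀ t, z t ∈ (⊥ : Ideal (MonoidAlgebra (ResField M) N)).jacobson := fun t =>
    mem_jacobson_of_nil fun a => isNilpotent_mul (z t) (hl t)
      (isNilpotent_of_redAnn hb hθ (hl t) (hr t) (hzI t)
        (by simp only [z]; rw [← mul_assoc, hff])) a
  have hee : e * e = e := by
    rw [he, hE, ← rd_mul (loc_exact hB) (loc_exact hB), exact_idem]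
  have hcz : ∀ t, z t = comp N t (up N f * e) := fun t => (comp_up_mul N t f e).symm
  have hrec : ∀ t, z t = ∑ q : G ⧸ N, z q.out * z (t * q.out⁻¹) := by
    intro t
    have h1 : up N f * e = ∑ q : G ⧸ N, up N (z q.out) * (up N f * e) *
        MonoidAlgebra.single q.out 1 := by
      have hd := decompose N (up N f * e)
      conv_lhs => rw [show up N f * e = up N f * e * e by rw [mul_assoc, hee], hd, Finset.sum_mul]
      refine Finset.sum_congr rfl fun q _ => ?_
      rw [← hcz, mul_assoc, hec, ← mul_assoc, ← mul_assoc, ← up_mul]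
      congr 3
      simp only [z]
      rw [mul_assoc, hfc, ← mul_assoc, hff]
    conv_lhs => rw [hcz, h1]
    ext n
    rw [coeff_comp, MonoidAlgebra.coeff_sum, Finsupp.finsetSum_apply, MonoidAlgebra.coeff_sum,
      Finsupp.finsetSum_apply]
    refine Finset.sum_congr rfl fun q _ => ?_
    rw [← coeff_comp N t, comp_mul_single, comp_up_mul, ← hcz]
  set J := (⊥ : Ideal (MonoidAlgebra (ResField M) N)).jacobson with hJdef
  have hpow : ∀ j : ℕ, ∀ t, z t ∈ J ^ j := by
    intro j
    induction j with
    | zero => intro t; rw [Submodule.pow_zero, Ideal.one_eq_top]; trivial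
    | succ j ih =>
      intro t
      rw [hrec t, Submodule.pow_succ]
      exact sum_mem fun q _ => Submodule.smul_mem_smul (ih _) (hJ _)
  obtain ⟨m, hm⟩ : IsNilpotent J := by
    rw [hJdef, Ideal.jacobson_bot]
    exact IsSemiprimaryRing.isNilpotent
  have hz0 : ∀ t, z t = 0 := fun t => by simpa [hm] using hpow m t
  have hfe : up N f * e = 0 := by
    rw [decompose N (up N f * e)]
    refine Finset.sum_eq_zero fun q _ => ?_
    rw [← hcz, hz0, up_zero, zero_mul]
  have hloc : Loc M (up N (exact b) : MonoidAlgebra ℂ G) := fun g => by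
    by_cases hg : g ∈ N
    · simpa [up, hg, Pairs.exact] using blockCoeff_mem hb ⟨g, hg⟩
    · simp [up, hg]
  have hrdF : rd M (up N (exact b) : MonoidAlgebra ℂ G) = up N f := by
    ext g
    rw [coeff_rd hloc]
    by_cases hg : g ∈ N
    · refine Eq.trans ?_ (coeff_up_coe N f ⟨g, hg⟩).symm
      rw [hf, coeff_blockIdem]
      exact congrArg (red M) (Subtype.ext (by simp [up, hg, Pairs.exact]))
    · rw [up_suppIn N f g hg]
      exact (congrArg (red M) (Subtype.ext (by simp [up, hg]) : _ = (0 : locRing M))).trans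
        (map_zero _)
  have hFE : up N (exact b) * E = 0 := by
    have hcE : ∀ x, x * E = E * x := Subalgebra.mem_center_iff.1 (idemC B).2
    refine idem_ext (M := M) (hloc.mul (loc_exact hB)) Loc.zero ?_ (by simp) (by simp) ?_
    · rw [mul_assoc, ← mul_assoc E, ← hcE, mul_assoc, hE, exact_idem, ← mul_assoc, ← up_mul,
        exact_idem]
    · rw [rd_mul hloc (loc_exact hB), hrdF, rd_zero, ← he, hfe]
  obtain ⟨χ, hχ, θ₀, hθ₀, hne⟩ := hcov
  have hθF : (ofFun (blockCoeff {θ₀}) : MonoidAlgebra ℂ N) * exact b =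
      ofFun (blockCoeff {θ₀}) := by
    have h : idemC {θ₀} * idemC b = idemC {θ₀} := omega_ext fun ψ => by
      rw [map_mul, omega_idemC, omega_idemC]
      by_cases hψ : ψ = θ₀
      · subst hψ; simp [blockInd, hθ₀]
      · simp [blockInd, hψ]
    exact congrArg Subtype.val h
  have h1 := coeff_one_up_mul N θ₀ B
  rw [show (ofFun (blockCoeff B) : MonoidAlgebra ℂ G) = E from rfl, ← hθF, up_mul, mul_assoc,
    hFE, mul_zero] at h1
  simp only [MonoidAlgebra.coeff_zero, Finsupp.coe_zero, Pi.zero_apply] at h1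
  have hterm : ∀ ψ : IrrCharacter G, ∃ k : ℕ, ((θ₀ : N → ℂ) 1 * (ψ : G → ℂ) 1) *
      classInner (fun n : N => (ψ : G → ℂ) n) (θ₀ : N → ℂ) = k := by
    intro ψ
    obtain ⟨a, ha⟩ : ∃ a : ℕ, (θ₀ : N → ℂ) 1 = a :=
      ⟨_, (IsCharacter.degree_cast (IsIrrCharacter.isCharacter θ₀.2)).symm⟩
    obtain ⟨c, hc⟩ : ∃ c : ℕ, (ψ : G → ℂ) 1 = c :=
      ⟨_, (IsCharacter.degree_cast (IsIrrCharacter.isCharacter ψ.2)).symm⟩
    obtain ⟨d, hd⟩ := IsCharacter.exists_nat_classInner
      (CfsgLib.Clifford.isCharacter_res (IsIrrCharacter.isCharacter ψ.2) N) θ₀.2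
    exact ⟨a * c * d, by rw [ha, hc, hd]; push_cast; ring⟩
  choose k hk using hterm
  rw [finsum_mem_eq_toFinset_sum, Finset.sum_congr rfl (fun ψ _ => hk ψ)] at h1
  rcases mul_eq_zero.1 h1.symm with h | h
  · simp at h
  · have h2 : ∑ ψ ∈ B.toFinset, k ψ = 0 := by exact_mod_cast h
    have h3 := Finset.sum_eq_zero_iff.1 h2 χ (Set.mem_toFinset.2 hχ)
    have h4 := hk χ
    rw [h3, Nat.cast_zero] at h4
    exact mul_ne_zero (mul_ne_zero (IsIrrCharacter.apply_one_ne_zero θ₀.2)
      (IsIrrCharacter.apply_one_ne_zero χ.2)) hne h4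

end CfsgLib.Blocks.CoverAll
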