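import Cfsg.Agent.Lib.Blocks.Induced
import Cfsg.Agent.Lib.Blocks.HeightZero
import Cfsg.Agent.Lib.Blocks.PPart
import Cfsg.Agent.Lib.Blocks.Section
import Mathlib.RingTheory.Idempotents

/-!
# Central characters at products of defect classes with central elements of the defect group
-/

set_option autoImplicit false
set_option synthInstance.maxHeartbeats 400000
set_option maxHeartbeats 1000000

namespace CfsgLib.Blocks

open Cfsg
open scoped Classical

universe u v

variable {G : Type u} [Group G] [Finite G] {p : ℕ} [Fact p.Prime] {M : Ideal AlgInt} [M.IsMaximal]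

section Transversal

variable {R : Type v} [CommRing R]

/-- The sum of the conjugates of `t` over a transversal of a subgroup centralizing it. -/
noncomputable def transSum (K : Subgroup G) (t : G) : MonoidAlgebra R G :=
  haveI := Fintype.ofFinite (G ⧸ K)
  ∑ q : G ⧸ K, MonoidAlgebra.single (q.out * t * q.out⁻¹) (1 : R)

theorem coeff_transSum (K : Subgroup G) (t z : G) :
    (transSum K t : MonoidAlgebra R G).coeff z =
      (Nat.card {q : G ⧸ K // q.out * t * q.out⁻¹ = z} : R) := by
  haveI := Fintype.ofFinite (G ⧸ K)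
  rw [transSum, MonoidAlgebra.coeff_sum, Finsupp.finsetSum_apply, Nat.card_eq_fintype_card,
    Fintype.card_subtype, Finset.natCast_card_filter]
  refine Finset.sum_congr (by ext; simp) fun q _ => ?_
  rw [MonoidAlgebra.coeff_single, Finsupp.single_apply]

omit [Finite G] in
theorem out_conj_eq_of_mk_eq {K : Subgroup G} {t : G}
    (hK : K ≤ Subgroup.centralizer ({t} : Set G)) (u : G) :
    (u : G ⧸ K).out * t * (u : G ⧸ K).out⁻¹ = u * t * u⁻¹ := by
  obtain ⟨k, hk⟩ := QuotientGroup.mk_out_eq_mul K u
  rw [hk]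
  have := Subgroup.mem_centralizer_singleton_iff.1 (hK k.2)
  calc u * k * t * (u * (k : G))⁻¹ = u * ((k : G) * t) * (k : G)⁻¹ * u⁻¹ := by group
    _ = u * (t * k) * (k : G)⁻¹ * u⁻¹ := by rw [this]
    _ = u * t * u⁻¹ := by group

omit [Finite G] in
theorem card_transversal_fibre {K : Subgroup G} {t z : G}
    (hK : K ≤ Subgroup.centralizer ({t} : Set G)) (h : IsConj t z) :
    Nat.card {q : G ⧸ K // q.out * t * q.out⁻¹ = z} =
      K.relIndex (Subgroup.centralizer ({t} : Set G)) := by
  obtain ⟨u, rfl⟩ := isConj_iff.1 h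
  rw [Subgroup.relIndex, Subgroup.index_eq_card]
  refine (Nat.card_congr (Equiv.ofBijective
    (fun c : Subgroup.centralizer ({t} : Set G) ⧸ K.subgroupOf (Subgroup.centralizer ({t} : Set G)) =>
      Quotient.liftOn' c
        (fun w => (⟨((u * (w : G) : G) : G ⧸ K), by
          rw [out_conj_eq_of_mk_eq hK]
          have := Subgroup.mem_centralizer_singleton_iff.1 w.2
          calc u * w * t * (u * (w : G))⁻¹ = u * ((w : G) * t) * (w : G)⁻¹ * u⁻¹ := by group
            _ = u * (t * w) * (w : G)⁻¹ * u⁻¹ := by rw [this]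
            _ = u * t * u⁻¹ := by group⟩ : {q : G ⧸ K // q.out * t * q.out⁻¹ = u * t * u⁻¹}))
        (fun a b hab => by
          apply Subtype.ext
          apply QuotientGroup.eq.2
          have := QuotientGroup.leftRel_apply.1 hab
          simpa [mul_assoc, Subgroup.mem_subgroupOf] using this)) ⟨?_, ?_⟩)).symm
  · rintro ⟨a⟩ ⟨b⟩ hab
    refine Quotient.sound' (QuotientGroup.leftRel_apply.2 ?_)
    have := QuotientGroup.eq.1 (congrArg Subtype.val hab)
    simpa [mul_assoc, Subgroup.mem_subgroupOf] using this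
  · rintro ⟨q, hq⟩
    have hmem : u⁻¹ * q.out ∈ Subgroup.centralizer ({t} : Set G) := by
      rw [Subgroup.mem_centralizer_singleton_iff]
      calc u⁻¹ * q.out * t = u⁻¹ * (q.out * t * q.out⁻¹) * q.out := by group
        _ = t * (u⁻¹ * q.out) := by rw [hq]; group
    exact ⟨QuotientGroup.mk (⟨_, hmem⟩ : Subgroup.centralizer ({t} : Set G)),
      Subtype.ext (by simp [← mul_assoc])⟩

theorem transSum_eq_smul_classSum {K : Subgroup G} {t : G}
    (hK : K ≤ Subgroup.centralizer ({t} : Set G)) :
    (transSum K t : MonoidAlgebra R G) =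
      (K.relIndex (Subgroup.centralizer ({t} : Set G)) : R) • classSum R t := by
  ext z
  rw [coeff_transSum, MonoidAlgebra.coeff_smul_apply, coeff_classSum, smul_eq_mul]
  by_cases h : IsConj t z
  · rw [if_pos h, mul_one, card_transversal_fibre hK h]
  · rw [if_neg h, mul_zero]
    haveI : IsEmpty {q : G ⧸ K // q.out * t * q.out⁻¹ = z} :=
      ⟨fun q => h (isConj_iff.2 ⟨q.1.out, q.2⟩)⟩
    rw [Nat.card_of_isEmpty, Nat.cast_zero]

theorem cosetSum_transSum_congr (Q : Subgroup G) [hQn : Q.Normal] (K : Subgroup G) {s t : G}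
    (hst : s⁻¹ * t ∈ Q) (g : G) :
    cosetSum Q (transSum K s : MonoidAlgebra R G) g = cosetSum Q (transSum K t) g := by
  haveI := Fintype.ofFinite (G ⧸ K)
  haveI := Fintype.ofFinite Q
  have key : ∀ (r : G), cosetSum Q (transSum K r : MonoidAlgebra R G) g =
      ∑ q : G ⧸ K, if g⁻¹ * (q.out * r * q.out⁻¹) ∈ Q then (1 : R) else 0 := by
    intro r
    unfold cosetSum
    simp only [transSum, MonoidAlgebra.coeff_sum, Finsupp.finsetSum_apply]
    rw [Finset.sum_comm]
    refine Finset.sum_congr (by ext; simp) fun q _ => ?_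
    simp only [MonoidAlgebra.coeff_single, Finsupp.single_apply]
    by_cases h : g⁻¹ * (q.out * r * q.out⁻¹) ∈ Q
    · rw [if_pos h, Finset.sum_eq_single ⟨_, h⟩]
      · simp
      · intro b _ hb
        rw [if_neg]
        intro hh
        exact hb (Subtype.ext (by simp [hh]))
      · simp
    · rw [if_neg h]
      refine Finset.sum_eq_zero fun b _ => ?_
      rw [if_neg]
      intro hh
      exact h (by rw [hh]; simp)
  rw [key, key]
  refine Finset.sum_congr rfl fun q _ => ?_
  have h1 : q.out * (s⁻¹ * t) * q.out⁻¹ ∈ Q := hQn.conj_mem _ hst _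
  refine if_congr ⟨fun h => ?_, fun h => ?_⟩ rfl rfl
  · have := mul_mem h h1
    simpa [mul_assoc] using this
  · have := mul_mem h (inv_mem h1)
    simpa [mul_assoc] using this

end Transversal

/-- Multiplying a class with defect group `P` by a central element of `P` keeps the defect group. -/
theorem isCentSylow_mul {y : G} (hy : ¬ p ∣ orderOf y) {P : Subgroup G} (hP : IsCentSylow p y P)
    {x : G} (hx : x ∈ P) (hxc : ∀ w ∈ P, x * w = w * x) :
    IsCentSylow p (x * y) P ∧
      Subgroup.centralizer ({x * y} : Set G) ≤ Subgroup.centralizer ({y} : Set G) ∧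
      ∃ k, orderOf x = p ^ k ∧ Commute x y := by
  have hcomm : Commute x y := Subgroup.mem_centralizer_singleton_iff.1 (hP.le hx)
  obtain ⟨k, hk⟩ : ∃ k, orderOf x = p ^ k := by
    obtain ⟨l, hl⟩ := hP.isPGroup ⟨x, hx⟩
    obtain ⟨k, -, hk⟩ := (Nat.dvd_prime_pow Fact.out).1 (orderOf_dvd_of_pow_eq_one hl)
    exact ⟨k, (Subgroup.orderOf_coe (⟨x, hx⟩ : P)).trans hk⟩
  have hle : Subgroup.centralizer ({x * y} : Set G) ≤ Subgroup.centralizer ({y} : Set G) := by
    intro c hc
    rw [Subgroup.mem_centralizer_singleton_iff] at hc ⊢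
    have h1 := isPPart_of_commute hcomm hk hy
    have h2 := IsPPart.conj h1 c
    rw [show c * (x * y) * c⁻¹ = x * y by rw [hc, mul_inv_cancel_right]] at h2
    have hx' : x = c * x * c⁻¹ := IsPPart.unique Fact.out h1 h2
    have hcx : c * x = x * c := by
      conv_rhs => rw [hx']
      group
    calc c * y = x⁻¹ * (c * x) * y := by rw [hcx]; group
      _ = x⁻¹ * (c * (x * y)) := by group
      _ = x⁻¹ * (x * y * c) := by rw [hc]
      _ = y * c := by group
  have hPle : P ≤ Subgroup.centralizer ({x * y} : Set G) := by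
    intro w hw
    rw [Subgroup.mem_centralizer_singleton_iff]
    have h1 := Subgroup.mem_centralizer_singleton_iff.1 (hP.le hw)
    rw [← mul_assoc, ← hxc w hw, mul_assoc, h1, ← mul_assoc]
  refine ⟨isCentSylow_of_card hPle (le_antisymm ?_ ?_), hle, k, hk, hcomm⟩
  · obtain ⟨E, hE, hPE⟩ := exists_centSylow_ge hP.isPGroup hPle
    rw [← hE.card]
    exact Subgroup.card_le_of_le hPE
  · rw [hP.card]
    exact Nat.pow_le_pow_right (Fact.out : p.Prime).pos
      ((Nat.factorization_le_iff_dvd Nat.card_pos.ne' Nat.card_pos.ne').2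
        (Subgroup.card_dvd_of_le hle) p)

/-- For a block with normal defect group, a class with defect class as regular part. -/
theorem lam_mul_ne_zero_of_normal (hM : IsPModular p M) {B : Set (IrrCharacter G)}
    (hB : IsPBlock M B) {y : G} (hy : IsDefectClass M B y) {P : Subgroup G} [P.Normal]
    (hP : IsCentSylow p y P) {x : G} (hx : x ∈ P) (hxc : ∀ w ∈ P, x * w = w * x)
    {χ : IrrCharacter G} (hχ : χ ∈ B) :
    lam M χ (classSumC (ResField M) (x * y)) ≠ 0 := by
  haveI : CharP (ResField M) p := charP_resField hM.1 hM.2.2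
  obtain ⟨hS, hle, -, -, hcomm⟩ := isCentSylow_mul (IsDefectClass.regular hM hB hy) hP hx hxc
  set K := Subgroup.centralizer ({x * y} : Set G)
  set c := K.relIndex (Subgroup.centralizer ({y} : Set G))
  have hc : ¬ p ∣ c := by
    intro hdvd
    have h1 : Nat.card K * c = Nat.card (Subgroup.centralizer ({y} : Set G)) := by
      rw [← Nat.card_congr (Subgroup.subgroupOfEquivOfLe hle).toEquiv]
      exact Subgroup.card_mul_index _
    have hc0 : c ≠ 0 := fun h0 => by rw [h0, mul_zero] at h1; exact Nat.card_pos.ne h1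
    have h2 := congrArg (fun n => n.factorization p) h1
    simp only [Nat.factorization_mul Nat.card_pos.ne' hc0, Finsupp.add_apply] at h2
    have h3 : (Nat.card K).factorization p =
        (Nat.card (Subgroup.centralizer ({y} : Set G))).factorization p :=
      Nat.pow_right_injective (Fact.out : p.Prime).two_le (hS.card.symm.trans hP.card)
    have h4 := (Fact.out : p.Prime).factorization_pos_of_dvd hc0 hdvd
    omega
  set d : Subalgebra.center (ResField M) (MonoidAlgebra (ResField M) G) :=
    classSumC (ResField M) (x * y) - (c : ResField M) • classSumC (ResField M) y with hd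
  have hdco : (d : MonoidAlgebra (ResField M) G) = transSum K (x * y) - transSum K y := by
    rw [transSum_eq_smul_classSum (le_refl K), transSum_eq_smul_classSum hle, Subgroup.relIndex_self,
      Nat.cast_one, one_smul]
    ext z
    simp [hd, c]
  obtain ⟨n, hn⟩ := isNilpotent_of_cosetSum (p := p) hP.isPGroup d.2 (fun g => by
    haveI := Fintype.ofFinite P
    have h1 := cosetSum_transSum_congr (R := ResField M) P K (s := y) (t := x * y)
      (by rw [hcomm.eq, inv_mul_cancel_left]; exact hx) g
    have hs : cosetSum P (d : MonoidAlgebra (ResField M) G) g =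
        cosetSum P (transSum K (x * y) : MonoidAlgebra (ResField M) G) g -
          cosetSum P (transSum K y) g := by
      rw [hdco]
      unfold cosetSum
      rw [← Finset.sum_sub_distrib]
      exact Finset.sum_congr rfl fun q _ => by simp
    rw [hs, ← h1, sub_self])
  have h0 : lam M χ d = 0 := by
    refine eq_zero_of_pow_eq_zero (n := n) ?_
    rw [← map_pow, show d ^ n = 0 from Subtype.ext (by simpa using hn), map_zero]
  rw [hd, map_sub, map_smul, sub_eq_zero] at h0
  rw [h0, smul_eq_mul]
  refine mul_ne_zero (fun h => hc ((CharP.cast_eq_zero_iff (ResField M) p c).1 h)) ?_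
  rw [Ne, lam_classSumC_eq_zero_iff]
  exact hy.2.2 χ hχ

/-- The Brauer map sends the idempotent of a block to that of its Brauer correspondent. -/
theorem brCenter_blockIdem_eq (hM : IsPModular p M) {B : Set (IrrCharacter G)} (hB : IsPBlock M B)
    {P : Subgroup G} (hBP : IsDefectGroup p M B P)
    {b : Set (IrrCharacter (Subgroup.normalizer (P : Set G)))}
    (hbP : IsDefectGroup p M b (P.subgroupOf (Subgroup.normalizer (P : Set G))))
    (hind : IsInducedBlock M (Subgroup.normalizer (P : Set G)) b B) :
    brCenter P (Subgroup.normalizer (P : Set G)) le_rfl (blockIdem hB) = blockIdem hind.1 := by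
  have hP := isPGroup_defectGroup hBP
  have hPN : P ≤ Subgroup.normalizer (P : Set G) := Subgroup.le_normalizer
  obtain ⟨χ, hχ⟩ := IsPBlock.nonempty hB
  have he : IsIdempotentElem (brHom hM hP (Subgroup.centralizer_le_normalizer _) le_rfl
      (blockIdem hB)) := (isIdempotentElem_blockIdem hB).map _
  rw [brHom_apply] at he
  have hlam : ∀ η, lam M η (brCenter P (Subgroup.normalizer (P : Set G)) le_rfl (blockIdem hB)) =
      lam M η (blockIdem hind.1) := by
    intro η
    obtain ⟨B'', hind''⟩ := exists_isInducedBlock hM hP hPN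
      (Subgroup.centralizer_le_normalizer _) le_rfl (isPBlock_blockOf (M := M) η)
    obtain ⟨χ'', hχ''⟩ := IsPBlock.nonempty hind''.2.1
    rw [lam_brCenter_eq hM hP hPN le_rfl hind'' (mem_blockOf_self η) hχ'',
      lam_blockIdem, lam_blockIdem]
    unfold blockInd
    refine if_congr ⟨fun hmem => ?_, fun hmem => ?_⟩ rfl rfl
    · have hind3 : IsInducedBlock M _ (blockOf M (η : Subgroup.normalizer (P : Set G) → ℂ)) B := by
        rwa [← IsPBlock.eq_of_mem hind''.2.1 hB hχ'' hmem]
      rw [← firstMain_unique hM hP (isDefectGroup_of_induced hM hP hind3 hBP) hbP hind3 hind]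
      exact mem_blockOf_self η
    · have hbe := IsPBlock.eq_blockOf hind.1 hmem
      rw [← hbe] at hind''
      exact IsInducedBlock.unique hind'' hind ▸ hχ''
  refine eq_of_isNilpotent_sub_of_isIdempotentElem he (isIdempotentElem_blockIdem hind.1) ?_
  exact isNilpotent_of_lam_eq_zero _ fun η => (map_sub _ _ _).trans (sub_eq_zero.2 (hlam η))

/-- The Brauer image of a class sum with that defect group, in the centres. -/
theorem brCenter_classSumC_eq {D : Subgroup G} (h : Subgroup.normalizer (D : Set G))
    (hh : IsCentSylow p (h : G) D) :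
    brCenter D (Subgroup.normalizer (D : Set G)) le_rfl (classSumC (ResField M) (h : G))
      = classSumC (ResField M) h :=
  Subtype.ext (brTo_classSum_eq h hh)

/-- A defect class is a defect class of the Brauer correspondent. -/
theorem isDefectClass_correspondent (hM : IsPModular p M) {B : Set (IrrCharacter G)}
    (hB : IsPBlock M B) {P : Subgroup G} (hBP : IsDefectGroup p M B P)
    {b : Set (IrrCharacter (Subgroup.normalizer (P : Set G)))}
    (hbP : IsDefectGroup p M b (P.subgroupOf (Subgroup.normalizer (P : Set G))))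
    (hind : IsInducedBlock M (Subgroup.normalizer (P : Set G)) b B)
    (y : Subgroup.normalizer (P : Set G)) (hy : IsDefectClass M B (y : G))
    (hyP : IsCentSylow p (y : G) P) : IsDefectClass M b y := by
  have hP := isPGroup_defectGroup hBP
  have hPN : P ≤ Subgroup.normalizer (P : Set G) := Subgroup.le_normalizer
  obtain ⟨χ, hχ⟩ := IsPBlock.nonempty hB
  refine ⟨memLocalRing_blockCoeff hind.1 _, ?_, fun η hη => ?_⟩
  · rw [← coeff_blockIdem_eq_zero_iff hind.1, ← brCenter_blockIdem_eq hM hB hBP hbP hind,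
      coe_brCenter, coeff_brTo, if_pos hyP.mem_centralizer, coeff_blockIdem_eq_zero_iff hB]
    exact hy.2.1
  · rw [← lam_classSumC_eq_zero_iff,
      show classSumC (ResField M) y = brCenter P _ le_rfl (classSumC (ResField M) (y : G)) from
        Subtype.ext (brTo_classSum_eq y hyP).symm,
      lam_brCenter_eq hM hP hPN le_rfl hind hη hχ, lam_classSumC_eq_zero_iff]
    exact hy.2.2 χ hχ

/-- The central character at `x * y`, for `y` in a defect class and `x` central in its defect
group. -/
theorem not_memLocalIdeal_centralChar_mul (hM : IsPModular p M) {B : Set (IrrCharacter G)}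
    (hB : IsPBlock M B) {y : G} (hy : IsDefectClass M B y) {P : Subgroup G}
    (hP : IsCentSylow p y P) {x : G} (hx : x ∈ P) (hxc : ∀ w ∈ P, x * w = w * x)
    {χ : IrrCharacter G} (hχ : χ ∈ B) :
    ¬ MemLocalIdeal M (centralChar (χ : G → ℂ) (x * y)) := by
  have hBP : IsDefectGroup p M B P := ⟨y, hy, hP⟩
  obtain ⟨b, hbP, hind⟩ := firstMain_exists_correspondent hM hB hBP
  obtain ⟨ξ, hξ⟩ := IsPBlock.nonempty hind.1
  have hPN : P ≤ Subgroup.normalizer (P : Set G) := Subgroup.le_normalizer
  haveI : (P.subgroupOf (Subgroup.normalizer (P : Set G))).Normal :=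
    (Subgroup.normal_subgroupOf_iff hPN).2
      fun a b ha hb => (Subgroup.mem_normalizer_iff.1 hb a).1 ha
  obtain ⟨hS, -, -⟩ := isCentSylow_mul (IsDefectClass.regular hM hB hy) hP hx hxc
  have hyN : y ∈ Subgroup.normalizer (P : Set G) :=
    Subgroup.centralizer_le_normalizer _ hP.mem_centralizer
  let x' : Subgroup.normalizer (P : Set G) := ⟨x, hPN hx⟩
  let y' : Subgroup.normalizer (P : Set G) := ⟨y, hyN⟩
  have hco : ((x' * y' : Subgroup.normalizer (P : Set G)) : G) = x * y := Subgroup.coe_mul _ _ _
  have hS' : IsCentSylow p ((x' * y' : Subgroup.normalizer (P : Set G)) : G) P := by rw [hco]; exact hS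
  have hyd : IsDefectClass M b y' := isDefectClass_correspondent hM hB hBP hbP hind y' hy hP
  have hyP : IsCentSylow p y' (P.subgroupOf (Subgroup.normalizer (P : Set G))) :=
    (isCentSylow_normalizer_iff hP.isPGroup y').2 hP
  have hxc' : ∀ w ∈ P.subgroupOf (Subgroup.normalizer (P : Set G)), x' * w = w * x' :=
    fun w hw => Subtype.ext (hxc (w : G) hw)
  have hx' : x' ∈ P.subgroupOf (Subgroup.normalizer (P : Set G)) := hx
  have hloc := lam_mul_ne_zero_of_normal hM hind.1 hyd hyP hx' hxc' hξ
  rw [← brCenter_classSumC_eq (x' * y') hS', hco,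
    lam_brCenter_eq hM hP.isPGroup hPN le_rfl hind hξ hχ] at hloc
  exact fun h => hloc ((lam_classSumC_eq_zero_iff χ (x * y)).2 h)

/-- Where a central character is nonzero modulo `M`, some conjugate centralizes the defect group
and has its `p`-part in it. -/
theorem exists_isConj_ppart_mem (hM : IsPModular p M) {B : Set (IrrCharacter G)}
    (hB : IsPBlock M B) {P : Subgroup G} (hP : IsDefectGroup p M B P) {χ : IrrCharacter G}
    (hχ : χ ∈ B) {g : G} (hg : ¬ MemLocalIdeal M (centralChar (χ : G → ℂ) g)) :
    ∃ x, IsConj g x ∧ x ∈ Subgroup.centralizer (P : Set G) ∧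
      ∀ z, IsPPart p x z → z ∈ P ∧ ∀ w ∈ P, z * w = w * z := by
  obtain ⟨b, hbP, hind⟩ := firstMain_exists_correspondent hM hB hP
  obtain ⟨ξ, hξ⟩ := IsPBlock.nonempty hind.1
  have hPp := isPGroup_defectGroup hP
  have hPN : P ≤ Subgroup.normalizer (P : Set G) := Subgroup.le_normalizer
  rw [← lam_classSumC_eq_zero_iff, ← lam_brCenter_eq hM hPp hPN le_rfl hind hξ hχ,
    lam_apply, classEval] at hg
  obtain ⟨C, -, hC⟩ := Finset.exists_ne_zero_of_sum_ne_zero hg
  obtain ⟨hC1, hC2⟩ := mul_ne_zero_iff.1 hC
  rw [coe_brCenter, coe_classSumC, coeff_brTo_classSum, ne_eq, ite_eq_right_iff,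
    not_forall] at hC1
  obtain ⟨⟨hconj, hcent⟩, -⟩ := hC1
  set w := Quotient.out C
  refine ⟨(w : G), hconj, hcent, fun z hz => ⟨?_, fun u hu => ?_⟩⟩
  · by_contra hzP
    apply hC2
    rw [red_eq_zero, coe_centralR]
    obtain ⟨l, hl⟩ : ∃ l : ℕ, z = (w : G) ^ l := by
      obtain ⟨i, hi⟩ := (isOfFinOrder_of_finite (w : G)).mem_powers_iff_mem_zpowers.2
        (IsPPart.mem_zpowers Fact.out hz)
      exact ⟨i, hi.symm⟩
    have hz' : IsPPart p w (w ^ l) := by
      obtain ⟨yy, hyy, hcom, ⟨k, hk⟩, hreg⟩ := hz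
      refine ⟨(w ^ l)⁻¹ * w, mul_inv_cancel_left _ _, ?_, ⟨k, ?_⟩, ?_⟩
      · exact ((Commute.refl _).inv_right).mul_right (Commute.pow_self w l)
      · rw [← hk, hl, ← Subgroup.orderOf_coe (w ^ l)]; rfl
      · rw [← Subgroup.orderOf_coe ((w ^ l)⁻¹ * w)]
        simp only [Subgroup.coe_mul, InvMemClass.coe_inv, SubgroupClass.coe_pow, ← hl]
        rwa [show z⁻¹ * (w : G) = yy by rw [← hyy, inv_mul_cancel_left]]
    obtain ⟨h, hh, hhP⟩ := (isDefectGroup_iff _).1 hbP
    have hvan := char_eq_zero_of_forall_not_commute hM.1 hM.2.2 hind.1 hξ hh hz' ?_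
    · rw [centralChar, hvan, mul_zero, zero_div]
      exact CfsgLib.BlockReg.memIdeal_zero hM
    · intro h' hh' hcom
      obtain ⟨n, rfl⟩ := isConj_iff.1 hh'
      haveI : (P.subgroupOf (Subgroup.normalizer (P : Set G))).Normal :=
        (Subgroup.normal_subgroupOf_iff hPN).2
          fun a b ha hb => (Subgroup.mem_normalizer_iff.1 hb a).1 ha
      have hS := hhP.conj n
      rw [show (P.subgroupOf (Subgroup.normalizer (P : Set G))).map (MulAut.conj n).toMonoidHom =
        P.subgroupOf (Subgroup.normalizer (P : Set G)) from Subgroup.Normal.map_conj_eq (H := P.subgroupOf (Subgroup.normalizer (P : Set G))) n] at hS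
      obtain ⟨-, -, -, ⟨k, hk⟩, -⟩ := hz'
      have hle : Subgroup.zpowers (w ^ l) ≤ Subgroup.centralizer ({n * h * n⁻¹} : Set _) := by
        rw [Subgroup.zpowers_le, Subgroup.mem_centralizer_singleton_iff]
        exact hcom.symm.eq
      have hzp : IsPGroup p (Subgroup.zpowers (w ^ l)) := isPGroup_zpowers hk
      haveI hnorm : (P.subgroupOf (Subgroup.normalizer (P : Set G))).Normal := inferInstance
      have hsup : IsPGroup p ((P.subgroupOf (Subgroup.normalizer (P : Set G))) ⊔
          Subgroup.zpowers (w ^ l) : Subgroup _) :=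
        IsPGroup.to_sup_of_normal_left' hhP.isPGroup hzp (by
          rw [Subgroup.normalizer_eq_top (H := P.subgroupOf (Subgroup.normalizer (P : Set G)))]
          exact le_top)
      obtain ⟨E, hE, hle'⟩ := exists_centSylow_ge hsup (sup_le hS.le hle)
      have heq : P.subgroupOf (Subgroup.normalizer (P : Set G)) = E :=
        Subgroup.eq_of_le_of_card_ge (le_sup_left.trans hle') (by rw [hS.card, hE.card])
      have hmem : w ^ l ∈ P.subgroupOf (Subgroup.normalizer (P : Set G)) :=
        heq ▸ hle' (Subgroup.mem_sup_right (Subgroup.mem_zpowers _))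
      exact hzP (by rw [hl]; simpa [Subgroup.mem_subgroupOf] using hmem)
  · obtain ⟨i, rfl⟩ := Subgroup.mem_zpowers_iff.1 (IsPPart.mem_zpowers Fact.out hz)
    exact (Commute.zpow_left (Subgroup.mem_centralizer_iff.1 hcent u hu).symm i).eq

end CfsgLib.Blocks
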