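import Cfsg.Agent.Lib.Blocks.SeparatedBlocks
import Mathlib.LinearAlgebra.Matrix.Rank
import Mathlib.LinearAlgebra.Matrix.Transvection

/-!
# The number of blocks with a given normal defect group as a rank
-/

set_option autoImplicit false
set_option maxHeartbeats 1000000
set_option synthInstance.maxHeartbeats 400000

namespace CfsgLib.Blocks

open Cfsg CfsgLib.Char CfsgLib.BlockReg
open scoped Classical ComplexConjugate Matrix

universe u

/-- The rank of a square matrix over a field is unchanged by a field extension. -/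
theorem rank_map_fieldHom {F K : Type*} [Field F] [Field K] {ι : Type*} [Fintype ι] [DecidableEq ι]
    (f : F →+* K) (A : Matrix ι ι F) : (A.map f).rank = A.rank := by
  obtain ⟨L, L', d, h⟩ :=
    Matrix.Pivot.exists_list_transvec_mul_diagonal_mul_list_transvec A
  set P := (L.map Matrix.TransvectionStruct.toMatrix).prod with hP
  set P' := (L'.map Matrix.TransvectionStruct.toMatrix).prod with hP'
  have hu : IsUnit P.det := by
    rw [hP, Matrix.TransvectionStruct.det_toMatrix_prod]; exact isUnit_one
  have hu' : IsUnit P'.det := by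
    rw [hP', Matrix.TransvectionStruct.det_toMatrix_prod]; exact isUnit_one
  have hf : ∀ Q : Matrix ι ι F, IsUnit Q.det → IsUnit (f.mapMatrix Q).det := fun Q hQ => by
    rw [← RingHom.map_det]; exact hQ.map f
  have e : A.map f = f.mapMatrix P * Matrix.diagonal (fun i => f (d i)) * f.mapMatrix P' := by
    rw [show A.map f = f.mapMatrix A from rfl, h, map_mul, map_mul]
    congr 2
    exact Matrix.diagonal_map (map_zero f)
  rw [e, Matrix.rank_mul_eq_left_of_isUnit_det _ _ (hf _ hu'),
    Matrix.rank_mul_eq_right_of_isUnit_det _ _ (hf _ hu), h,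
    Matrix.rank_mul_eq_left_of_isUnit_det _ _ hu', Matrix.rank_mul_eq_right_of_isUnit_det _ _ hu,
    Matrix.rank_diagonal, Matrix.rank_diagonal]
  exact Fintype.card_congr (Equiv.subtypeEquivRight fun i => by simp)

variable {G : Type u} [Group G] [Finite G] {p : ℕ} [Fact p.Prime] {M : Ideal AlgInt} [M.IsMaximal]

/-- Block idempotents evaluated by the class vectors. -/
theorem sum_blockCoeff_omega (hM : IsPModular p M) {D : Subgroup G} [D.Normal] {ι : Type*}
    [Fintype ι] (y : ι → G) (hy : ∀ i j, IsConj (y i) (y j) → i = j)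
    (hsurj : ∀ g : G, ¬ p ∣ orderOf g → IsCentSylow p g D → ∃ i, IsConj (y i) g)
    {B B' : Set (IrrCharacter G)} (hB : IsPBlock M B) (hBD : IsDefectGroup p M B D)
    (hB' : IsPBlock M B') (hB'D : IsDefectGroup p M B' D) {χ : IrrCharacter G} (hχ : χ ∈ B') :
    ∑ i, red M ⟨blockCoeff B (y i), blockCoeff_mem hB (y i)⟩ * omegaVec M y χ i =
      if B = B' then 1 else 0 := by
  have h := lam_blockIdem hB χ
  have hind : (blockInd B χ : ResField M) = if B = B' then 1 else 0 := by
    rw [blockInd]
    by_cases hBB : B = B'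
    · subst hBB; simp [hχ]
    · rw [if_neg hBB, if_neg fun hc => hBB (IsPBlock.eq_of_mem hB hB' hc hχ)]
  rw [← hind, ← h, lam_apply, classEval]
  have hinj : Function.Injective fun i => ConjClasses.mk (y i) := fun i j hij =>
    hy i j (ConjClasses.mk_eq_mk_iff_isConj.1 hij)
  rw [← Finset.sum_subset (Finset.subset_univ
    ((Finset.univ : Finset ι).image fun i => ConjClasses.mk (y i)))]
  · rw [Finset.sum_image fun i _ j _ hij => hinj hij]
    refine Finset.sum_congr rfl fun i _ => ?_
    obtain ⟨u, hu⟩ := isConj_iff.1 (ConjClasses.mk_eq_mk_iff_isConj.1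
      (Quotient.out_eq (ConjClasses.mk (y i)))).symm
    simp only [← hu, coeff_blockIdem, omegaVec]
    rw [centralR_conj, show (⟨blockCoeff B (u * y i * u⁻¹), blockCoeff_mem hB _⟩ : locRing M) =
      ⟨blockCoeff B (y i), blockCoeff_mem hB _⟩ from Subtype.ext (blockCoeff_conj B _ _)]
  · intro C _ hC
    by_contra hne
    obtain ⟨h1, h2⟩ := mul_ne_zero_iff.1 hne
    set g := Quotient.out C with hg
    rw [ne_eq, coeff_blockIdem_eq_zero_iff hB] at h1
    rw [← lam_classSumC, ne_eq, lam_classSumC_eq_zero_iff] at h2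
    have hreg : ¬ p ∣ orderOf g := fun hdvd => h1 (by
      rw [blockCoeff_singular hM hB g hdvd]; exact memIdeal_zero hM)
    obtain ⟨P, hP⟩ := exists_centSylow p g
    obtain ⟨a, ha⟩ := exists_conj_le_defectGroup hM hB hBD h1 hP.isPGroup hP.mem_centralizer
    obtain ⟨c, hgc, hc⟩ := exists_isConj_centralizer_defectGroup hM hB' hB'D hχ h2
    obtain ⟨b, hb⟩ := hP.exists_conj_ge (isPGroup_defectGroup hBD) hgc hc
    have hnorm : ∀ z : G, D.map (MulAut.conj z).toMonoidHom = D := fun z => by
      refine le_antisymm ?_ fun v hv => ⟨z⁻¹ * v * z, ?_, by simp [mul_assoc]⟩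
      · rintro _ ⟨v, hv, rfl⟩
        exact (inferInstance : D.Normal).conj_mem v hv z
      · simpa using (inferInstance : D.Normal).conj_mem v hv z⁻¹
    rw [hnorm] at hb
    have hPD : P = D := by
      refine le_antisymm (fun v hv => ?_) hb
      have h3 : a * v * a⁻¹ ∈ D := ha ⟨v, hv, rfl⟩
      simpa [mul_assoc] using (inferInstance : D.Normal).conj_mem _ h3 a⁻¹
    obtain ⟨i, hi⟩ := hsurj g hreg (hPD ▸ hP)
    refine hC (Finset.mem_image.2 ⟨i, Finset.mem_univ _, ?_⟩)
    rw [ConjClasses.mk_eq_mk_iff_isConj.2 hi]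
    exact Quotient.out_eq C

/-- The weight of a block with the given defect group is a unit. -/
theorem sum_pairWeight_not_memIdeal (hM : IsPModular p M) (S : Sylow p G) {k : ℕ}
    {B : Set (IrrCharacter G)} (hB : IsPBlock M B) (hk : minExp p B = k) :
    ¬ MemLocalIdeal M (∑ χ ∈ B.toFinset, (if (charDegree (χ : G → ℂ)).factorization p = k
          then pairWeight (S : Subgroup G) (p ^ k) χ else 0)) := by
  letI := Fintype.ofFinite G
  have hpk : (p ^ k : ℕ) ≠ 0 := pow_ne_zero _ hM.1.ne_zero
  have hfk : (p ^ k).factorization p = k := by rw [hM.1.factorization_pow, Finsupp.single_eq_same]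
  set N := ∑ χ ∈ B.toFinset, charDegree (χ : G → ℂ) ^ 2 with hN
  have hNf : N.factorization p = (Nat.card G).factorization p + k := by
    rw [← hk, ← factorization_sum_sq hM hB, finsum_mem_eq_toFinset_sum]
  obtain ⟨ψ, hψ⟩ := IsPBlock.nonempty hB
  have hN0 : N ≠ 0 := fun h0 => by
    have := Finset.sum_eq_zero_iff.1 h0 ψ (Set.mem_toFinset.2 hψ)
    exact pow_ne_zero 2 (deg_pos ψ).ne' this
  have hsum : ∑ χ ∈ B.toFinset, pairWeight (S : Subgroup G) (p ^ k) χ =
      (N : ℂ) / ((Nat.card G * p ^ k : ℕ) : ℂ) := by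
    have hm : ∑ χ ∈ B.toFinset, (charDegree (χ : G → ℂ) : ℂ) * permMult (S : Subgroup G) χ =
        (N : ℂ) / (Nat.card (S : Subgroup G) : ℂ) := by
      have hm1 : ∀ χ : IrrCharacter G, permMult (S : Subgroup G) χ =
          (Nat.card (S : Subgroup G) : ℂ)⁻¹ *
            ∑ s : (S : Subgroup G), conj ((χ : G → ℂ) s) := fun χ => by
        unfold permMult
        rw [classInner_indFun _ _ _ (IsIrrCharacter.isClassFunction χ.2), classInner]
        simp
      simp only [hm1, mul_left_comm ((charDegree _ : ℕ) : ℂ), Finset.mul_sum]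
      rw [Finset.sum_comm, Finset.sum_eq_single 1, div_eq_inv_mul, hN, Nat.cast_sum,
        Finset.mul_sum]
      · refine Finset.sum_congr rfl fun χ _ => ?_
        rw [OneMemClass.coe_one, ← deg_cast, Complex.conj_natCast, Nat.cast_pow]
        ring
      · intro s _ hs
        have hs' : p ∣ orderOf ((s : G)) := by
          obtain ⟨i, hi⟩ := IsPGroup.iff_orderOf.1 S.2 s
          rw [Subgroup.orderOf_coe, hi]
          refine dvd_pow_self p fun h => hs ?_
          rw [← orderOf_eq_one_iff, hi, h, pow_zero]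
        have ho := block_orthogonality hM hB 1 (s : G) (by simp [hM.1.ne_one]) hs'
        rw [finsum_mem_eq_toFinset_sum] at ho
        rw [← Finset.mul_sum, show ∑ χ ∈ B.toFinset, (charDegree (χ : G → ℂ) : ℂ) *
          conj ((χ : G → ℂ) s) = 0 from (Finset.sum_congr rfl fun χ _ => by rw [deg_cast]).trans ho,
          mul_zero]
      · simp
    rw [show (N : ℂ) / ((Nat.card G * p ^ k : ℕ) : ℂ) =
        ((Nat.card (S : Subgroup G) : ℂ) / (Nat.card G : ℂ) / ((p ^ k : ℕ) : ℂ)) *
          ((N : ℂ) / (Nat.card (S : Subgroup G) : ℂ)) by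
      have : (Nat.card (S : Subgroup G) : ℂ) ≠ 0 := Nat.cast_ne_zero.2 Nat.card_pos.ne'
      push_cast
      field_simp, ← hm, Finset.mul_sum]
    refine Finset.sum_congr rfl fun χ _ => ?_
    rw [pairWeight]
    ring
  have hunit := natCast_div_unit hM (n := N) (m := Nat.card G * p ^ k) hN0
    (mul_ne_zero Nat.card_pos.ne' hpk) (by
      rw [hNf, Nat.factorization_mul Nat.card_pos.ne' hpk, Finsupp.add_apply, hfk])
  rw [← hsum] at hunit
  intro hbad
  apply hunit.2
  have h := memIdeal_add hM hbad (memIdeal_sum hM B.toFinset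
    (f := fun χ => if (charDegree (χ : G → ℂ)).factorization p = k
          then 0 else pairWeight (S : Subgroup G) (p ^ k) χ) fun χ hχ => ?_)
  · rw [← Finset.sum_add_distrib] at h
    refine (congrArg (MemLocalIdeal M) (Finset.sum_congr rfl fun χ _ => ?_)).mp h
    split_ifs <;> simp
  · split_ifs with heq
    · exact memIdeal_zero hM
    · have hlt := minExp_le (p := p) (Set.mem_toFinset.1 hχ)
      obtain ⟨m, hm⟩ := exists_nat_permMult (S : Subgroup G) χ
      rw [pairWeight, hm, ← Subgroup.card_mul_index (S : Subgroup G), Nat.cast_mul, ← div_div,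
        div_self (Nat.cast_ne_zero.2 Nat.card_pos.ne'), one_div]
      exact memIdeal_mul_right hM (memIdeal_mul_left hM
        (memRing_inv_natCast hM S.not_dvd_index)
        (natCast_div_memIdeal hM hpk (by omega))) (memRing_natCast hM m)

/-- Brauer's rank formula. -/
theorem card_blocks_eq_rank (hM : IsPModular p M) {D : Subgroup G} [D.Normal] (S : Sylow p G)
    {ι : Type*} [Fintype ι] (x : ι → G) (hx : ∀ i j, IsConj (x i) (x j) → i = j)
    (hxD : ∀ i, IsCentSylow p (x i) D) (hxreg : ∀ i, ¬ p ∣ orderOf (x i))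
    (hsurj : ∀ g : G, ¬ p ∣ orderOf g → IsCentSylow p g D → ∃ i, IsConj (x i) g) :
    Nat.card {B : Set (IrrCharacter G) // IsPBlock M B ∧ IsDefectGroup p M B D} =
      (Matrix.of fun i j : ι => ((pairCount (S : Subgroup G) (x i) (x j) /
        p ^ ((Nat.card G).factorization p - (Nat.card D).factorization p) : ℕ) : ResField M)).rank := by
  haveI := Fintype.ofFinite G
  set k := (Nat.card G).factorization p - (Nat.card D).factorization p with hk
  have hxk : ∀ i, (csize (x i)).factorization p = k := fun i =>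
    factorization_csize_of_isCentSylow (hxD i)
  set W : IrrCharacter G → ℂ := fun χ => if (charDegree (χ : G → ℂ)).factorization p = k
    then pairWeight (S : Subgroup G) (p ^ k) χ else 0 with hW
  have hWR : ∀ χ, MemLocalRing M (W χ) := fun χ => by
    simp only [hW]
    split_ifs with h
    · exact memRing_pairWeight hM S (by omega)
    · exact memRing_zero hM
  let X := {B : Set (IrrCharacter G) // IsPBlock M B ∧ IsDefectGroup p M B D}
  haveI : Fintype X := Fintype.ofFinite X
  choose rep hrep using fun B : X => IsPBlock.nonempty B.2.1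
  let y : ι → G := fun i => (x i)⁻¹
  have hcinv : ∀ g : G, IsCentSylow p g D → IsCentSylow p g⁻¹ D := fun g h => by
    have e : Subgroup.centralizer ({g⁻¹} : Set G) = Subgroup.centralizer ({g} : Set G) := by
      ext z
      simp only [Subgroup.mem_centralizer_singleton_iff]
      exact ⟨fun hz => by simpa using (Commute.inv_right (show Commute z g⁻¹ from hz)).eq,
        fun hz => (Commute.inv_right (show Commute z g from hz)).eq⟩
    refine isCentSylow_of_card (e ▸ h.le) ?_
    rw [h.card, e]
  have hy : ∀ i j, IsConj (y i) (y j) → i = j := fun i j h => hx i j (by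
    obtain ⟨c, hc⟩ := isConj_iff.1 h
    exact isConj_iff.2 ⟨c, by
      have := congrArg Inv.inv hc
      simpa [y, mul_assoc] using this⟩)
  have hysurj : ∀ g : G, ¬ p ∣ orderOf g → IsCentSylow p g D → ∃ i, IsConj (y i) g := by
    intro g hg hgD
    obtain ⟨i, hi⟩ := hsurj g⁻¹ (by rwa [orderOf_inv]) (hcinv g hgD)
    obtain ⟨c, hc⟩ := isConj_iff.1 hi
    refine ⟨i, isConj_iff.2 ⟨c, ?_⟩⟩
    have := congrArg Inv.inv hc
    simpa [y, mul_assoc] using this
  -- the block weights
  let w : X → ResField M := fun B =>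
    red M (∑ χ ∈ (B : Set (IrrCharacter G)).toFinset, (⟨W χ, hWR χ⟩ : locRing M))
  have hw : ∀ B : X, w B ≠ 0 := by
    intro B h0
    apply sum_pairWeight_not_memIdeal hM S B.2.1 (k := k) (by
      have h1 := card_defectGroup hM B.2.1 B.2.2
      rw [blockDefect_eq] at h1
      have h2 : (Nat.card D).factorization p =
          (Nat.card G).factorization p - minExp p (B : Set (IrrCharacter G)) := by
        rw [h1, hM.1.factorization_pow, Finsupp.single_eq_same]
      have h3 : minExp p (B : Set (IrrCharacter G)) ≤ (Nat.card G).factorization p :=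
        (minExp_le (hrep B)).trans (factorization_deg_le _)
      omega)
    have h := (memLocalIdeal_sub_iff
      (x := ∑ χ ∈ (B : Set (IrrCharacter G)).toFinset, (⟨W χ, hWR χ⟩ : locRing M))
      (y := (0 : locRing M))).2 (by rw [map_zero]; exact h0)
    simpa [hW] using h
  let A : Matrix ι X (ResField M) := Matrix.of fun i B => w B * omegaVec M y (rep B) i
  let V : Matrix X ι (ResField M) := Matrix.of fun B j => omegaVec M x (rep B) j
  let E : Matrix ι X (ResField M) :=
    Matrix.of fun j B => red M ⟨blockCoeff (B : Set (IrrCharacter G)) (x j), blockCoeff_mem B.2.1 _⟩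
  let E' : Matrix X ι (ResField M) :=
    Matrix.of fun B i => red M ⟨blockCoeff (B : Set (IrrCharacter G)) (y i), blockCoeff_mem B.2.1 _⟩
  have hAV : (Matrix.of fun i j : ι => ((pairCount (S : Subgroup G) (x i) (x j) /
      p ^ k : ℕ) : ResField M)) = A * V := by
    ext i j
    obtain ⟨-, hcongr⟩ := pairCount_congr hM S (hxk i) (hxk j)
    have h2 := (memLocalIdeal_sub_iff
      (x := ((pairCount (S : Subgroup G) (x i) (x j) / p ^ k : ℕ) : locRing M))
      (y := ∑ χ : IrrCharacter G, (⟨W χ, hWR χ⟩ : locRing M) *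
        (centralR M χ (x i)⁻¹ * centralR M χ (x j)))).1
      (by push_cast; simp only [coe_centralR]; exact hcongr)
    rw [map_natCast, map_sum] at h2
    rw [Matrix.of_apply, h2, Matrix.mul_apply]
    symm
    rw [← Finset.sum_subset (Finset.subset_univ (Finset.univ.biUnion
      fun B : X => (B : Set (IrrCharacter G)).toFinset))]
    · rw [Finset.sum_biUnion (fun B _ C _ hne => Finset.disjoint_left.2 fun χ hχ hχ' => hne
        (Subtype.ext (IsPBlock.eq_of_mem B.2.1 C.2.1 (Set.mem_toFinset.1 hχ)
          (Set.mem_toFinset.1 hχ'))))]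
      refine Finset.sum_congr rfl fun B _ => ?_
      simp only [A, V, Matrix.of_apply, w, map_sum, Finset.sum_mul]
      refine Finset.sum_congr rfl fun χ hχ => ?_
      rw [omegaVec_congr hM B.2.1 y (hrep B) (Set.mem_toFinset.1 hχ),
        omegaVec_congr hM B.2.1 x (hrep B) (Set.mem_toFinset.1 hχ), map_mul, map_mul, mul_assoc]
      rfl
    · intro χ _ hχ
      by_contra hne
      apply hχ
      simp only [map_mul, mul_eq_zero, not_or] at hne
      have hdeg : (charDegree (χ : G → ℂ)).factorization p = k := by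
        by_contra h
        apply hne.1
        rw [show (⟨W χ, hWR χ⟩ : locRing M) = 0 from Subtype.ext (by simp [hW, h]), map_zero]
      obtain ⟨hD', -⟩ := isDefectGroup_of_omegaVec hM (isPBlock_blockOf (M := M) χ) x hxD
        (mem_blockOf_self χ) (fun h0 => hne.2.2 (congrFun h0 j)) hdeg.le
      exact Finset.mem_biUnion.2 ⟨⟨_, isPBlock_blockOf χ, hD'⟩, Finset.mem_univ _,
        Set.mem_toFinset.2 (mem_blockOf_self χ)⟩
  have hVE : V * E = 1 := by
    ext B C
    rw [Matrix.mul_apply, Matrix.one_apply, Finset.sum_congr rfl (fun j _ => mul_comm _ _)]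
    refine (sum_blockCoeff_omega hM x hx hsurj C.2.1 C.2.2 B.2.1 B.2.2 (hrep B)).trans ?_
    by_cases h : B = C
    · subst h; simp
    · rw [if_neg fun h' => h (Subtype.ext h').symm, if_neg h]
  have hEA : E' * A = Matrix.diagonal w := by
    ext B C
    have h := sum_blockCoeff_omega hM y hy hysurj B.2.1 B.2.2 C.2.1 C.2.2 (hrep C)
    rw [Matrix.mul_apply, Matrix.diagonal_apply]
    simp only [E', A, Matrix.of_apply, mul_left_comm, ← Finset.mul_sum, h]
    by_cases hBC : B = C
    · subst hBC; simp
    · rw [if_neg hBC, if_neg fun h' => hBC (Subtype.ext h'), mul_zero]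
  rw [hAV]
  refine le_antisymm ?_ ?_
  · have h1 : (E' * (A * V) * E).rank = Fintype.card X := by
      rw [← Matrix.mul_assoc E' A V, hEA, Matrix.mul_assoc, hVE, Matrix.mul_one]
      rw [Matrix.rank_diagonal, Fintype.card_congr (Equiv.subtypeUnivEquiv hw)]
    rw [Nat.card_eq_fintype_card, ← h1]
    exact (Matrix.rank_mul_le_left _ _).trans (Matrix.rank_mul_le_right _ _)
  · rw [Nat.card_eq_fintype_card]
    exact (Matrix.rank_mul_le_left _ _).trans (Matrix.rank_le_card_width _)

end CfsgLib.Blocks
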