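import Cfsg.Agent.Lib.Blocks.Cover
import Cfsg.Agent.Lib.Blocks.Defect

/-!
# Fong's theorem on blocks covering an invariant block
-/

set_option autoImplicit false
set_option maxHeartbeats 1000000
set_option synthInstance.maxHeartbeats 400000

namespace CfsgLib.Blocks

open Cfsg CfsgLib.Char CfsgLib.BlockReg CfsgLib.CharTwist
open scoped ComplexConjugate Classical

universe u

variable {G : Type u} [Group G] [Finite G] {p : ℕ} [Fact p.Prime] {M : Ideal AlgInt} [M.IsMaximal]

omit [Fact p.Prime] [M.IsMaximal] in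
/-- The idempotent of a union of blocks, by blocks. -/
theorem blockCoeff_eq_sum_blocks {A : Set (IrrCharacter G)}
    (hA : ∀ χ ∈ A, blockOf M (χ : G → ℂ) ⊆ A) [M.IsMaximal] (g : G) :
    blockCoeff A g =
      ∑ B ∈ A.toFinset.image (fun χ : IrrCharacter G => blockOf M (χ : G → ℂ)), blockCoeff B g := by
  simp only [blockCoeff, finsum_mem_eq_toFinset_sum, ← Finset.mul_sum]
  congr 1
  rw [← Finset.sum_fiberwise_of_maps_to
    (fun χ hχ => Finset.mem_image_of_mem (fun χ : IrrCharacter G => blockOf M (χ : G → ℂ)) hχ)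
    (fun χ : IrrCharacter G => (χ : G → ℂ) 1 * conj ((χ : G → ℂ) g))]
  refine Finset.sum_congr rfl fun B hB => ?_
  obtain ⟨χ, hχ, rfl⟩ := Finset.mem_image.1 hB
  refine Finset.sum_congr ?_ fun _ _ => rfl
  ext ψ
  simp only [Finset.mem_filter, Set.mem_toFinset]
  refine ⟨fun h => h.2 ▸ mem_blockOf_self ψ, fun h => ⟨hA χ (Set.mem_toFinset.1 hχ) h, ?_⟩⟩
  exact (IsPBlock.eq_blockOf (isPBlock_blockOf χ) h).symm

variable (N : Subgroup G) [hN : N.Normal] [Fintype N]

/-- Fong's theorem. -/
theorem fong (hM : IsPModular p M) {b : Set (IrrCharacter N)} (hb : IsPBlock M b)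
    (hinv : ∀ (g : G) (θ : IrrCharacter N), θ ∈ b → conjIrr N θ g ∈ b)
    {B : Set (IrrCharacter G)} (hB : IsPBlock M B)
    (hcov : ∃ χ ∈ B, ∃ θ ∈ b, classInner (fun n : N => (χ : G → ℂ) n) (θ : N → ℂ) ≠ 0)
    (hmax : ∀ B' : Set (IrrCharacter G), IsPBlock M B' →
      (∃ χ ∈ B', ∃ θ ∈ b, classInner (fun n : N => (χ : G → ℂ) n) (θ : N → ℂ) ≠ 0) →
        blockDefect p B' ≤ blockDefect p B)
    {P : Subgroup G} (hP : IsDefectGroup p M B P) :
    ¬ p ∣ (P ⊔ N).index ∧ IsDefectGroup p M b ((P ⊓ N).subgroupOf N) ∧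
      blockDefect p B = blockDefect p b + N.index.factorization p := by
  haveI := Fintype.ofFinite G
  haveI : CharP (ResField M) p := charP_resField hM.1 (natCast_mem_of_isPModular hM)
  obtain ⟨χ, hχ, θ, hθ, hc⟩ := hcov
  have hclosure : conjClosure N b = b := by
    refine Set.Subset.antisymm ?_ (subset_conjClosure N b)
    rintro ψ ⟨g, hg⟩
    have h := hinv g⁻¹ _ hg
    rwa [← conjIrr_mul, mul_inv_cancel, conjIrr_one] at h
  -- the covering characters
  set A : Set (IrrCharacter G) :=
    {ψ | ∃ η ∈ b, classInner (fun n : N => (ψ : G → ℂ) n) (η : N → ℂ) ≠ 0} with hA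
  have hall : ∀ ψ ∈ A, ∀ η : IrrCharacter N,
      classInner (fun n : N => (ψ : G → ℂ) n) (η : N → ℂ) ≠ 0 → η ∈ b := by
    rintro ψ ⟨η₀, hη₀, hc₀⟩ η hη
    rw [← hclosure]
    exact constituent_mem_conjClosure (M := M) N hb (sameBlock_refl (M := M) ψ) hη₀ hc₀ hη
  have hU : ∀ ψ ∈ A, blockOf M (ψ : G → ℂ) ⊆ A := by
    rintro ψ ⟨η₀, hη₀, hc₀⟩ ψ' hψ'
    obtain ⟨η, hη, hcη⟩ := Clifford.exists_constituent_res N ψ'.2
    refine ⟨⟨η, hη⟩, ?_, hcη⟩
    rw [← hclosure]
    exact constituent_mem_conjClosure (M := M) N (ψ := ⟨η, hη⟩) hb hψ' hη₀ hc₀ hcη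
  -- the idempotent of `b` is that of the covering characters
  have hcc : ∀ u x : G, extZero N (blockCoeff b) (u * x * u⁻¹) = extZero N (blockCoeff b) x := by
    intro u x
    by_cases hx : x ∈ N
    · rw [extZero, dif_pos (hN.conj_mem x hx u), extZero, dif_pos hx]
      have := sum_blockCoeff_conjClosure N b u ⟨x, hx⟩
      rwa [hclosure] at this
    · rw [extZero_of_not_mem N _ hx, extZero_of_not_mem]
      intro hux
      exact hx (by simpa [mul_assoc] using hN.conj_mem _ hux u⁻¹)
  have hAb : ∀ g : G, blockCoeff A g = extZero N (blockCoeff b) g := by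
    intro g
    let z : Subalgebra.center ℂ (MonoidAlgebra ℂ G) :=
      ⟨ofFun (extZero N (blockCoeff b)), ofFun_mem_center hcc⟩
    have hz : idemC A = z := by
      refine omega_ext fun ψ => ?_
      obtain ⟨η, hη, hcη⟩ := Clifford.exists_constituent_res N ψ.2
      set t : IrrCharacter N := ⟨η, hη⟩
      have e1 : omega ψ z = omega t (resCenter N z) := by
        rw [omega_resCenter, omega_apply]
        unfold classEval
        refine Finset.sum_congr rfl fun C _ => ?_
        by_cases hC : Quotient.out C ∈ N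
        · rw [centralChar_eq_inducedCentralChar N (θ := t) hcη ⟨_, hC⟩]
        · simp [z, extZero_of_not_mem N _ hC]
      have e2 : resCenter N z = idemC b :=
        Subtype.ext (MonoidAlgebra.ext (Finsupp.ext fun n => by simp [z, extZero_coe]))
      rw [e1, e2, omega_idemC, omega_idemC, blockInd, blockInd]
      by_cases hψ : ψ ∈ A
      · rw [if_pos hψ, if_pos (hall ψ hψ t hcη)]
      · rw [if_neg hψ, if_neg fun h => hψ ⟨t, h, hcη⟩]
    have := congrArg (fun a : Subalgebra.center ℂ (MonoidAlgebra ℂ G) =>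
      (a : MonoidAlgebra ℂ G).coeff g) hz
    simpa [z] using this
  -- a class of `G` inside `N`
  let zF : Subalgebra.center (ResField M) (MonoidAlgebra (ResField M) G) :=
    ⟨ofFun fun g => red M ⟨blockCoeff A g, blockCoeff_mem_of_isUnion hU g⟩,
      ofFun_mem_center fun u x => congrArg (red M) (Subtype.ext (blockCoeff_conj A u x))⟩
  have hzres : resCenter N zF = blockIdem hb := by
    refine Subtype.ext (MonoidAlgebra.ext (Finsupp.ext fun n => ?_))
    rw [coeff_resCenter, coeff_blockIdem hb]
    simp only [zF, coeff_ofFun]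
    exact congrArg (red M) (Subtype.ext ((hAb _).trans (extZero_coe N _ n)))
  have h1 := lam_blockIdem_of_mem hb hθ
  rw [← hzres, lam_resCenter, classEval] at h1
  obtain ⟨C, -, hC⟩ := Finset.exists_ne_zero_of_sum_ne_zero (h1 ▸ one_ne_zero)
  obtain ⟨hC1, hC2⟩ := mul_ne_zero_iff.1 hC
  simp only [zF, coeff_ofFun, Ne, red_eq_zero] at hC1
  set x₀ := Quotient.out C
  have hx₀N : x₀ ∈ N := by
    by_contra h
    apply hC1
    rw [hAb, extZero_of_not_mem N _ h]
    exact memIdeal_zero hM
  have hlamB : ¬ MemLocalIdeal M (centralChar (χ : G → ℂ) x₀) := by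
    rw [centralChar_eq_inducedCentralChar N hc ⟨x₀, hx₀N⟩]
    exact fun h => hC2 (red_eq_zero.2 h)
  -- a covering block with that class
  obtain ⟨B', hB', hcov', hB'x⟩ : ∃ B' : Set (IrrCharacter G), IsPBlock M B' ∧
      (∃ ψ ∈ B', ∃ η ∈ b, classInner (fun n : N => (ψ : G → ℂ) n) (η : N → ℂ) ≠ 0) ∧
      ¬ MemLocalIdeal M (blockCoeff B' x₀) := by
    by_contra hcon
    apply hC1
    rw [blockCoeff_eq_sum_blocks hU]
    refine memIdeal_sum hM _ fun B' hB' => ?_
    obtain ⟨ψ, hψ, rfl⟩ := Finset.mem_image.1 hB'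
    by_contra hne
    exact hcon ⟨_, CfsgLib.Blocks.isPBlock_blockOf ψ,
      ⟨ψ, mem_blockOf_self ψ, (show ψ ∈ A by simpa only [Set.mem_toFinset] using hψ)⟩, hne⟩
  obtain ⟨D', hD'⟩ := exists_defectGroup hM hB'
  obtain ⟨Q, hQ⟩ := exists_centSylow p x₀
  obtain ⟨y, hy⟩ := exists_conj_le_defectGroup hM hB' hD' hB'x hQ.isPGroup hQ.mem_centralizer
  obtain ⟨x, hx₀x, hxP⟩ := exists_isConj_centralizer_defectGroup hM hB hP hχ hlamB
  have hPp := isPGroup_defectGroup hP
  obtain ⟨E, hE, hPE⟩ := exists_centSylow_ge hPp (le_centralizer_singleton_iff.2 hxP)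
  have hQP : Nat.card Q ≤ Nat.card P := by
    calc Nat.card Q = Nat.card (Q.map (MulAut.conj y).toMonoidHom) := (card_map_conj y Q).symm
      _ ≤ Nat.card D' := Subgroup.card_le_of_le hy
      _ = p ^ blockDefect p B' := card_defectGroup hM hB' hD'
      _ ≤ p ^ blockDefect p B := Nat.pow_le_pow_right hM.1.pos (hmax B' hB' hcov')
      _ = Nat.card P := (card_defectGroup hM hB hP).symm
  have hEP : P = E := Subgroup.eq_of_le_of_card_ge hPE (by
    rw [hE.card, ← card_centralizer_eq_of_isConj hx₀x, ← hQ.card]; exact hQP)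
  have hxPc : IsCentSylow p x P := hEP ▸ hE
  have hxN : x ∈ N := by
    obtain ⟨c, hc'⟩ := isConj_iff.1 hx₀x
    exact hc' ▸ hN.conj_mem _ hx₀N c
  set xN : N := ⟨x, hxN⟩
  have hblockx : ¬ MemLocalIdeal M (blockCoeff b xN) := by
    obtain ⟨c, hc'⟩ := isConj_iff.1 hx₀x
    rw [← extZero_coe N (blockCoeff b) xN, ← hAb,
      show (xN : G) = c * x₀ * c⁻¹ from hc'.symm, blockCoeff_conj]
    exact hC1
  -- the classes of `N` inside the class of `x`
  set J := Finset.univ.filter fun L : ConjClasses N => IsConj x ((Quotient.out L : N) : G) with hJ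
  have hω : ∀ m : N, IsConj x (m : G) →
      lam M θ (classSumC (ResField M) m) = lam M θ (classSumC (ResField M) xN) ∧
      (Subgroup.centralizer ({m} : Set N)).index = (Subgroup.centralizer ({xN} : Set N)).index := by
    intro m hm
    obtain ⟨g, hg⟩ := isConj_iff.1 hm
    have hmx : MulAut.conjNormal (H := N) g xN = m := Subtype.ext (by simpa using hg)
    refine ⟨?_, by rw [← hmx, ← Pairs.index_centralizer_equiv]⟩
    have e : lam M (conjIrr N θ g) = lam M θ :=
      sameBlock_iff_lam.1 (block_congr hM hb (hinv g θ hθ) hθ)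
    rw [lam_classSumC, ← e, lam_classSumC]
    congr 1
    apply Subtype.ext
    rw [coe_centralR, coe_centralR, conjIrr_eq_pull, Pairs.centralChar_pull, hmx]
  have hlamres : lam M θ (resCenter N (classSumC (ResField M) x)) =
      (J.card : ResField M) * lam M θ (classSumC (ResField M) xN) := by
    conv_lhs => rw [center_eq_sum_classSumC (resCenter N (classSumC (ResField M) x))]
    rw [map_sum, hJ, Finset.natCast_card_filter, Finset.sum_mul]
    refine Finset.sum_congr rfl fun L _ => ?_
    rw [map_smul, coeff_resCenter, coe_classSumC, coeff_classSum, smul_eq_mul]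
    split_ifs with hL
    · rw [(hω _ hL).1]
    · simp
  have hne : lam M θ (resCenter N (classSumC (ResField M) x)) ≠ 0 := by
    rw [lam_resCenter_classSumC, Ne, red_eq_zero, coe_inducedR,
      ← centralChar_eq_inducedCentralChar N hc xN]
    obtain ⟨c, hc'⟩ := isConj_iff.1 hx₀x
    show ¬ MemLocalIdeal M (centralChar (χ : G → ℂ) x)
    rw [← hc', centralChar_conj]
    exact hlamB
  rw [hlamres, mul_ne_zero_iff] at hne
  have hJp : ¬ p ∣ J.card := fun h => hne.1 ((CharP.cast_eq_zero_iff (ResField M) p _).2 h)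
  have hdef : IsDefectClass M b xN := by
    refine ⟨memLocalRing_blockCoeff hb xN, hblockx, fun η hη => ?_⟩
    rw [← lam_classSumC_eq_zero_iff, sameBlock_iff_lam.1 (block_congr hM hb hη hθ)]
    exact hne.2
  have hcount : J.card * (Subgroup.centralizer ({xN} : Set N)).index =
      (Subgroup.centralizer ({x} : Set G)).index := by
    rw [index_centralizer_eq_card_isConj (G := G) x]
    have hmap : ∀ m ∈ Finset.univ.filter (fun m : N => IsConj x (m : G)), ConjClasses.mk m ∈ J := by
      intro m hm
      rw [hJ, Finset.mem_filter]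
      refine ⟨Finset.mem_univ _, (Finset.mem_filter.1 hm).2.trans ?_⟩
      obtain ⟨c, hcm⟩ := isConj_iff.1 ((ConjClasses.mk_eq_mk_iff_isConj.1
        (Quotient.out_eq (ConjClasses.mk m))).symm)
      exact isConj_iff.2 ⟨(c : G), by rw [← hcm]; simp⟩
    have hcardK : Nat.card {y : G // IsConj x y} =
        (Finset.univ.filter fun m : N => IsConj x (m : G)).card := by
      rw [← Fintype.card_subtype, ← Nat.card_eq_fintype_card]
      refine Nat.card_congr
        { toFun := fun y => ⟨⟨y.1, ?_⟩, y.2⟩
          invFun := fun m => ⟨(m.1 : G), m.2⟩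
          left_inv := fun _ => rfl
          right_inv := fun _ => rfl }
      obtain ⟨c, hc'⟩ := isConj_iff.1 y.2
      exact hc' ▸ hN.conj_mem _ hxN c
    rw [hcardK, Finset.card_eq_sum_card_fiberwise hmap,
      Finset.sum_congr rfl (g := fun _ => (Subgroup.centralizer ({xN} : Set N)).index) fun L hL => ?_,
      Finset.sum_const, smul_eq_mul]
    rw [← (hω _ (Finset.mem_filter.1 hL).2).2, index_centralizer_eq_card_isConj,
      Finset.filter_filter, ← Fintype.card_subtype, ← Nat.card_eq_fintype_card]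
    refine Nat.card_congr (Equiv.subtypeEquivRight fun m => ?_)
    constructor
    · rintro ⟨-, hm⟩
      exact (ConjClasses.mk_eq_mk_iff_isConj.1 (hm.trans (Quotient.out_eq L).symm)).symm
    · intro hm
      refine ⟨(Finset.mem_filter.1 hL).2.trans ?_, ?_⟩
      · obtain ⟨c, hcm⟩ := isConj_iff.1 hm
        exact isConj_iff.2 ⟨(c : G), by rw [← hcm]; simp⟩
      · exact (ConjClasses.mk_eq_mk_iff_isConj.2 hm.symm).trans (Quotient.out_eq L)
  -- the orders
  have hpr := hM.1
  set i := Subgroup.relIndex N P with hi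
  have hPN : Nat.card (P ⊓ N : Subgroup G) * i = Nat.card P := by
    rw [hi, inf_comm, ← Subgroup.inf_relIndex_right, ← Subgroup.relIndex_bot_left,
      ← Subgroup.relIndex_bot_left (H := P)]
    exact Subgroup.relIndex_mul_relIndex _ _ _ bot_le inf_le_right
  have hidx : i * (P ⊔ N).index = N.index := by
    rw [hi, ← Subgroup.relIndex_sup_right (H := P) (K := N)]
    exact Subgroup.relIndex_mul_index le_sup_right
  obtain ⟨d, hd⟩ := IsPGroup.iff_card.1 hPp
  obtain ⟨e, he⟩ := IsPGroup.iff_card.1 (hPp.to_le (inf_le_left : P ⊓ N ≤ P))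
  have hi0 : i ≠ 0 := fun h0 => by
    rw [h0, mul_zero] at hPN
    exact Nat.card_pos.ne' hPN.symm
  have hif : e + i.factorization p = d := by
    have := congrArg (fun n : ℕ => n.factorization p) hPN
    rw [he, hd, Nat.factorization_mul (pow_ne_zero _ hpr.ne_zero) hi0, Finsupp.add_apply] at this
    simpa [hpr.factorization_pow, hpr.factorization_self] using this
  have hidxf : i.factorization p + (P ⊔ N).index.factorization p = N.index.factorization p := by
    rw [← hidx, Nat.factorization_mul hi0 Subgroup.index_ne_zero_of_finite, Finsupp.add_apply]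
  set cN := (Nat.card (Subgroup.centralizer ({xN} : Set N))).factorization p
  have hcG : (Nat.card (Subgroup.centralizer ({x} : Set G))).factorization p = d := by
    have h := hxPc.card
    rw [hd] at h
    exact (Nat.pow_right_injective hpr.two_le h).symm
  have hrel : d = cN + N.index.factorization p := by
    have h2 := Subgroup.card_mul_index (Subgroup.centralizer ({x} : Set G))
    have h3 := Subgroup.card_mul_index (Subgroup.centralizer ({xN} : Set N))
    have h4 := Subgroup.card_mul_index N
    have h5 : ((Subgroup.centralizer ({x} : Set G)).index).factorization p =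
        ((Subgroup.centralizer ({xN} : Set N)).index).factorization p := by
      rw [← hcount, Nat.factorization_mul (fun h => hJp (by rw [h]; exact dvd_zero p))
        Subgroup.index_ne_zero_of_finite, Finsupp.add_apply,
        Nat.factorization_eq_zero_of_not_dvd hJp, zero_add]
    have e2 := congrArg (fun n : ℕ => n.factorization p) h2
    have e3 := congrArg (fun n : ℕ => n.factorization p) h3
    have e4 := congrArg (fun n : ℕ => n.factorization p) h4
    simp only [Nat.factorization_mul Nat.card_pos.ne' Subgroup.index_ne_zero_of_finite,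
      Finsupp.add_apply] at e2 e3 e4
    omega
  have hleN : (P ⊓ N).subgroupOf N ≤ Subgroup.centralizer ({xN} : Set N) := fun u hu =>
    Subgroup.mem_centralizer_singleton_iff.2 (Subtype.ext
      (Subgroup.mem_centralizer_singleton_iff.1
        (hxPc.le (Subgroup.mem_subgroupOf.1 hu).1)))
  have hcardS : Nat.card ((P ⊓ N).subgroupOf N) = p ^ e := by
    rw [Nat.card_congr (Subgroup.subgroupOfEquivOfLe (inf_le_right : P ⊓ N ≤ N)).toEquiv, he]
  have hele : e ≤ cN := by
    have h := Subgroup.card_dvd_of_le hleN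
    rw [hcardS] at h
    exact (hpr.pow_dvd_iff_le_factorization Nat.card_pos.ne').1 h
  have hsup : (P ⊔ N).index.factorization p = 0 := by omega
  have heq : e = cN := by omega
  have hD : IsDefectGroup p M b ((P ⊓ N).subgroupOf N) :=
    ⟨xN, hdef, isCentSylow_of_card hleN (by rw [hcardS, heq])⟩
  refine ⟨fun h => ?_, hD, ?_⟩
  · have := hpr.factorization_pos_of_dvd Subgroup.index_ne_zero_of_finite h
    omega
  · have h2 := card_defectGroup hM hB hP
    have h3 := card_defectGroup hM hb hD
    rw [hd] at h2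
    rw [hcardS] at h3
    have h4 := Nat.pow_right_injective hpr.two_le h2
    have h5 := Nat.pow_right_injective hpr.two_le h3
    omega

end CfsgLib.Blocks
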