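import Cfsg.Agent.Lib.Blocks.EquivDefect
import Cfsg.Agent.Lib.Blocks.Induced
import Cfsg.Agent.Lib.Blocks.Pairs.Covering
import Cfsg.Agent.Lib.Char.CliffordOver
import Cfsg.Agent.S4438

/-!
# The Harris–Knörr correspondence
-/

set_option autoImplicit false
set_option maxHeartbeats 1000000
set_option synthInstance.maxHeartbeats 400000

namespace CfsgLib.Blocks

open Cfsg CfsgLib.CharTwist
open scoped Classical

universe u w

/-- Induced blocks are preserved by isomorphisms. -/
theorem isInducedBlock_pullSet {G : Type u} [Group G] [Finite G] {K : Type w} [Group K] [Finite K]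
    {M : Ideal AlgInt} (α : K ≃* G) {H : Subgroup G} {H' : Subgroup K} (β : H' ≃* H)
    (hβ : ∀ x, ((β x : H) : G) = α (x : K)) {b : Set (IrrCharacter H)} {B : Set (IrrCharacter G)}
    (h : IsInducedBlock M H b B) :
    IsInducedBlock M H' (Pairs.pullSet β b) (Pairs.pullSet α B) := by
  obtain ⟨hb, hB, hh⟩ := h
  refine ⟨Pairs.isPBlock_pullSet β hb, Pairs.isPBlock_pullSet α hB, ?_⟩
  rintro _ ⟨ξ, hξ, rfl⟩ _ ⟨χ, hχ, rfl⟩ k
  have e : inducedCentralChar H' (Pairs.pull β ξ : H' → ℂ) k =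
      inducedCentralChar H (ξ : H → ℂ) (α k) := by
    refine finsum_mem_eq_of_bijOn β ⟨fun x hx => ?_, β.injective.injOn, fun y hy => ?_⟩
      fun x _ => by rw [Pairs.pull_apply, Pairs.pull_apply, map_one]
    · obtain ⟨c, hc⟩ := isConj_iff.1 (hx : IsConj k (x : K))
      exact isConj_iff.2 ⟨α c, by rw [hβ, ← hc]; simp⟩
    · obtain ⟨c, hc⟩ := isConj_iff.1 (hy : IsConj (α k) (y : G))
      refine ⟨β.symm y, isConj_iff.2 ⟨α.symm c, α.injective ?_⟩, β.apply_symm_apply y⟩
      rw [← hβ, β.apply_symm_apply, ← hc]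
      simp
  rw [e, Pairs.centralChar_pull]
  exact hh ξ hξ χ hχ (α k)

/-- Induction inside a subgroup read as induction in that subgroup. -/
theorem isInducedBlock_of_isInducedBlockIn {G : Type u} [Group G] [Finite G] {M : Ideal AlgInt}
    {H K : Subgroup G} {K' : Subgroup H} (φ : K' ≃* K)
    (hφ : ∀ x, ((φ x : K) : G) = ((x : H) : G)) {e : Set (IrrCharacter K)}
    {f : Set (IrrCharacter H)} (h : IsInducedBlockIn M H K e f) :
    IsInducedBlock M K' (Pairs.pullSet φ e) f := by
  obtain ⟨he, hf, hh⟩ := h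
  refine ⟨Pairs.isPBlock_pullSet φ he, hf, ?_⟩
  rintro _ ⟨ξ, hξ, rfl⟩ χ hχ x
  have e : inducedCentralChar K' (Pairs.pull φ ξ : K' → ℂ) x =
      inducedCentralCharIn H K (ξ : K → ℂ) (x : G) := by
    refine finsum_mem_eq_of_bijOn φ ⟨fun k hk => ?_, φ.injective.injOn, fun k hk => ?_⟩
      fun k _ => by rw [Pairs.pull_apply, Pairs.pull_apply, map_one]
    · obtain ⟨c, hc⟩ := isConj_iff.1 (IsConj.symm hk)
      exact ⟨c, by rw [hφ]; exact congrArg Subtype.val hc⟩
    · obtain ⟨c, hc⟩ := hk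
      refine ⟨φ.symm k, (isConj_iff.2 ⟨c, Subtype.ext ?_⟩ :
        IsConj ((φ.symm k : K') : H) x).symm, φ.apply_symm_apply k⟩
      show (c : G) * ((φ.symm k : H) : G) * (c : G)⁻¹ = (x : G)
      rw [← hφ, φ.apply_symm_apply, hc]
  rw [e]
  exact hh ξ hξ χ hχ x

variable {G : Type u} [Group G] [Fintype G] {p : ℕ} [Fact p.Prime] {M : Ideal AlgInt}
  [M.IsMaximal] (N : Subgroup G) [hN : N.Normal] [Fintype N] {Q : Subgroup G}

/-- Covering is inherited through induction from a subgroup `H`, given the induction inside `N`. -/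
theorem covers_of_induced {H : Subgroup G} {LH : Subgroup H} [LH.Normal] [Fintype LH]
    {LN : Subgroup N} {L : Subgroup G} (φH : LH ≃* L)
    (hφH : ∀ k, ((φH k : L) : G) = ((k : H) : G)) (φN : LN ≃* L)
    (hφN : ∀ k, ((φN k : L) : G) = ((k : N) : G)) (hLH : LH = N.subgroupOf H)
    {c : Set (IrrCharacter H)} {B : Set (IrrCharacter G)} (hcB : IsInducedBlock M H c B)
    {ξ : IrrCharacter H} (hξ : ξ ∈ c) {η : IrrCharacter L}
    (hcη : classInner (fun n : LH => (ξ : H → ℂ) n) (Pairs.pull φH η : LH → ℂ) ≠ 0)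
    {d : Set (IrrCharacter N)} (hd : IsInducedBlock M LN (blockOf M (Pairs.pull φN η : LN → ℂ)) d) :
    ∃ χ ∈ B, ∃ θ ∈ d, classInner (fun n : N => (χ : G → ℂ) n) (θ : N → ℂ) ≠ 0 := by
  obtain ⟨χ, hχ⟩ := IsPBlock.nonempty hcB.2.1
  obtain ⟨θ, hθ⟩ := IsPBlock.nonempty hd.2.1
  obtain ⟨z, hz, hzl⟩ := exists_extIdem (M := M) N hd.2.1
  have hsupp : ∀ h : H, h ∉ LH →
      (resCenter H z : MonoidAlgebra (ResField M) H).coeff h = 0 := by
    intro h hh
    rw [coeff_resCenter]
    exact hz _ fun hN' => hh (by rw [hLH]; exact hN')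
  have e1 : lam M χ z = lam M ξ (resCenter H z) :=
    (IsInducedBlock.lam_resCenter_eq hcB hξ hχ z).symm
  have e2 : lam M ξ (resCenter H z) = lam M θ (resCenter N z) := by
    rw [lam_eq_lam_resCenter_of_constituent (M := M) LH hcη _ hsupp,
      lam_resCenter_trans H φH hφH, ← lam_resCenter_trans N φN hφN,
      IsInducedBlock.lam_resCenter_eq hd (mem_blockOf_self _) hθ]
  obtain ⟨θ₀, hθ₀, hc₀⟩ := CfsgLib.Clifford.exists_constituent_res N χ.2
  have e3 := lam_eq_lam_resCenter_of_constituent (M := M) N (θ := ⟨θ₀, hθ₀⟩) hc₀ z hz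
  rw [e1, e2, hzl, hzl, blockInd, blockInd, if_pos (subset_conjClosure N d hθ)] at e3
  have hmem : (⟨θ₀, hθ₀⟩ : IrrCharacter N) ∈ conjClosure N d := by
    by_contra hn
    rw [if_neg hn] at e3
    exact one_ne_zero e3
  obtain ⟨g, hg⟩ := hmem
  refine ⟨χ, hχ, _, hg, ?_⟩
  rw [coe_conjIrr, CfsgLib.Clifford.classInner_res_conjFun N
    (CfsgLib.Char.IsIrrCharacter.isClassFunction χ.2)]
  exact hc₀

omit [Fintype G] [Fintype N] [M.IsMaximal] in
theorem normalizer_le_of_inf_eq {D : Subgroup G} (h : D ⊓ N = Q) :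
    Subgroup.normalizer (D : Set G) ≤ Subgroup.normalizer (Q : Set G) := by
  intro x hx
  refine Subgroup.mem_normalizer_iff.2 fun q => ?_
  rw [← h, Subgroup.mem_inf, Subgroup.mem_inf, Subgroup.mem_normalizer_iff.1 hx q]
  refine and_congr_right fun _ => ⟨fun hq => hN.conj_mem q hq x, fun hq => ?_⟩
  simpa [mul_assoc] using hN.conj_mem _ hq x⁻¹

/-- The block of a subgroup `H` with defect group `D` and the block of `G` it induces, when
`H` contains the normalizer of `D`. -/
theorem exists_induced_of_normalizer_le (hM : IsPModular p M) {H D : Subgroup G}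
    (hD : IsPGroup p D) (hDH : Subgroup.normalizer (D : Set G) ≤ H)
    {c : Set (IrrCharacter H)} (hcD : IsDefectGroup p M c (D.subgroupOf H))
    (hc : IsPBlock M c) :
    ∃ (b : Set (IrrCharacter (Subgroup.normalizer (D : Set G)))) (B : Set (IrrCharacter G)),
      IsDefectGroup p M b (D.subgroupOf (Subgroup.normalizer (D : Set G))) ∧
      IsInducedBlock M (Subgroup.normalizer (D : Set G)) b B ∧ IsInducedBlock M H c B ∧
      IsDefectGroup p M B D ∧
      ∃ (φ : Subgroup.normalizer (D.subgroupOf H : Set H) ≃* Subgroup.normalizer (D : Set G)),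
        (∀ k, ((φ k : Subgroup.normalizer (D : Set G)) : G) = ((k : H) : G)) ∧
        IsInducedBlock M (Subgroup.normalizer (D.subgroupOf H : Set H)) (Pairs.pullSet φ b) c := by
  have hDH' : D ≤ H := Subgroup.le_normalizer.trans hDH
  have heq : Subgroup.normalizer (D.subgroupOf H : Set H) =
      (Subgroup.normalizer (D : Set G)).subgroupOf H :=
    (Subgroup.subgroupOf_normalizer_eq hDH').symm
  let φ : Subgroup.normalizer (D.subgroupOf H : Set H) ≃* Subgroup.normalizer (D : Set G) :=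
    (MulEquiv.subgroupCongr heq).trans (Subgroup.subgroupOfEquivOfLe hDH)
  have hφ : ∀ k, ((φ k : Subgroup.normalizer (D : Set G)) : G) = ((k : H) : G) := fun k => rfl
  obtain ⟨b', hb'D, hb'c⟩ := firstMain_exists_correspondent hM hc hcD
  set b := Pairs.pullSet φ.symm b' with hbdef
  have hbb : Pairs.pullSet φ b = b' := by
    rw [hbdef, Pairs.pullSet, Pairs.pullSet, ← Set.image_comp]
    exact Eq.trans (Set.image_congr fun θ _ => Pairs.pull_pull_symm φ θ) (Set.image_id' _)
  have hbD : IsDefectGroup p M b (D.subgroupOf (Subgroup.normalizer (D : Set G))) := by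
    have h := isDefectGroup_pullSet φ.symm hb'D
    have e : ((D.subgroupOf H).subgroupOf (Subgroup.normalizer (D.subgroupOf H : Set H))).comap
        φ.symm.toMonoidHom = D.subgroupOf (Subgroup.normalizer (D : Set G)) := by
      ext k
      simp only [Subgroup.mem_comap, Subgroup.mem_subgroupOf, MulEquiv.coe_toMonoidHom]
      rw [← hφ, φ.apply_symm_apply]
    rwa [e] at h
  obtain ⟨B, -, hBD, hbB⟩ :=
    firstMain_exists_induced hM hD (Pairs.isPBlock_pullSet φ.symm hb'c.1) hbD
  rw [← hbb] at hb'c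
  exact ⟨b, B, hbD, hbB, isInducedBlock_trans H φ hφ hb'c hbB, hBD, φ, hφ, hb'c⟩

/-- Blocks of a subgroup containing the normalizer of a defect group are determined by the
induced block. -/
theorem eq_of_induced_of_normalizer_le (hM : IsPModular p M) {H D : Subgroup G}
    (hD : IsPGroup p D) (hDH : Subgroup.normalizer (D : Set G) ≤ H)
    {c₁ c₂ : Set (IrrCharacter H)} (h₁ : IsDefectGroup p M c₁ (D.subgroupOf H))
    (h₂ : IsDefectGroup p M c₂ (D.subgroupOf H)) {B : Set (IrrCharacter G)}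
    (hi₁ : IsInducedBlock M H c₁ B) (hi₂ : IsInducedBlock M H c₂ B) : c₁ = c₂ := by
  obtain ⟨b₁, B₁, hb₁, hbB₁, hcB₁, -, φ₁, hφ₁, hk₁⟩ :=
    exists_induced_of_normalizer_le hM hD hDH h₁ hi₁.1
  obtain ⟨b₂, B₂, hb₂, hbB₂, hcB₂, -, φ₂, hφ₂, hk₂⟩ :=
    exists_induced_of_normalizer_le hM hD hDH h₂ hi₂.1
  obtain rfl := IsInducedBlock.unique hcB₁ hi₁
  obtain rfl := IsInducedBlock.unique hcB₂ hi₂
  obtain rfl := firstMain_unique hM hD hb₁ hb₂ hbB₁ hbB₂
  have e : φ₁ = φ₂ := MulEquiv.ext fun k => Subtype.ext (by rw [hφ₁, hφ₂])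
  subst e
  exact IsInducedBlock.unique hk₁ hk₂

/-- The Harris–Knörr correspondence. -/
theorem harrisKnorr (hM : IsPModular p M) (hQ : IsPGroup p Q) (hQN : Q ≤ N)
    {H L : Subgroup G} [Fintype L] (hH : H = Subgroup.normalizer (Q : Set G)) (hL : L = H ⊓ N)
    (hLle : L ≤ H) {d : Set (IrrCharacter N)}
    (hdQ : IsDefectGroup p M d (Q.subgroupOf N))
    {e : Set (IrrCharacter L)} (heQ : IsDefectGroup p M e (Q.subgroupOf L))
    (hed : IsInducedBlockIn M N L e d) :
    (∀ c : Set (IrrCharacter H), IsPBlock M c →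
      (∃ ψ ∈ c, ∃ ξ ∈ e, classInner (fun l : L => (ψ : H → ℂ) (Subgroup.inclusion hLle l))
        (ξ : L → ℂ) ≠ 0) →
      ∃! B : Set (IrrCharacter G), IsInducedBlock M H c B ∧
        ∃ χ ∈ B, ∃ θ ∈ d, classInner (fun n : N => (χ : G → ℂ) n) (θ : N → ℂ) ≠ 0) ∧
    (∀ B : Set (IrrCharacter G), IsPBlock M B →
      (∃ χ ∈ B, ∃ θ ∈ d, classInner (fun n : N => (χ : G → ℂ) n) (θ : N → ℂ) ≠ 0) →
      ∃! c : Set (IrrCharacter H), (IsPBlock M c ∧
        ∃ ψ ∈ c, ∃ ξ ∈ e, classInner (fun l : L => (ψ : H → ℂ) (Subgroup.inclusion hLle l))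
          (ξ : L → ℂ) ≠ 0) ∧
        IsInducedBlock M H c B) := by
  have hQH : Q ≤ H := hH ▸ Subgroup.le_normalizer
  have hCH : Subgroup.centralizer (Q : Set G) ≤ H := hH ▸ Subgroup.centralizer_le_normalizer _
  have hLN' : L ≤ N := hL ▸ inf_le_right
  have hmemL : ∀ {x : G}, x ∈ L ↔ x ∈ H ∧ x ∈ N := fun {x} => by rw [hL, Subgroup.mem_inf]
  have hQp : IsPGroup p (Q.subgroupOf N) :=
    hQ.of_equiv (Subgroup.subgroupOfEquivOfLe hQN).symm
  haveI hLn : (L.subgroupOf H).Normal := (Subgroup.normal_subgroupOf_iff hLle).2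
    fun l h hl hh => hmemL.2 ⟨mul_mem (mul_mem hh (hmemL.1 hl).1) (inv_mem hh),
      hN.conj_mem l (hmemL.1 hl).2 h⟩
  haveI := Fintype.ofFinite (L.subgroupOf H)
  haveI := Fintype.ofFinite H
  let φH : L.subgroupOf H ≃* L := Subgroup.subgroupOfEquivOfLe hLle
  have hφH : ∀ k, ((φH k : L) : G) = ((k : H) : G) := fun k => rfl
  have hLH : L.subgroupOf H = N.subgroupOf H := by
    rw [hL, Subgroup.inf_subgroupOf_left]
  have hLN : Subgroup.normalizer (Q.subgroupOf N : Set N) = L.subgroupOf N := by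
    rw [hL, Subgroup.inf_subgroupOf_right, hH, ← Subgroup.subgroupOf_normalizer_eq hQN]
  let φN : Subgroup.normalizer (Q.subgroupOf N : Set N) ≃* L :=
    (MulEquiv.subgroupCongr hLN).trans (Subgroup.subgroupOfEquivOfLe hLN')
  have hφN : ∀ k, ((φN k : L) : G) = ((k : N) : G) := fun k => rfl
  have he := hed.1
  have hd := hed.2.1
  set eN := Pairs.pullSet φN e with heN
  set eH := Pairs.pullSet φH e with heH
  have hedN : IsInducedBlock M _ eN d := isInducedBlock_of_isInducedBlockIn φN hφN hed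
  have heNQ : IsDefectGroup p M eN
      ((Q.subgroupOf N).subgroupOf (Subgroup.normalizer (Q.subgroupOf N : Set N))) := by
    have h := isDefectGroup_pullSet φN heQ
    have e' : (Q.subgroupOf L).comap φN.toMonoidHom =
        (Q.subgroupOf N).subgroupOf (Subgroup.normalizer (Q.subgroupOf N : Set N)) := by
      ext k
      simp only [Subgroup.mem_comap, Subgroup.mem_subgroupOf, MulEquiv.coe_toMonoidHom, hφN]
    rwa [e'] at h
  have heHQ : IsDefectGroup p M eH ((Q.subgroupOf H).subgroupOf (L.subgroupOf H)) := by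
    have h := isDefectGroup_pullSet φH heQ
    have e' : (Q.subgroupOf L).comap φH.toMonoidHom =
        (Q.subgroupOf H).subgroupOf (L.subgroupOf H) := by
      ext k
      simp only [Subgroup.mem_comap, Subgroup.mem_subgroupOf, MulEquiv.coe_toMonoidHom, hφH]
    rwa [e'] at h
  have hcov : ∀ (ψ : IrrCharacter H) (η : IrrCharacter L),
      classInner (fun l : L => (ψ : H → ℂ) (Subgroup.inclusion hLle l)) (η : L → ℂ) =
        classInner (fun n : L.subgroupOf H => (ψ : H → ℂ) n)
          (Pairs.pull φH η : L.subgroupOf H → ℂ) := fun ψ η =>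
    (CfsgLib.CliffordOver.classInner_trans L H hLle (ψ : H → ℂ) (η : L → ℂ)).symm
  have hforward : ∀ (c : Set (IrrCharacter H)), IsPBlock M c → ∀ ψ ∈ c, ∀ η ∈ e,
      classInner (fun n : L.subgroupOf H => (ψ : H → ℂ) n)
        (Pairs.pull φH η : L.subgroupOf H → ℂ) ≠ 0 → ∀ B : Set (IrrCharacter G),
      IsInducedBlock M H c B →
        ∃ χ ∈ B, ∃ θ ∈ d, classInner (fun n : N => (χ : G → ℂ) n) (θ : N → ℂ) ≠ 0 := by
    intro c hc ψ hψ η hη hcη B hB
    refine covers_of_induced N φH hφH φN hφN hLH hB hψ hcη ?_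
    rwa [← IsPBlock.eq_blockOf hedN.1 (⟨η, hη, rfl⟩ : Pairs.pull φN η ∈ eN)]
  have hdefect : ∀ c : Set (IrrCharacter H), IsPBlock M c →
      (∃ ψ ∈ c, ∃ ξ ∈ e, classInner (fun l : L => (ψ : H → ℂ) (Subgroup.inclusion hLle l))
        (ξ : L → ℂ) ≠ 0) →
      ∃ D : Subgroup G, D ≤ H ∧ IsPGroup p D ∧ IsDefectGroup p M c (D.subgroupOf H) ∧ D ⊓ N = Q := by
    rintro c hc ⟨ψ, hψ, η, hη, hcη⟩
    obtain ⟨D', hD', hinf⟩ := Cfsg.Agent.S4438.result p M hM (L.subgroupOf H) eH
      (Pairs.isPBlock_pullSet φH he) (Q.subgroupOf H)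
      (fun q hq => hmemL.2 ⟨q.2, hQN hq⟩) heHQ c hc
      ⟨ψ, hψ, Pairs.pull φH η, ⟨η, hη, rfl⟩, by rwa [← hcov]⟩
    refine ⟨D'.map H.subtype, Subgroup.map_subtype_le _,
      (isPGroup_defectGroup hD').map _, ?_, ?_⟩
    · rwa [Subgroup.subgroupOf, Subgroup.comap_map_eq_self_of_injective H.subtype_injective]
    · have h := congrArg (Subgroup.map H.subtype) hinf
      rw [Subgroup.map_inf_eq _ _ _ H.subtype_injective,
        Subgroup.map_subgroupOf_eq_of_le hLle, Subgroup.map_subgroupOf_eq_of_le hQH, hL,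
        ← inf_assoc, inf_eq_left.2 (Subgroup.map_subtype_le D')] at h
      exact h
  constructor
  · rintro c hc ⟨ψ, hψ, η, hη, hcη⟩
    obtain ⟨B, hB⟩ := exists_isInducedBlock hM hQ hQH hCH hH.le hc
    exact ⟨B, ⟨hB, hforward c hc ψ hψ η hη (by rwa [← hcov]) B hB⟩,
      fun B' hB' => IsInducedBlock.unique hB'.1 hB⟩
  · intro B hB hcovB
    obtain ⟨D, hBD, hDN⟩ := Cfsg.Agent.S4438.result p M hM N d hd Q hQN hdQ B hB hcovB
    have hDp := isPGroup_defectGroup hBD
    have hNDH : Subgroup.normalizer (D : Set G) ≤ H := hH ▸ normalizer_le_of_inf_eq N hDN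
    have hDH : D ≤ H := Subgroup.le_normalizer.trans hNDH
    -- the block of `H`
    have heqN : Subgroup.normalizer (D.subgroupOf H : Set H) =
        (Subgroup.normalizer (D : Set G)).subgroupOf H :=
      (Subgroup.subgroupOf_normalizer_eq hDH).symm
    obtain ⟨c, hcD, hcB⟩ : ∃ c : Set (IrrCharacter H),
        IsDefectGroup p M c (D.subgroupOf H) ∧ IsInducedBlock M H c B := by
      obtain ⟨b, hbD, hbB⟩ := firstMain_exists_correspondent hM hB hBD
      let φ : Subgroup.normalizer (D.subgroupOf H : Set H) ≃* Subgroup.normalizer (D : Set G) :=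
        (MulEquiv.subgroupCongr heqN).trans (Subgroup.subgroupOfEquivOfLe hNDH)
      have hφ : ∀ k, ((φ k : Subgroup.normalizer (D : Set G)) : G) = ((k : H) : G) := fun k => rfl
      have hD'p : IsPGroup p (D.subgroupOf H) :=
        hDp.of_equiv (Subgroup.subgroupOfEquivOfLe hDH).symm
      have hbD' : IsDefectGroup p M (Pairs.pullSet φ b)
          ((D.subgroupOf H).subgroupOf (Subgroup.normalizer (D.subgroupOf H : Set H))) := by
        have h := isDefectGroup_pullSet φ hbD
        have e' : (D.subgroupOf (Subgroup.normalizer (D : Set G))).comap φ.toMonoidHom =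
            (D.subgroupOf H).subgroupOf (Subgroup.normalizer (D.subgroupOf H : Set H)) := by
          ext k
          simp only [Subgroup.mem_comap, Subgroup.mem_subgroupOf, MulEquiv.coe_toMonoidHom, hφ]
        rwa [e'] at h
      obtain ⟨c, -, hcD, hbc⟩ :=
        firstMain_exists_induced hM hD'p (Pairs.isPBlock_pullSet φ hbB.1) hbD'
      exact ⟨c, hcD, isInducedBlock_trans H φ hφ hbc hbB⟩
    have hc := hcB.1
    -- it covers a conjugate of `e`
    have hcovc : ∃ ψ ∈ c, ∃ ξ ∈ e,
        classInner (fun l : L => (ψ : H → ℂ) (Subgroup.inclusion hLle l))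
          (ξ : L → ℂ) ≠ 0 := by
      obtain ⟨e', he', -, ⟨ψ, hψ, η', hη', hcη'⟩, he'Q⟩ :=
        Pairs.exists_stable_covered (N := L.subgroupOf H) hM hc hcD
      set η := Pairs.pull φH.symm η' with hη
      have hpull : Pairs.pull φH η = η' := Pairs.pull_pull_symm φH η'
      set e'L := Pairs.pullSet φH.symm e' with he'L
      set e'N := Pairs.pullSet φN e'L with he'N
      have he'NQ : IsDefectGroup p M e'N
          ((Q.subgroupOf N).subgroupOf (Subgroup.normalizer (Q.subgroupOf N : Set N))) := by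
        have h := isDefectGroup_pullSet φN (isDefectGroup_pullSet φH.symm he'Q)
        have e₁ : ((((D.subgroupOf H) ⊓ L.subgroupOf H).subgroupOf (L.subgroupOf H)).comap
            φH.symm.toMonoidHom).comap φN.toMonoidHom =
            (Q.subgroupOf N).subgroupOf (Subgroup.normalizer (Q.subgroupOf N : Set N)) := by
          ext k
          simp only [Subgroup.mem_comap, Subgroup.mem_subgroupOf, MulEquiv.coe_toMonoidHom,
            Subgroup.mem_inf]
          rw [← hφH, φH.apply_symm_apply, hφN]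
          have hmem := SetLike.ext_iff.1 hDN ((k : N) : G)
          rw [Subgroup.mem_inf] at hmem
          exact ⟨fun h => hmem.1 ⟨h.1, (k : N).2⟩, fun h => ⟨(hmem.2 h).1, (hφN k) ▸ (φN k).2⟩⟩
        rwa [e₁] at h
      obtain ⟨d', hd', hd'Q, hind'⟩ := firstMain_exists_induced hM hQp
        (Pairs.isPBlock_pullSet φN (Pairs.isPBlock_pullSet φH.symm he')) he'NQ
      have hηN : Pairs.pull φN η ∈ e'N := ⟨η, ⟨η', hη', rfl⟩, rfl⟩
      obtain ⟨χ', hχ', θ', hθ', hcθ'⟩ := covers_of_induced N φH hφH φN hφN hLH hcB hψ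
        (η := η) (by rwa [hpull]) (d := d') (by
          rwa [← IsPBlock.eq_blockOf (Pairs.isPBlock_pullSet φN
            (Pairs.isPBlock_pullSet φH.symm he')) hηN])
      obtain ⟨χ, hχ, θ, hθ, hcθ⟩ := hcovB
      obtain ⟨g, hg⟩ := constituent_mem_conjClosure (M := M) N hd
        (CfsgLib.BlockReg.block_congr hM hB hχ hχ') hθ hcθ hcθ'
      have hpullg : Pairs.pullSet (MulAut.conjNormal (H := N) g) d' = d :=
        IsPBlock.eq_of_mem (Pairs.isPBlock_pullSet _ hd') hd
          ⟨θ', hθ', (conjIrr_eq_pull N θ' g).symm⟩ hg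
      have hD1 := isDefectGroup_pullSet (MulAut.conjNormal (H := N) g) hd'Q
      rw [hpullg] at hD1
      obtain ⟨n, hn⟩ := defectGroup_conj hM hd hD1 hdQ
      -- `k` normalises `Q`
      set k : G := g * (n : G)⁻¹ with hk
      have hkH : k ∈ H := by
        rw [hH]
        refine Subgroup.mem_normalizer_iff.2 fun q => ?_
        have key : ∀ y : N, y ∈ (Q.subgroupOf N).comap (MulAut.conjNormal (H := N) g).toMonoidHom ↔
            g * (y : G) * g⁻¹ ∈ Q := fun y => by
          rw [Subgroup.mem_comap, MulEquiv.coe_toMonoidHom, Subgroup.mem_subgroupOf,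
            MulAut.conjNormal_apply]
        constructor
        · intro hq
          have h1 : (⟨q, hQN hq⟩ : N) ∈ Q.subgroupOf N := hq
          rw [← hn] at h1
          obtain ⟨y, hy, hyq⟩ := h1
          have h2 : (n : G) * (y : G) * (n : G)⁻¹ = q := congrArg Subtype.val hyq
          have h3 := (key y).1 hy
          rw [hk, ← h2]
          convert h3 using 1
          group
        · intro hq
          have hy : (n : G)⁻¹ * q * (n : G) ∈ N := by
            have h1 := hN.conj_mem _ (hQN hq) ((n : G)⁻¹ * k⁻¹)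
            convert h1 using 1
            group
          have h1 : n * ⟨_, hy⟩ * n⁻¹ ∈ Q.subgroupOf N := by
            rw [← hn]
            refine ⟨⟨_, hy⟩, (key _).2 ?_, rfl⟩
            rw [hk] at hq
            convert hq using 1
            group
          have h2 : (n : G) * ((n : G)⁻¹ * q * (n : G)) * (n : G)⁻¹ ∈ Q := h1
          convert h2 using 1
          group
      have hkd : Pairs.pullSet (MulAut.conjNormal (H := N) k) d' = d := by
        refine IsPBlock.eq_of_mem (Pairs.isPBlock_pullSet _ hd') hd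
          ⟨θ', hθ', (conjIrr_eq_pull N θ' k).symm⟩ ?_
        have e' : conjIrr N θ' k = conjIrr N θ' g := by
          rw [hk, conjIrr_mul]
          refine Subtype.ext (funext fun m => ?_)
          rw [coe_conjIrr]
          simp only [conjFun]
          exact Eq.trans (congrArg (conjIrr N θ' g : N → ℂ) (Subtype.ext (by simp)))
            (CfsgLib.Char.IsIrrCharacter.isClassFunction (conjIrr N θ' g).2 m n⁻¹)
        rwa [e']
      -- the conjugate of `e'` induces `d`
      set α := MulAut.conjNormal (H := N) k with hα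
      let γ : L ≃* L :=
        { toFun := fun x => ⟨k * x * k⁻¹, hmemL.2
            ⟨mul_mem (mul_mem hkH (hmemL.1 x.2).1) (inv_mem hkH), hN.conj_mem _ (hmemL.1 x.2).2 k⟩⟩
          invFun := fun x => ⟨k⁻¹ * x * k, hmemL.2
            ⟨mul_mem (mul_mem (inv_mem hkH) (hmemL.1 x.2).1) hkH,
            by simpa using hN.conj_mem _ (hmemL.1 x.2).2 k⁻¹⟩⟩
          left_inv := fun x => Subtype.ext (by simp [mul_assoc])
          right_inv := fun x => Subtype.ext (by simp [mul_assoc])
          map_mul' := fun x y => Subtype.ext (by simp [mul_assoc]) }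
      let β : (Subgroup.normalizer (Q.subgroupOf N : Set N)) ≃* (Subgroup.normalizer (Q.subgroupOf N : Set N)) := φN.trans (γ.trans φN.symm)
      have hβ : ∀ x : (Subgroup.normalizer (Q.subgroupOf N : Set N)), ((β x : (Subgroup.normalizer (Q.subgroupOf N : Set N))) : N) = α (x : N) := fun x => by
        refine Subtype.ext ?_
        rw [hα, MulAut.conjNormal_apply, ← hφN, ← hφN]
        show ((φN (φN.symm (γ (φN x))) : L) : G) = _
        rw [φN.apply_symm_apply]
        rfl
      have hind2 := isInducedBlock_pullSet α β hβ hind'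
      rw [hkd] at hind2
      have hD2 : IsDefectGroup p M (Pairs.pullSet β e'N) ((Q.subgroupOf N).subgroupOf (Subgroup.normalizer (Q.subgroupOf N : Set N))) := by
        have h := isDefectGroup_pullSet β he'NQ
        have e₂ : ((Q.subgroupOf N).subgroupOf (Subgroup.normalizer (Q.subgroupOf N : Set N))).comap β.toMonoidHom =
            (Q.subgroupOf N).subgroupOf (Subgroup.normalizer (Q.subgroupOf N : Set N)) := by
          ext x
          simp only [Subgroup.mem_comap, Subgroup.mem_subgroupOf, MulEquiv.coe_toMonoidHom, hβ,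
            hα, MulAut.conjNormal_apply]
          exact (Subgroup.mem_normalizer_iff.1 (hH ▸ hkH) _).symm
        rwa [e₂] at h
      have heq := firstMain_unique hM hQp hD2 heNQ hind2 hedN
      have hmem : Pairs.pull β (Pairs.pull φN η) ∈ eN := heq ▸ ⟨_, hηN, rfl⟩
      obtain ⟨ξ, hξ, hξe⟩ := hmem
      refine ⟨ψ, hψ, ξ, hξ, ?_⟩
      rw [hcov]
      have hconj : Pairs.pull φH ξ = conjIrr (L.subgroupOf H) η' ⟨k, hkH⟩ := by
        have hξ' : ξ = Pairs.pull γ η := by
          have h1 := congrArg (Pairs.pull φN.symm) hξe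
          rw [Pairs.pull_symm_pull] at h1
          rw [h1]
          refine Subtype.ext (funext fun x => ?_)
          show (η : L → ℂ) (φN (φN.symm (γ (φN (φN.symm x))))) = (η : L → ℂ) (γ x)
          rw [φN.apply_symm_apply, φN.apply_symm_apply]
        rw [hξ', ← hpull]
        refine Subtype.ext (funext fun x => congrArg (η : L → ℂ) (Subtype.ext ?_))
        rfl
      rw [hconj, coe_conjIrr, CfsgLib.Clifford.classInner_res_conjFun (L.subgroupOf H)
        (CfsgLib.Char.IsIrrCharacter.isClassFunction ψ.2)]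
      exact hcη'
    refine ⟨c, ⟨⟨hc, hcovc⟩, hcB⟩, ?_⟩
    rintro c₂ ⟨⟨hc₂, hcov₂⟩, hc₂B⟩
    obtain ⟨D₂, hD₂H, hD₂p, hc₂D, hD₂N⟩ := hdefect c₂ hc₂ hcov₂
    obtain ⟨-, B₂, -, -, hind₂, hB₂D, -⟩ :=
      exists_induced_of_normalizer_le hM hD₂p (hH ▸ normalizer_le_of_inf_eq N hD₂N) hc₂D hc₂
    rw [IsInducedBlock.unique hind₂ hc₂B] at hB₂D
    obtain ⟨x, hx⟩ := defectGroup_conj hM hB hB₂D hBD
    have hxmem : ∀ y : G, x * y * x⁻¹ ∈ D ↔ y ∈ D₂ := fun y => by
      rw [← hx]
      exact ⟨fun ⟨z, hz, h⟩ => (MulAut.conj x).injective h ▸ hz, fun h => ⟨y, h, rfl⟩⟩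
    have hxH : x ∈ H := by
      rw [hH]
      refine Subgroup.mem_normalizer_iff.2 fun q => ?_
      have h1 : x * q * x⁻¹ ∈ N ↔ q ∈ N := ⟨fun hq => by
        simpa [mul_assoc] using hN.conj_mem _ hq x⁻¹, fun hq => hN.conj_mem q hq x⟩
      have h2 : x * q * x⁻¹ ∈ Q ↔ x * q * x⁻¹ ∈ D ⊓ N := by rw [hDN]
      have h3 : q ∈ Q ↔ q ∈ D₂ ⊓ N := by rw [hD₂N]
      rw [h2, h3, Subgroup.mem_inf, Subgroup.mem_inf, h1, hxmem]
    have hc₂D' : IsDefectGroup p M c₂ (D.subgroupOf H) := by
      have h := IsDefectGroup.conj' hc₂D ⟨x, hxH⟩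
      have e₃ : (D₂.subgroupOf H).map (MulAut.conj (⟨x, hxH⟩ : H)).toMonoidHom =
          D.subgroupOf H := by
        ext y
        constructor
        · rintro ⟨z, hz, rfl⟩
          exact (hxmem z).2 hz
        · intro hy
          refine ⟨(⟨x, hxH⟩ : H)⁻¹ * y * ⟨x, hxH⟩, ?_, by simp [mul_assoc]⟩
          show x⁻¹ * (y : G) * x ∈ D₂
          rw [← hxmem]
          convert (Subgroup.mem_subgroupOf.1 hy) using 1
          group
      rwa [e₃] at h
    exact eq_of_induced_of_normalizer_le hM hDp hNDH hc₂D' hcD hc₂B hcB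

end CfsgLib.Blocks
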