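import Mathlib.GroupTheory.Sylow
import Mathlib.GroupTheory.Subgroup.Centralizer
import Mathlib.GroupTheory.Index
import Mathlib.GroupTheory.OrderOfElement
import Mathlib.GroupTheory.Perm.Basic
import Mathlib.Data.ZMod.Basic
import Mathlib.Data.Fintype.Perm
import Mathlib.Data.Finite.Perm
import Mathlib.GroupTheory.Perm.Cycle.Type

/-!
# Automizers of homocyclic Sylow two-subgroups of rank two
-/

set_option autoImplicit false

namespace CfsgLib.Blocks.Homocyclic

variable {G : Type*} [Group G]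

lemma zmod_two_torsion {m : ℕ} (x : ZMod (2 ^ (m + 1))) :
    x + x = 0 ↔ x = 0 ∨ x = ((2 ^ m : ℕ) : ZMod (2 ^ (m + 1))) := by
  constructor
  · intro h
    have h1 : ((x.val + x.val : ℕ) : ZMod (2 ^ (m + 1))) = 0 := by simpa using h
    rw [ZMod.natCast_eq_zero_iff] at h1
    obtain ⟨k, hk⟩ := h1
    have hlt := ZMod.val_lt x
    have h2 : x.val = 2 ^ m * k := by
      have : 2 ^ (m + 1) * k = 2 * (2 ^ m * k) := by ring
      omega
    have h3 : k < 2 := by
      by_contra hk2
      push Not at hk2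
      have hp : 2 ^ (m + 1) = 2 ^ m * 2 := pow_succ 2 m
      have := Nat.mul_le_mul_left (2 ^ m) hk2
      omega
    interval_cases k
    · exact Or.inl (by rw [← ZMod.natCast_zmod_val x, h2]; simp)
    · exact Or.inr (by rw [← ZMod.natCast_zmod_val x, h2]; simp)
  · rintro (rfl | rfl)
    · simp
    · rw [← Nat.cast_add, ← two_mul, ← pow_succ']
      exact ZMod.natCast_self _

/-- There are exactly three involutions. -/
lemma card_involutions (P : Subgroup G) (m : ℕ)
    (e : P ≃* Multiplicative (ZMod (2 ^ (m + 1)) × ZMod (2 ^ (m + 1)))) :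
    Nat.card {x : G // x ∈ P ∧ orderOf x = 2} = 3 := by
  classical
  let e' : {x : G // x ∈ P ∧ orderOf x = 2} ≃
      {y : ZMod (2 ^ (m + 1)) × ZMod (2 ^ (m + 1)) // y + y = 0 ∧ y ≠ 0} :=
    { toFun := fun x => ⟨Multiplicative.toAdd (e ⟨x.1, x.2.1⟩), by
        obtain ⟨h1, h2⟩ := orderOf_eq_prime_iff.1 x.2.2
        constructor
        · rw [← toAdd_mul, ← map_mul]
          rw [show (⟨x.1, x.2.1⟩ * ⟨x.1, x.2.1⟩ : P) = 1 from Subtype.ext
            (by simpa [sq] using h1)]
          simp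
        · simpa [Subtype.ext_iff] using h2⟩
      invFun := fun y => ⟨(e.symm (Multiplicative.ofAdd y.1) : P), SetLike.coe_mem _, by
        rw [Subgroup.orderOf_coe, orderOf_eq_prime_iff, ← map_pow, ← ofAdd_nsmul, two_nsmul, y.2.1]
        refine ⟨by simp, ?_⟩
        simpa using y.2.2⟩
      left_inv := fun x => by simp
      right_inv := fun y => by simp }
  rw [Nat.card_congr e']
  let h : ZMod (2 ^ (m + 1)) := ((2 ^ m : ℕ) : ZMod (2 ^ (m + 1)))
  have hne : h ≠ 0 := by
    rw [Ne, ZMod.natCast_eq_zero_iff]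
    intro hd
    have := Nat.le_of_dvd (Nat.two_pow_pos m) hd
    rw [pow_succ] at this
    linarith [Nat.two_pow_pos m]
  have hh : h + h = 0 := (zmod_two_torsion h).2 (Or.inr rfl)
  rw [Nat.card_eq_fintype_card, Fintype.card_subtype]
  rw [show (Finset.univ.filter fun y : ZMod (2 ^ (m + 1)) × ZMod (2 ^ (m + 1)) =>
      y + y = 0 ∧ y ≠ 0) = {(h, 0), (0, h), (h, h)} from ?_]
  · rw [Finset.card_insert_of_notMem, Finset.card_pair] <;> simp [hne, hne.symm]
  · ext ⟨a, b⟩
    simp only [Finset.mem_filter, Finset.mem_univ, true_and, Finset.mem_insert,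
      Finset.mem_singleton, ne_eq, Prod.mk_add_mk, Prod.mk_eq_zero, zmod_two_torsion,
      Prod.mk.injEq]
    constructor
    · rintro ⟨⟨ha | ha, hb | hb⟩, hne0⟩ <;> simp_all [h]
    · rintro (⟨rfl, rfl⟩ | ⟨rfl, rfl⟩ | ⟨rfl, rfl⟩) <;> simp [h] at hne hh ⊢ <;> simp [hne]

/-- An automorphism of odd order of an abelian `2`-group that fixes the involutions is trivial. -/
lemma fixes_of_fixes_involutions {P : Subgroup G} (hab : ∀ x ∈ P, ∀ y ∈ P, x * y = y * x)
    {n : G} (hn : ∀ x ∈ P, n * x * n⁻¹ ∈ P) {q : ℕ} (hq : Odd q)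
    (hnq : ∀ x ∈ P, n ^ q * x * (n ^ q)⁻¹ = x)
    (hinv : ∀ x ∈ P, x * x = 1 → n * x * n⁻¹ = x) :
    ∀ (j : ℕ) (x : G), x ∈ P → x ^ 2 ^ j = 1 → n * x * n⁻¹ = x := by
  intro j
  induction j with
  | zero => intro x _ hx; rw [pow_zero, pow_one] at hx; simp [hx]
  | succ j ih =>
    intro x hx hxj
    have h2 : n * (x * x) * n⁻¹ = x * x :=
      ih _ (mul_mem hx hx) (by rw [← sq, ← pow_mul, ← pow_succ']; exact hxj)
    have ht : (x⁻¹ * (n * x * n⁻¹)) * (x⁻¹ * (n * x * n⁻¹)) = 1 := by
      have h3 := hab (n * x * n⁻¹) (hn x hx) x⁻¹ (inv_mem hx)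
      calc x⁻¹ * (n * x * n⁻¹) * (x⁻¹ * (n * x * n⁻¹))
          = x⁻¹ * ((n * x * n⁻¹) * x⁻¹) * (n * x * n⁻¹) := by group
        _ = x⁻¹ * (x⁻¹ * (n * x * n⁻¹)) * (n * x * n⁻¹) := by rw [h3]
        _ = x⁻¹ * x⁻¹ * (n * (x * x) * n⁻¹) := by group
        _ = 1 := by rw [h2]; group
    have htn := hinv _ (mul_mem (inv_mem hx) (hn x hx)) ht
    set t := x⁻¹ * (n * x * n⁻¹) with htdef
    have hk : ∀ k : ℕ, n ^ k * x * (n ^ k)⁻¹ = x * t ^ k := by
      intro k
      induction k with
      | zero => simp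
      | succ k ihk =>
        calc n ^ (k + 1) * x * (n ^ (k + 1))⁻¹
            = n * (n ^ k * x * (n ^ k)⁻¹) * n⁻¹ := by rw [pow_succ']; group
          _ = n * (x * t ^ k) * n⁻¹ := by rw [ihk]
          _ = (n * x * n⁻¹) * (n * t * n⁻¹) ^ k := by rw [conj_pow]; group
          _ = (x * t) * t ^ k := by rw [htn, htdef, mul_inv_cancel_left]
          _ = x * t ^ (k + 1) := by rw [pow_succ', mul_assoc]
    have h4 := (hk q).symm.trans (hnq x hx)
    rw [mul_eq_left] at h4
    obtain ⟨r, rfl⟩ := hq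
    rw [pow_succ, pow_mul, sq, ht, one_pow, one_mul] at h4
    rw [htdef] at h4
    calc n * x * n⁻¹ = x * (x⁻¹ * (n * x * n⁻¹)) := by group
      _ = x := by rw [h4, mul_one]

variable [Finite G]

/-- The conjugation action of the normalizer on the involutions. -/
noncomputable def involutionHom (P : Subgroup G) :
    Subgroup.normalizer (P : Set G) →* Equiv.Perm {x : G // x ∈ P ∧ orderOf x = 2} where
  toFun n :=
    { toFun := fun x => ⟨(n : G) * x * (n : G)⁻¹, (Subgroup.mem_normalizer_iff.1 n.2 _).1 x.2.1,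
        ((MulAut.conj (n : G)).orderOf_eq (x : G)).trans x.2.2⟩
      invFun := fun x => ⟨(n : G)⁻¹ * x * (n : G),
        (Subgroup.mem_normalizer_iff''.1 n.2 _).1 x.2.1, by
          have h := ((MulAut.conj (n : G)⁻¹).orderOf_eq (x : G)).trans x.2.2
          simpa using h⟩
      left_inv := fun x => Subtype.ext (by simp [mul_assoc])
      right_inv := fun x => Subtype.ext (by simp [mul_assoc]) }
  map_one' := by ext x; simp
  map_mul' a b := by ext x; simp [mul_assoc]

lemma coe_involutionHom (P : Subgroup G) (n : Subgroup.normalizer (P : Set G))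
    (x : {x : G // x ∈ P ∧ orderOf x = 2}) :
    ((involutionHom P n x : {x : G // x ∈ P ∧ orderOf x = 2}) : G) = (n : G) * x * (n : G)⁻¹ := rfl

variable (P : Sylow 2 G) (m : ℕ)

/-- The facts about the automizer of a homocyclic Sylow 2-subgroup of rank two. -/
lemma automizer_facts
    (e : (P : Subgroup G) ≃* Multiplicative (ZMod (2 ^ (m + 1)) × ZMod (2 ^ (m + 1)))) :
    let C := Subgroup.centralizer ((P : Subgroup G) : Set G)
    let N := Subgroup.normalizer ((P : Subgroup G) : Set G)
    (C.relIndex N = 1 ∨ C.relIndex N = 3) ∧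
      (C.relIndex N ≠ 1 →
        (∀ z ∈ (P : Subgroup G), z ≠ 1 → Subgroup.centralizer ({z} : Set G) ⊓ N = C) ∧
        ∀ s t : {x : G // x ∈ (P : Subgroup G) ∧ orderOf x = 2}, ∃ n : N, involutionHom _ n s = t) := by
  classical
  intro C N
  have hab : ∀ x ∈ (P : Subgroup G), ∀ y ∈ (P : Subgroup G), x * y = y * x := by
    intro x hx y hy
    exact congrArg Subtype.val (e.injective (by rw [map_mul, map_mul, mul_comm]) :
      (⟨x, hx⟩ : (P : Subgroup G)) * ⟨y, hy⟩ = ⟨y, hy⟩ * ⟨x, hx⟩)
  have hPC : (P : Subgroup G) ≤ C := fun x hx => Subgroup.mem_centralizer_iff.2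
    fun y hy => hab y hy x hx
  have hCN : C ≤ N := by
    intro c hc
    rw [Subgroup.mem_normalizer_iff]
    intro x
    constructor
    · intro hx
      have := Subgroup.mem_centralizer_iff.1 hc x hx
      rwa [← this, mul_inv_cancel_right]
    · intro hx
      have := Subgroup.mem_centralizer_iff.1 hc _ hx
      have e : x = c * x * c⁻¹ := by
        calc x = c⁻¹ * (c * x * c⁻¹ * c) := by group
          _ = c⁻¹ * (c * (c * x * c⁻¹)) := by rw [this]
          _ = c * x * c⁻¹ := by group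
      exact e ▸ hx
  haveI hnorm : (C.subgroupOf N).Normal :=
    Subgroup.normal_subgroupOf_iff hCN |>.2 fun c n hc hn => by
      rw [Subgroup.mem_centralizer_iff]
      intro x hx
      have h1 : n⁻¹ * x * n ∈ (P : Subgroup G) := (Subgroup.mem_normalizer_iff''.1 hn x).1 hx
      have h2 := Subgroup.mem_centralizer_iff.1 hc _ h1
      calc x * (n * c * n⁻¹) = n * (n⁻¹ * x * n * c) * n⁻¹ := by group
        _ = n * (c * (n⁻¹ * x * n)) * n⁻¹ := by rw [h2]
        _ = n * c * n⁻¹ * x := by group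
  have hodd : Odd (C.relIndex N) := by
    rw [Nat.odd_iff, ← Nat.two_dvd_ne_zero]
    intro h2
    exact P.not_dvd_index' (fun h => absurd h (Subgroup.index_ne_zero_of_finite))
      (h2.trans (dvd_trans (Subgroup.relIndex_dvd_of_le_left N hPC)
        (Subgroup.relIndex_dvd_index_of_le (Subgroup.le_normalizer))))
  have hker : (involutionHom (P : Subgroup G)).ker = C.subgroupOf N := by
    ext n
    rw [MonoidHom.mem_ker, Subgroup.mem_subgroupOf]
    constructor
    · intro hn
      have hpow : (n : G) ^ C.relIndex N ∈ C := by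
        have h5 : n ^ C.relIndex N ∈ C.subgroupOf N := Subgroup.pow_index_mem (C.subgroupOf N) n
        simpa [Subgroup.mem_subgroupOf] using h5
      rw [Subgroup.mem_centralizer_iff]
      intro x hx
      obtain ⟨j, hj⟩ := P.2 ⟨x, hx⟩
      have hfix := fixes_of_fixes_involutions hab
        (fun y hy => (Subgroup.mem_normalizer_iff.1 n.2 y).1 hy) hodd
        (fun y hy => by
          rw [← Subgroup.mem_centralizer_iff.1 hpow y hy, mul_inv_cancel_right])
        (fun y hy hy2 => by
          by_cases h1 : y = 1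
          · simp [h1]
          · exact congrArg Subtype.val (DFunLike.congr_fun hn
              ⟨y, hy, orderOf_eq_prime (by rw [sq, hy2]) h1⟩))
        j x hx (by simpa using congrArg Subtype.val hj)
      calc x * (n : G) = (n : G) * x * (n : G)⁻¹ * n := by rw [hfix]
        _ = n * x := by group
    · intro hn
      ext x
      rw [coe_involutionHom, Equiv.Perm.one_apply, ← Subgroup.mem_centralizer_iff.1 hn _ x.2.1,
        mul_inv_cancel_right]
  have hcard : Nat.card (involutionHom (P : Subgroup G)).range = C.relIndex N := by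
    rw [← Subgroup.index_ker, hker]; rfl
  have h6 : C.relIndex N ∣ 6 := by
    rw [← hcard]
    refine (Subgroup.card_subgroup_dvd_card _).trans ?_
    rw [Nat.card_perm, card_involutions _ m e]
    rfl
  have h13 : C.relIndex N = 1 ∨ C.relIndex N = 3 := by
    have h7 := Nat.le_of_dvd (by norm_num) h6
    have := Nat.odd_iff.1 hodd
    interval_cases (C.relIndex N) <;> simp_all
  refine ⟨h13, fun hne => ?_⟩
  have h3 := h13.resolve_left hne
  haveI : Finite {x : G // x ∈ (P : Subgroup G) ∧ orderOf x = 2} := Subtype.finite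
  haveI := Fintype.ofFinite {x : G // x ∈ (P : Subgroup G) ∧ orderOf x = 2}
  have hI : Fintype.card {x : G // x ∈ (P : Subgroup G) ∧ orderOf x = 2} = 3 := by
    rw [← Nat.card_eq_fintype_card, card_involutions _ m e]
  have hcyc : ∀ σ ∈ (involutionHom (P : Subgroup G)).range, σ ≠ 1 → σ.IsThreeCycle := by
    intro σ hσ hσ1
    have ho : orderOf σ = 3 := by
      have h8 : orderOf σ ∣ 3 := by
        rw [← h3, ← hcard, ← Subgroup.orderOf_mk σ hσ]
        exact orderOf_dvd_natCard _
      rcases (Nat.dvd_prime Nat.prime_three).1 h8 with h | h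
      · exact absurd (orderOf_eq_one_iff.1 h) hσ1
      · exact h
    obtain ⟨k, hk⟩ := Equiv.Perm.cycleType_prime_order (ho.symm ▸ Nat.prime_three)
    have h9 : σ.support.card = (k + 1) * 3 := by
      rw [← Equiv.Perm.sum_cycleType, hk, Multiset.sum_replicate, ho, smul_eq_mul]
    have h10 : σ.support.card ≤ 3 := hI ▸ Finset.card_le_univ _
    rw [← card_support_eq_three_iff]
    omega
  have hfree : ∀ σ ∈ (involutionHom (P : Subgroup G)).range, σ ≠ 1 → ∀ x, σ x ≠ x := by
    intro σ hσ hσ1 x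
    have h9 := (hcyc σ hσ hσ1).card_support
    have h10 : σ.support = Finset.univ :=
      Finset.eq_univ_of_card _ (by rw [h9, hI])
    exact Equiv.Perm.mem_support.1 (h10 ▸ Finset.mem_univ x)
  refine ⟨fun z hz hz1 => ?_, fun s t => ?_⟩
  · refine le_antisymm ?_ (le_inf (fun c hc => ?_) hCN)
    · rintro n ⟨hnz, hnN⟩
      obtain ⟨j, hj0⟩ : ∃ j, orderOf z = 2 ^ j := by
        obtain ⟨l, hl⟩ := P.2 ⟨z, hz⟩
        obtain ⟨j, -, hj⟩ := (Nat.dvd_prime_pow Nat.prime_two).1 (orderOf_dvd_of_pow_eq_one hl)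
        exact ⟨j, (Subgroup.orderOf_coe (⟨z, hz⟩ : (P : Subgroup G))).trans hj⟩
      obtain ⟨i, rfl⟩ : ∃ i, j = i + 1 := by
        refine ⟨j - 1, (Nat.succ_pred_eq_of_pos (Nat.pos_of_ne_zero fun h0 => hz1 ?_)).symm⟩
        rw [h0, pow_zero] at hj0
        exact orderOf_eq_one_iff.1 hj0
      have hw : orderOf (z ^ 2 ^ i) = 2 := by
        rw [orderOf_pow' _ (Nat.two_pow_pos i).ne', hj0,
          Nat.gcd_eq_right (pow_dvd_pow 2 i.le_succ), pow_succ,
          Nat.mul_div_cancel_left _ (Nat.two_pow_pos i)]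
      have hfix : involutionHom _ ⟨n, hnN⟩
          (⟨z ^ 2 ^ i, pow_mem hz _, hw⟩ : {x : G // x ∈ (P : Subgroup G) ∧ orderOf x = 2})
          = ⟨z ^ 2 ^ i, pow_mem hz _, hw⟩ := by
        apply Subtype.ext
        rw [coe_involutionHom]
        show n * z ^ 2 ^ i * n⁻¹ = z ^ 2 ^ i
        rw [← conj_pow, Subgroup.mem_centralizer_singleton_iff.1 hnz, mul_inv_cancel_right]
      have h1 : involutionHom _ ⟨n, hnN⟩ = 1 := by
        by_contra hne1
        exact hfree _ ⟨_, rfl⟩ hne1 _ hfix
      have h2 : (⟨n, hnN⟩ : N) ∈ C.subgroupOf N := hker ▸ MonoidHom.mem_ker.2 h1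
      exact h2
    · exact Subgroup.mem_centralizer_singleton_iff.2 (Subgroup.mem_centralizer_iff.1 hc z hz).symm
  · by_cases hst : s = t
    · exact ⟨1, by rw [map_one, Equiv.Perm.one_apply, hst]⟩
    obtain ⟨σ, hσ1⟩ : ∃ σ : (involutionHom (P : Subgroup G)).range, σ ≠ 1 := by
      by_contra h
      push Not at h
      have : Nat.card (involutionHom (P : Subgroup G)).range = 1 := by
        rw [Nat.card_eq_one_iff_unique]
        exact ⟨⟨fun a b => (h a).trans (h b).symm⟩, inferInstance⟩
      omega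
    have hσne : (σ : Equiv.Perm {x : G // x ∈ (P : Subgroup G) ∧ orderOf x = 2}) ≠ 1 :=
      fun h => hσ1 (Subtype.ext h)
    have hs := hfree _ σ.2 hσne
    have hs2 : (σ : Equiv.Perm _) ((σ : Equiv.Perm _) s) ≠ s := by
      intro hback
      have h11 : ((σ : Equiv.Perm {x : G // x ∈ (P : Subgroup G) ∧ orderOf x = 2}) ^ 2) s = s := by
        rw [sq, Equiv.Perm.mul_apply, hback]
      refine hfree _ (pow_mem σ.2 2) (fun h12 => ?_) s h11
      have := (hcyc _ σ.2 hσne).orderOf
      have h13 := orderOf_dvd_of_pow_eq_one h12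
      rw [this] at h13
      norm_num at h13
    have hall : ∀ y, y = s ∨ y = (σ : Equiv.Perm _) s ∨ y = (σ : Equiv.Perm _) ((σ : Equiv.Perm _) s) := by
      intro y
      have hu : ({s, (σ : Equiv.Perm _) s, (σ : Equiv.Perm _) ((σ : Equiv.Perm _) s)} :
          Finset {x : G // x ∈ (P : Subgroup G) ∧ orderOf x = 2}) = Finset.univ := by
        apply Finset.eq_univ_of_card
        rw [hI, Finset.card_insert_of_notMem, Finset.card_pair]
        · exact (hs _).symm
        · simp [(hs s).symm, hs2.symm]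
      have := hu ▸ Finset.mem_univ y
      simpa using this
    obtain ⟨n, hn⟩ := σ.2
    rw [← hn] at hall
    rcases hall t with h | h | h
    · exact absurd h.symm hst
    · exact ⟨n, h.symm⟩
    · exact ⟨n * n, by rw [map_mul, Equiv.Perm.mul_apply]; exact h.symm⟩

end CfsgLib.Blocks.Homocyclic
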