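import Cfsg.Agent.Lib.Blocks.DefectCentre

/-!
# Centres of defect groups of induced blocks
-/

set_option autoImplicit false
set_option synthInstance.maxHeartbeats 400000
set_option maxHeartbeats 1000000

namespace CfsgLib.Blocks

open Cfsg
open scoped Classical

universe u

variable {G : Type u} [Group G] [Finite G] {p : ℕ} [Fact p.Prime] {M : Ideal AlgInt} [M.IsMaximal]

/-- Central elements of the defect group of an induced block are conjugate into the centre of the
defect group of the inducing block. -/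
theorem exists_conj_mem_centre (hM : IsPModular p M) {H : Subgroup G} {b : Set (IrrCharacter H)}
    {B : Set (IrrCharacter G)} (hind : IsInducedBlock M H b B) {D : Subgroup H}
    (hD : IsDefectGroup p M b D) {P : Subgroup G} (hP : IsDefectGroup p M B P) {x : G}
    (hx : x ∈ P) (hxc : ∀ w ∈ P, x * w = w * x) :
    ∃ g : G, g * x * g⁻¹ ∈ D.map H.subtype ∧
      ∀ w ∈ D.map H.subtype, (g * x * g⁻¹) * w = w * (g * x * g⁻¹) := by
  obtain ⟨y, hy, hyP⟩ := (isDefectGroup_iff P).1 hP
  obtain ⟨χ, hχ⟩ := IsPBlock.nonempty hind.2.1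
  obtain ⟨ξ, hξ⟩ := IsPBlock.nonempty hind.1
  obtain ⟨-, -, k, hk, hcomm⟩ := isCentSylow_mul (IsDefectClass.regular hM hind.2.1 hy) hyP hx hxc
  have hne := not_memLocalIdeal_centralChar_mul hM hind.2.1 hy hyP hx hxc hχ
  rw [← lam_classSumC_eq_zero_iff, ← IsInducedBlock.lam_resCenter_eq hind hξ hχ, lam_apply,
    classEval] at hne
  obtain ⟨C, -, hC⟩ := Finset.exists_ne_zero_of_sum_ne_zero hne
  obtain ⟨hC1, hC2⟩ := mul_ne_zero_iff.1 hC
  rw [coeff_resCenter, coe_classSumC, coeff_classSum, ne_eq, ite_eq_right_iff, not_forall] at hC1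
  obtain ⟨hconj, -⟩ := hC1
  rw [Ne, red_eq_zero, coe_centralR] at hC2
  obtain ⟨w, hw, hwc, hwp⟩ := exists_isConj_ppart_mem hM hind.1 hD hξ hC2
  obtain ⟨z, hz⟩ := exists_isPPart (p := p) Fact.out w
  obtain ⟨hzD, hzc⟩ := hwp z hz
  have hzG : IsPPart p (w : G) (z : G) := by
    obtain ⟨u, hu, hcu, ⟨j, hj⟩, hreg⟩ := hz
    exact ⟨(u : G), by rw [← hu, Subgroup.coe_mul], hcu.map H.subtype,
      ⟨j, by rw [Subgroup.orderOf_coe, hj]⟩, by rw [Subgroup.orderOf_coe]; exact hreg⟩
  obtain ⟨n, hn⟩ := isConj_iff.1 hw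
  obtain ⟨g, hg⟩ := isConj_iff.1 hconj
  have hgw : ((n : G) * g) * (x * y) * ((n : G) * g)⁻¹ = (w : G) := by
    rw [← hn, Subgroup.coe_mul, Subgroup.coe_mul, InvMemClass.coe_inv, ← hg]
    group
  have h1 := IsPPart.conj (isPPart_of_commute hcomm hk (IsDefectClass.regular hM hind.2.1 hy))
    ((n : G) * g)
  rw [hgw] at h1
  refine ⟨(n : G) * g, ?_⟩
  rw [← IsPPart.unique Fact.out hzG h1]
  refine ⟨⟨z, hzD, rfl⟩, ?_⟩
  rintro _ ⟨v, hv, rfl⟩
  exact congrArg Subtype.val (hzc v hv)

/-- Defect zero passes to and from induced blocks. -/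
theorem blockDefect_eq_zero_iff_of_induced (hM : IsPModular p M) {H : Subgroup G}
    {b : Set (IrrCharacter H)} {B : Set (IrrCharacter G)} (hind : IsInducedBlock M H b B) :
    blockDefect p b = 0 ↔ blockDefect p B = 0 := by
  obtain ⟨D, hD⟩ := exists_defectGroup hM hind.1
  obtain ⟨E, hE, hDE⟩ := exists_defectGroup_ge hM hind hD
  have hcD := card_defectGroup hM hind.1 hD
  have hcE := card_defectGroup hM hind.2.1 hE
  have hp1 := (Fact.out : p.Prime).one_lt
  constructor
  · intro h0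
    rw [h0, pow_zero] at hcD
    have hD1 : D = ⊥ := Subgroup.eq_bot_of_card_eq _ hcD
    by_contra hne
    haveI : Nontrivial E := by
      rw [← Finite.one_lt_card_iff_nontrivial, hcE]
      exact Nat.one_lt_pow hne hp1
    obtain ⟨⟨x, hxE⟩, hxc, hx1⟩ :=
      (Subgroup.center E).ne_bot_iff_exists_ne_one.1
        (fun h => by
          have := (IsPGroup.center_nontrivial (isPGroup_defectGroup hE) : Nontrivial (Subgroup.center E))
          exact (Subgroup.nontrivial_iff_ne_bot _).1 this h) |> fun ⟨⟨a, ha⟩, ha1⟩ =>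
          (⟨a, ha, fun h => ha1 (Subtype.ext h)⟩ : ∃ a : E, a ∈ Subgroup.center E ∧ a ≠ 1)
    obtain ⟨g, hg, -⟩ := exists_conj_mem_centre hM hind hD hE hxE
      (fun w hw => congrArg Subtype.val ((Subgroup.mem_center_iff.1 hxc ⟨w, hw⟩).symm))
    rw [hD1, Subgroup.map_bot, Subgroup.mem_bot, conj_eq_one_iff] at hg
    exact hx1 (Subtype.ext hg)
  · intro h0
    rw [h0, pow_zero] at hcE
    have h1 := Subgroup.card_le_of_le hDE
    rw [hcE, Subgroup.card_map_of_injective (Subgroup.subtype_injective _), hcD] at h1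
    by_contra hne
    exact absurd h1 (not_le.2 (Nat.one_lt_pow hne hp1))

end CfsgLib.Blocks
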