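import Cfsg.Agent.Lib.Blocks.Osima
import Cfsg.Agent.Lib.BlockReg.Height
import Cfsg.Agent.Lib.Blk83.PrincipalBound
import Mathlib.GroupTheory.PGroup
import Mathlib.Algebra.CharP.Lemmas

/-!
# Külshammer's formula for the principal block idempotent
-/

set_option autoImplicit false
set_option maxHeartbeats 1000000
set_option synthInstance.maxHeartbeats 400000

namespace CfsgLib.Blocks

open Cfsg CfsgLib.Char
open scoped ComplexConjugate Classical

universe u v

section Power

variable {G : Type u} [Group G] [Fintype G] {F : Type v} [CommRing F]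

theorem pow_eq_sum_tuples (a : MonoidAlgebra F G) (n : ℕ) :
    a ^ n = ∑ f : Fin n → G,
      MonoidAlgebra.single (List.ofFn f).prod (∏ i, a.coeff (f i)) := by
  induction n with
  | zero => simp [MonoidAlgebra.one_def]
  | succ n ih =>
    have ha : a = ∑ h : G, MonoidAlgebra.single h (a.coeff h) := by
      ext x
      simp [Finsupp.single_apply]
    rw [pow_succ', ih, ← (Fin.consEquiv fun _ : Fin (n + 1) => G).sum_comp, Fintype.sum_prod_type]
    conv_lhs => rw [ha, Finset.sum_mul]
    refine Finset.sum_congr rfl fun h _ => ?_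
    rw [Finset.mul_sum]
    refine Finset.sum_congr rfl fun f _ => ?_
    rw [MonoidAlgebra.single_mul_single, List.ofFn_succ, List.prod_cons, Fin.prod_univ_succ]
    simp

omit [Fintype G] in
theorem sum_fixed_of_pGroup {p : ℕ} [Fact p.Prime] [CharP F p] {A : Type*} [Group A] [Finite A]
    (hA : IsPGroup p A) {X : Type*} [Fintype X] [MulAction A X] (w : X → F)
    (hw : ∀ (k : A) (x : X), w (k • x) = w x) :
    ∑ x, w x = ∑ x ∈ Finset.univ.filter (fun x => x ∈ MulAction.fixedPoints A X), w x := by
  rw [← Finset.sum_fiberwise_of_maps_to (t := Finset.univ.image w) (g := w)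
      (fun x _ => Finset.mem_image_of_mem w (Finset.mem_univ x)),
    ← Finset.sum_fiberwise_of_maps_to (s := Finset.univ.filter _) (t := Finset.univ.image w) (g := w)
      (fun x _ => Finset.mem_image_of_mem w (Finset.mem_univ x))]
  refine Finset.sum_congr rfl fun v _ => ?_
  rw [Finset.sum_congr rfl (g := fun _ => v) (fun x hx => (Finset.mem_filter.1 hx).2),
    Finset.sum_congr rfl (g := fun _ => v) (fun x hx => (Finset.mem_filter.1 hx).2),
    Finset.sum_const, Finset.sum_const, Finset.filter_filter, nsmul_eq_mul, nsmul_eq_mul]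
  congr 1
  let act : MulAction A {x : X // w x = v} :=
    { smul := fun k x => ⟨k • x.1, by rw [hw, x.2]⟩
      one_smul := fun x => Subtype.ext (one_smul A x.1)
      mul_smul := fun k l x => Subtype.ext (mul_smul k l x.1) }
  letI := act
  have hmod := hA.card_modEq_card_fixedPoints {x : X // w x = v}
  rw [Nat.card_eq_fintype_card, Fintype.card_subtype] at hmod
  have hfix : Nat.card (MulAction.fixedPoints A {x : X // w x = v}) =
      (Finset.univ.filter fun x : X => x ∈ MulAction.fixedPoints A X ∧ w x = v).card := by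
    rw [← Fintype.card_subtype, ← Nat.card_eq_fintype_card]
    exact Nat.card_congr
      { toFun := fun y => ⟨y.1.1, fun k => congrArg Subtype.val (y.2 k), y.1.2⟩
        invFun := fun y => ⟨⟨y.1, y.2.2⟩, fun k => Subtype.ext (y.2.1 k)⟩
        left_inv := fun _ => rfl
        right_inv := fun _ => rfl }
  rw [hfix] at hmod
  exact (CharP.natCast_eq_natCast F p).2 hmod

/-- The product of a cyclic word read from a point. -/
def cycleProd {q : ℕ} (f : ZMod q → G) : G := (List.ofFn fun i : Fin q => f (i : ℕ)).prod

omit [Fintype G] in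
theorem cycleProd_shift_one {q : ℕ} (f : ZMod q → G) :
    cycleProd (fun i => f (i + 1)) = (f 0)⁻¹ * cycleProd f * f 0 := by
  rcases q with _ | m
  · simp [cycleProd]
  unfold cycleProd
  conv_rhs => rw [List.ofFn_succ, List.prod_cons, Fin.val_zero, Nat.cast_zero, inv_mul_cancel_left]
  rw [List.ofFn_succ', List.concat_eq_append, List.prod_append, List.prod_singleton]
  congr 1
  · congr 1
    refine congrArg List.ofFn (funext fun i => congrArg f ?_)
    simp
  · show f (((Fin.last m : ℕ) : ZMod (m + 1)) + 1) = f 0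
    congr 1
    rw [Fin.val_last]
    exact_mod_cast ZMod.natCast_self (m + 1)

/-- In characteristic `p`, the trace of a `p`-power power is the sum of the powers of the
coefficients at elements of that exponent. -/
theorem coeff_pow_prime_pow_one {p : ℕ} [Fact p.Prime] [CharP F p] (a : MonoidAlgebra F G) (k : ℕ) :
    (a ^ p ^ k).coeff 1 =
      (∑ h ∈ Finset.univ.filter (fun h : G => h ^ p ^ k = 1), a.coeff h) ^ p ^ k := by
  set q := p ^ k with hq
  haveI : NeZero q := ⟨pow_ne_zero _ (Fact.out : p.Prime).ne_zero⟩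
  rw [pow_eq_sum_tuples]
  have hbij : Function.Bijective fun i : Fin q => ((i : ℕ) : ZMod q) := by
    rw [Fintype.bijective_iff_injective_and_card]
    refine ⟨fun i j h => Fin.ext ?_, by simp⟩
    have h1 := congrArg ZMod.val h
    rwa [ZMod.val_natCast, ZMod.val_natCast, Nat.mod_eq_of_lt i.2, Nat.mod_eq_of_lt j.2] at h1
  let e : Fin q ≃ ZMod q := Equiv.ofBijective _ hbij
  rw [← (Equiv.arrowCongr e.symm (Equiv.refl G)).sum_comp, MonoidAlgebra.coeff_sum,
    Finsupp.finsetSum_apply]
  have hterm : ∀ f : ZMod q → G,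
      (MonoidAlgebra.single (List.ofFn ((Equiv.arrowCongr e.symm (Equiv.refl G)) f)).prod
        (∏ i, a.coeff ((Equiv.arrowCongr e.symm (Equiv.refl G)) f i))).coeff 1 =
      if cycleProd f = 1 then ∏ i, a.coeff (f i) else 0 := by
    intro f
    rw [MonoidAlgebra.coeff_single, Finsupp.single_apply]
    have h1 : ((Equiv.arrowCongr e.symm (Equiv.refl G)) f) = fun i : Fin q => f ((i : ℕ) : ZMod q) := by
      funext i
      simp [e]
    rw [h1]
    refine if_congr Iff.rfl ?_ rfl
    exact e.prod_comp fun i => a.coeff (f i)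
  rw [Finset.sum_congr rfl fun f _ => hterm f]
  let act : MulAction (Multiplicative (ZMod q)) (ZMod q → G) :=
    { smul := fun k f i => f (i + k.toAdd)
      one_smul := fun f => by funext i; show f (i + 0) = f i; rw [add_zero]
      mul_smul := fun k l f => by
        funext i
        show f (i + (k.toAdd + l.toAdd)) = f (i + k.toAdd + l.toAdd)
        rw [add_assoc] }
  letI := act
  have hinv : ∀ (m : ℕ) (f : ZMod q → G), cycleProd (fun i => f (i + (m : ZMod q))) = 1 ↔
      cycleProd f = 1 := by
    intro m
    induction m with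
    | zero => intro f; simp
    | succ m ih =>
      intro f
      rw [show (fun i => f (i + ((m + 1 : ℕ) : ZMod q))) =
          (fun i => (fun j => f (j + 1)) (i + (m : ZMod q))) by funext i; push_cast; rw [add_assoc]]
      refine (ih fun j => f (j + 1)).trans ?_
      rw [cycleProd_shift_one]
      constructor
      · intro h
        have h2 := congrArg (fun x => f 0 * x * (f 0)⁻¹) h
        simpa [mul_assoc] using h2
      · intro h; simp [h]
  have hA : IsPGroup p (Multiplicative (ZMod q)) :=
    IsPGroup.of_card (n := k) (by simp [hq])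
  rw [sum_fixed_of_pGroup hA]
  · rw [sum_pow_char_pow, Finset.sum_filter, Finset.sum_filter]
    have hfix : ∀ f : ZMod q → G, f ∈ MulAction.fixedPoints (Multiplicative (ZMod q)) (ZMod q → G)
        ↔ ∃ h : G, (fun _ => h) = f := by
      intro f
      constructor
      · intro hf
        refine ⟨f 0, funext fun i => ?_⟩
        have h1 := congrFun (hf (Multiplicative.ofAdd i)) 0
        show f 0 = f i
        rw [← h1]
        show f (0 + i) = f i
        rw [zero_add]
      · rintro ⟨h, rfl⟩ l
        rfl
    rw [← Finset.sum_filter, Finset.sum_congr (s₂ := Finset.univ.image fun (h : G) (_ : ZMod q) => h)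
      (by ext f; simp only [Finset.mem_filter, Finset.mem_univ, true_and, Finset.mem_image, hfix f]) (fun _ _ => rfl),
      Finset.sum_image (fun x _ y _ hxy => congrFun hxy 0)]
    refine Finset.sum_congr rfl fun h _ => ?_
    have : cycleProd (fun _ : ZMod q => h) = h ^ q := by
      simp [cycleProd, List.ofFn_const]
    rw [this, Finset.prod_const, Finset.card_univ, ZMod.card]
  · intro l f
    show (if cycleProd (fun i => f (i + l.toAdd)) = 1 then _ else _) = _
    refine if_congr ?_ ?_ rfl
    · conv_lhs => rw [← ZMod.natCast_zmod_val l.toAdd]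
      exact hinv _ f
    · exact Fintype.prod_equiv (Equiv.addRight l.toAdd) _ _ fun i => rfl

end Power

section Formula

variable {G : Type u} [Group G] [Fintype G] {p : ℕ} [Fact p.Prime] {M : Ideal AlgInt}
  [M.IsMaximal]

/-- The sum of the coefficients along `p`-elements times `g`. -/
noncomputable def pSum (p : ℕ) (g : G)
    (z : Subalgebra.center (ResField M) (MonoidAlgebra (ResField M) G)) : ResField M :=
  ∑ x ∈ Finset.univ.filter (fun x : G => ∃ k : ℕ, orderOf x = p ^ k),
    (z : MonoidAlgebra (ResField M) G).coeff (x * g)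

omit [Fact p.Prime] in
theorem pSum_sub_smul (g : G) (c : ResField M)
    (z w : Subalgebra.center (ResField M) (MonoidAlgebra (ResField M) G)) :
    pSum p g (z - c • w) = pSum p g z - c * pSum p g w := by
  simp [pSum, Finset.sum_sub_distrib, Finset.mul_sum]

/-- Powers of the `p`-element sum. -/
theorem pSum_pow (hM : IsPModular p M) (g : G) {k : ℕ} (hk : Nat.card G ≤ k)
    (z : Subalgebra.center (ResField M) (MonoidAlgebra (ResField M) G)) :
    pSum p g z ^ p ^ k = (z ^ p ^ k : MonoidAlgebra (ResField M) G).coeff (g ^ p ^ k) := by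
  haveI : CharP (ResField M) p := charP_resField hM.1 (natCast_mem_of_isPModular hM)
  set a : MonoidAlgebra (ResField M) G := (z : MonoidAlgebra (ResField M) G) *
    MonoidAlgebra.single g⁻¹ 1 with ha
  have hcoeff : ∀ x, a.coeff x = (z : MonoidAlgebra (ResField M) G).coeff (x * g) := by
    intro x
    rw [ha, MonoidAlgebra.coeff_mul_single_apply]
    simp
  have hsum : pSum p g z = ∑ h ∈ Finset.univ.filter (fun h : G => h ^ p ^ k = 1), a.coeff h := by
    refine Finset.sum_congr ?_ fun x _ => (hcoeff x).symm
    ext x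
    simp only [Finset.mem_filter, Finset.mem_univ, true_and]
    constructor
    · rintro ⟨j, hj⟩
      rw [← orderOf_dvd_iff_pow_eq_one, hj]
      refine pow_dvd_pow p ((Nat.lt_pow_self hM.1.one_lt).le.trans ?_)
      rw [← hj]
      exact (Nat.le_of_dvd Nat.card_pos (orderOf_dvd_natCard x)).trans hk
    · intro h
      obtain ⟨j, -, hj⟩ := (Nat.dvd_prime_pow hM.1).1 (orderOf_dvd_of_pow_eq_one h)
      exact ⟨j, hj⟩
  have hcomm : Commute (z : MonoidAlgebra (ResField M) G) (MonoidAlgebra.single g⁻¹ 1) :=
    (Subalgebra.mem_center_iff.1 z.2 _).symm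
  rw [hsum, ← coeff_pow_prime_pow_one a k, ha, hcomm.mul_pow, MonoidAlgebra.single_pow, one_pow,
    MonoidAlgebra.coeff_mul_single_apply]
  simp

/-- The sum of the regular elements. -/
noncomputable def regSum (R : Type v) [CommRing R] (p : ℕ) :
    Subalgebra.center R (MonoidAlgebra R G) :=
  ⟨ofFun fun g => if p ∣ orderOf g then (0 : R) else 1, ofFun_mem_center fun u x => by
    have h : orderOf (u * x * u⁻¹) = orderOf x := MulEquiv.orderOf_eq (MulAut.conj u) x
    rw [h]⟩

theorem lam_regSum (hM : IsPModular p M) (χ : IrrCharacter G) :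
    lam M χ (regSum (ResField M) p) =
      (if χ ∈ principalBlock M G then (Nat.card {y : G // ¬ p ∣ orderOf y} : ResField M) else 0) := by
  have hmap : mapCenter (red M) (regSum (locRing M) p : Subalgebra.center (locRing M) _) =
      regSum (G := G) (ResField M) p := by
    refine Subtype.ext (MonoidAlgebra.ext (Finsupp.ext fun x => ?_))
    simp only [coe_mapCenter, regSum, coeff_map, coeff_ofFun]
    split_ifs <;> simp
  have hmapC : mapCenter (locRing M).subtype (regSum (locRing M) p : Subalgebra.center (locRing M) _)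
      = regSum (G := G) ℂ p := by
    refine Subtype.ext (MonoidAlgebra.ext (Finsupp.ext fun x => ?_))
    simp only [coe_mapCenter, regSum, coeff_map, coeff_ofFun]
    split_ifs <;> simp
  have hval : ∀ ψ : IrrCharacter G, omega ψ (regSum ℂ p) =
      (∑ g : G, if p ∣ orderOf g then 0 else (ψ : G → ℂ) g) / (ψ : G → ℂ) 1 := by
    intro ψ
    rw [omega_eq_sum]
    congr 1
    refine Finset.sum_congr rfl fun g _ => ?_
    simp only [regSum, coeff_ofFun]
    split_ifs <;> simp
  by_cases hχ : χ ∈ principalBlock M G
  · rw [if_pos hχ, ← IsPBlock.lam_eq isPBlock_principalBlock principalIrr_mem_principalBlock hχ,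
      ← hmap, lam_mapCenter, ← map_natCast (red M)]
    congr 1
    apply Subtype.ext
    rw [coe_lamR, hmapC, hval]
    simp only [principalIrr_apply, div_one]
    rw [Finset.sum_ite, Finset.sum_const_zero, zero_add, Finset.sum_const, nsmul_eq_mul, mul_one,
      ← Fintype.card_subtype, ← Nat.card_eq_fintype_card]
    simp
  · rw [if_neg hχ, ← hmap, lam_mapCenter, red_eq_zero, coe_lamR, hmapC, hval]
    have h0 := CfsgLib.BlockReg.classInner_tilde_eq_zero hM isPBlock_principalBlock
      principalIrr_mem_principalBlock hχ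
    have h1 : ∑ g : G, (if p ∣ orderOf g then 0 else conj ((χ : G → ℂ) g)) = 0 := by
      rw [classInner, mul_eq_zero, or_iff_right
        (inv_ne_zero (Nat.cast_ne_zero.2 Nat.card_pos.ne'))] at h0
      refine (mul_eq_zero.1 (Eq.trans ?_ h0)).resolve_left
        (Nat.cast_ne_zero.2 (pow_ne_zero ((Nat.card G).factorization p) hM.1.ne_zero) :
          ((p ^ (Nat.card G).factorization p : ℕ) : ℂ) ≠ 0)
      rw [Finset.mul_sum]
      refine Finset.sum_congr rfl fun g _ => ?_
      simp only [CfsgLib.BlockReg.tilde, principalIrr_apply]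
      split_ifs <;> ring
    have h2 : ∑ g : G, (if p ∣ orderOf g then 0 else (χ : G → ℂ) g) = 0 := by
      have h3 := congrArg conj h1
      rw [map_sum, map_zero] at h3
      refine Eq.trans (Finset.sum_congr rfl fun g _ => ?_) h3
      split_ifs <;> simp
    rw [h2, zero_div]
    exact CfsgLib.BlockReg.memIdeal_zero hM

/-- Külshammer's formula in the residue field. -/
theorem pSum_regSum_eq (hM : IsPModular p M) (g : G) (hg : ¬ p ∣ orderOf g) :
    pSum p g (regSum (ResField M) p) = (Nat.card {y : G // ¬ p ∣ orderOf y} : ResField M) *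
      (blockIdem (isPBlock_principalBlock (M := M) (G := G)) :
        MonoidAlgebra (ResField M) G).coeff g := by
  haveI : CharP (ResField M) p := charP_resField hM.1 (natCast_mem_of_isPModular hM)
  set e := blockIdem (isPBlock_principalBlock (M := M) (G := G))
  set R : ResField M := (Nat.card {y : G // ¬ p ∣ orderOf y} : ResField M)
  set n := regSum (ResField M) p - R • e with hn
  obtain ⟨N, hN⟩ := isNilpotent_of_lam_eq_zero n fun χ => by
    rw [hn, map_sub, map_smul, lam_regSum hM, lam_blockIdem, blockInd, smul_eq_mul]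
    split_ifs <;> simp [R]
  set o := orderOf g with ho
  set t := (o).totient with ht
  have hco : p.Coprime o := hM.1.coprime_iff_not_dvd.2 hg
  have ht0 : 0 < t := Nat.totient_pos.2 (orderOf_pos g)
  have hfix : ∀ m : ℕ, g ^ p ^ (t * m) = g := by
    intro m
    rw [pow_mul]
    have h1 : (p ^ t) ^ m ≡ 1 [MOD o] := by simpa using (Nat.ModEq.pow_totient hco).pow m
    conv_rhs => rw [← pow_one g]
    exact pow_eq_pow_iff_modEq.2 h1
  set k := t * (Nat.card G + N) with hk
  have hkG : Nat.card G ≤ k := le_trans (Nat.le_add_right _ N) (Nat.le_mul_of_pos_left _ ht0)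
  have hkN : N ≤ p ^ k := le_trans
    (le_trans (Nat.le_add_left N _) (Nat.le_mul_of_pos_left _ ht0)) (Nat.lt_pow_self hM.1.one_lt).le
  have hzero : pSum p g n = 0 := by
    refine eq_zero_of_pow_eq_zero (n := p ^ k) ?_
    rw [pSum_pow hM g hkG, hfix]
    have h1 : n ^ p ^ k = 0 := by
      rw [show p ^ k = N + (p ^ k - N) by omega, pow_add, hN, zero_mul]
    rw [show ((n : MonoidAlgebra (ResField M) G) ^ p ^ k) =
        ((n ^ p ^ k : Subalgebra.center (ResField M) _) : MonoidAlgebra (ResField M) G) from
      (SubmonoidClass.coe_pow n _).symm, h1]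
    simp
  have he : ∀ j : ℕ, 0 < j → e ^ j = e := fun j hj => by
    obtain ⟨i, rfl⟩ := Nat.exists_eq_succ_of_ne_zero hj.ne'
    exact (isIdempotentElem_blockIdem (isPBlock_principalBlock (M := M) (G := G))).pow_succ_eq i
  have hepow : ∀ m : ℕ, Nat.card G + N ≤ m → pSum p g e ^ p ^ (t * m) =
      (e : MonoidAlgebra (ResField M) G).coeff g := by
    intro m hm
    rw [pSum_pow hM g ((le_trans (Nat.le_add_right _ N) hm).trans (Nat.le_mul_of_pos_left _ ht0)),
      hfix, show ((e : MonoidAlgebra (ResField M) G) ^ p ^ (t * m)) =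
        ((e ^ p ^ (t * m) : Subalgebra.center (ResField M) _) : MonoidAlgebra (ResField M) G) from
      (SubmonoidClass.coe_pow e _).symm, he _ (pow_pos hM.1.pos _)]
  set c := (e : MonoidAlgebra (ResField M) G).coeff g
  have h1 := hepow (Nat.card G + N) le_rfl
  rw [← hk] at h1
  have h2 : c ^ p ^ k = c := by
    conv_lhs => rw [← h1]
    rw [← pow_mul, ← pow_add, hk, ← mul_add]
    exact hepow _ (Nat.le_add_right _ _)
  have hE : pSum p g e = c := by
    refine sub_eq_zero.1 (eq_zero_of_pow_eq_zero (n := p ^ k) ?_)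
    rw [sub_pow_char_pow, h1, h2, sub_self]
  rw [hn, pSum_sub_smul, hE, sub_eq_zero] at hzero
  exact hzero

/-- Külshammer's formula. -/
theorem kulshammer (hM : IsPModular p M) (g : G) (hg : ¬ p ∣ orderOf g) :
    MemLocalIdeal M (blockCoeff (principalBlock M G) g -
      (Nat.card {xy : G × G // (∃ k : ℕ, orderOf xy.1 = p ^ k) ∧ ¬ p ∣ orderOf xy.2 ∧
          xy.1 * xy.2 = g} : ℂ) / (Nat.card {y : G // ¬ p ∣ orderOf y} : ℂ)) := by
  set R := Nat.card {y : G // ¬ p ∣ orderOf y} with hR
  set Ng := Nat.card {xy : G × G // (∃ k : ℕ, orderOf xy.1 = p ^ k) ∧ ¬ p ∣ orderOf xy.2 ∧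
      xy.1 * xy.2 = g} with hNg
  have hRp : ¬ p ∣ R := CfsgLib.Blk83.not_dvd_card_regular (G := G) p
  have hcount : pSum p g (regSum (ResField M) p) = (Ng : ResField M) := by
    simp only [pSum, regSum, coeff_ofFun]
    rw [Finset.sum_ite, Finset.sum_const_zero, zero_add, Finset.sum_const, nsmul_eq_mul, mul_one,
      Finset.filter_filter, ← Fintype.card_subtype, ← Nat.card_eq_fintype_card]
    congr 1
    rw [hNg]
    refine Nat.card_congr
      { toFun := fun x => ⟨(x.1⁻¹, x.1 * g), by simpa using x.2.1, x.2.2, by simp⟩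
        invFun := fun xy => ⟨xy.1.1⁻¹, by simpa using xy.2.1, ?_⟩
        left_inv := fun x => by simp
        right_inv := fun xy => ?_ }
    · rw [inv_mul_eq_iff_eq_mul.2 xy.2.2.2.symm]
      exact xy.2.2.1
    · exact Subtype.ext (Prod.ext (inv_inv _) (inv_mul_eq_iff_eq_mul.2 xy.2.2.2.symm))
  have h := pSum_regSum_eq hM g hg
  rw [hcount, coeff_blockIdem, ← hR] at h
  have h1 : MemLocalIdeal M ((Ng : ℂ) - (R : ℂ) * blockCoeff (principalBlock M G) g) := by
    have := (memLocalIdeal_sub_iff (x := (Ng : locRing M)) (y := (R : locRing M) *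
      ⟨blockCoeff (principalBlock M G) g, blockCoeff_mem isPBlock_principalBlock g⟩)).2
      (by rw [map_natCast, map_mul, map_natCast]; exact h)
    simpa using this
  have hR0 : (R : ℂ) ≠ 0 := Nat.cast_ne_zero.2 fun h0 => hRp (h0 ▸ dvd_zero p)
  have h2 := CfsgLib.BlockReg.memIdeal_mul_left hM
    (CfsgLib.BlockReg.memRing_inv_natCast hM hRp) (CfsgLib.BlockReg.memIdeal_neg h1)
  convert h2 using 1
  field_simp
  ring

end Formula

end CfsgLib.Blocks
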