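import Cfsg.Agent.Lib.Blocks.Pairs.Basic
import Cfsg.Agent.Lib.DerivedLen.Linear
import Cfsg.Prelude.Def_Blocks
import Mathlib.LinearAlgebra.FiniteDimensional.Basic
import Mathlib.Algebra.Algebra.Bilinear

/-!
# A block algebra of the least possible dimension

If the dimension of `k G e` is at most `|P|² / |D|`, it is a transitive permutation module for
`P × P`, and the automisers of the subgroups `Q` with nonzero Brauer image are `p`-groups.
-/

set_option autoImplicit false
set_option maxHeartbeats 800000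

namespace CfsgLib.Blocks.MinimalDim

open CfsgLib.Blocks CfsgLib.Blocks.Pairs Module
open scoped Classical

universe u v

variable {k : Type v} [Field k] {G : Type u} [Group G] [Finite G] {p : ℕ} [Fact p.Prime] [CharP k p]

omit [Fact p.Prime] [CharP k p] in
theorem coeff_mul_single' (e : MonoidAlgebra k G) (g y : G) :
    (e * MonoidAlgebra.single g 1).coeff y = e.coeff (y * g⁻¹) := by
  rw [coeff_mul_single_group, mul_one]

/-- An idempotent times the sum of a `p`-subgroup does not vanish. -/
theorem mul_sum_single_ne_zero {P : Subgroup G} [Fintype P] (hP : IsPGroup p P)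
    {e : MonoidAlgebra k G} (he : e * e = e) (hc : ∀ a, e * a = a * e) (he0 : e ≠ 0) :
    e * ∑ z : P, MonoidAlgebra.single (z : G) (1 : k) ≠ 0 := by
  have := Fintype.ofFinite G
  intro h0
  let V := LinearMap.range (LinearMap.mulLeft k e)
  have hstab : ∀ (u : P) (a : MonoidAlgebra k G), a ∈ V →
      MonoidAlgebra.single (u : G) (1 : k) * a ∈ V := by
    rintro u _ ⟨a, rfl⟩
    refine ⟨MonoidAlgebra.single (u : G) 1 * a, ?_⟩
    rw [LinearMap.mulLeft_apply, LinearMap.mulLeft_apply, ← mul_assoc, hc, mul_assoc]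
  let ρ : P →* Module.End k V :=
    { toFun := fun u => (LinearMap.mulLeft k (MonoidAlgebra.single (u : G) (1 : k))).restrict
        (hstab u)
      map_one' := by
        ext ⟨a, ha⟩ : 2
        simp [← MonoidAlgebra.one_def]
      map_mul' := fun u w => by
        ext ⟨a, ha⟩ : 2
        show MonoidAlgebra.single ((u : G) * (w : G)) (1 : k) * a =
          MonoidAlgebra.single (u : G) (1 : k) * (MonoidAlgebra.single (w : G) (1 : k) * a)
        rw [← mul_assoc, MonoidAlgebra.single_mul_single, one_mul] }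
  have hne : (⊥ : Submodule k V) ≠ ⊤ := by
    intro hbt
    have : (⟨e, e, he⟩ : V) ∈ (⊥ : Submodule k V) := hbt ▸ Submodule.mem_top
    exact he0 (congrArg Subtype.val ((Submodule.mem_bot k).1 this))
  obtain ⟨⟨w, hwV⟩, hw0, hw⟩ := CfsgLib.DerivedLen.exists_fixed_mod hP (CharP.cast_eq_zero k p) ρ ⊥
    (fun u v hv => by rw [(Submodule.mem_bot k).1 hv, map_zero]; exact Submodule.zero_mem _) hne
  have hfix : ∀ u : P, MonoidAlgebra.single (u : G) (1 : k) * w = w := fun u =>
    sub_eq_zero.1 (congrArg Subtype.val ((Submodule.mem_bot k).1 (hw u)))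
  obtain ⟨a, rfl⟩ := hwV
  apply hw0
  rw [Submodule.mem_bot]
  refine Subtype.ext ?_
  show e * a = 0
  set w := LinearMap.mulLeft k e a with hwdef
  have hew : e * w = w := by rw [hwdef, LinearMap.mulLeft_apply, ← mul_assoc, he]
  change w = 0
  rw [← hew]
  -- `w` is constant on right cosets, and the coefficient sums of `e` on left cosets vanish
  have hwc : ∀ (u : P) (y : G), w.coeff ((u : G) * y) = w.coeff y := fun u y => by
    conv_lhs => rw [← hfix u, coeff_single_mul_group, one_mul, inv_mul_cancel_left]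
  have he' : ∀ x : G, ∑ z : P, e.coeff (x * (z : G)) = 0 := fun x => by
    have hx : (e * ∑ z : P, MonoidAlgebra.single (z : G) (1 : k)).coeff x = 0 := by rw [h0]; simp
    rw [Finset.mul_sum, MonoidAlgebra.coeff_sum, Finsupp.finsetSum_apply] at hx
    simp only [coeff_mul_single'] at hx
    rw [← hx]
    exact Fintype.sum_equiv (Equiv.inv P) _ _ fun z => by simp
  ext y
  rw [coeff_mul_group, MonoidAlgebra.coeff_zero, Finsupp.zero_apply,
    ← Finset.sum_fiberwise _ (QuotientGroup.mk : G → G ⧸ P)]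
  refine Finset.sum_eq_zero fun c _ => ?_
  obtain ⟨x₀, rfl⟩ := QuotientGroup.mk_surjective c
  have : Finset.univ.filter (fun x : G => (QuotientGroup.mk x : G ⧸ P) = QuotientGroup.mk x₀) =
      Finset.univ.image (fun z : P => x₀ * (z : G)) := by
    ext x
    simp only [Finset.mem_filter, Finset.mem_univ, true_and, Finset.mem_image, QuotientGroup.eq]
    constructor
    · intro hx
      exact ⟨⟨_, inv_mem hx⟩, by simp⟩
    · rintro ⟨z, rfl⟩
      simp
  rw [this, Finset.sum_image (fun z _ z' _ h => Subtype.ext (mul_left_cancel h))]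
  calc ∑ z : P, e.coeff (x₀ * (z : G)) * w.coeff ((x₀ * (z : G))⁻¹ * y)
      = ∑ z : P, e.coeff (x₀ * (z : G)) * w.coeff (x₀⁻¹ * y) := Finset.sum_congr rfl fun z _ => by
        rw [mul_inv_rev, mul_assoc, show ((z : G))⁻¹ = ((z⁻¹ : P) : G) from rfl, hwc]
    _ = 0 := by rw [← Finset.sum_mul, he', zero_mul]

/-- A block algebra of least dimension has `p`-groups as automisers. -/
theorem mem_centralizer_of_finrank_le {e : MonoidAlgebra k G} (he : e * e = e)
    (hc : ∀ a, e * a = a * e) (P : Sylow p G) {n : ℕ}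
    (hd : ∀ R : Subgroup G, IsPGroup p R → trunc R e ≠ 0 → Nat.card R ≤ n)
    (hdim : finrank k (LinearMap.range (LinearMap.mulLeft k e)) * n ≤
      Nat.card (P : Subgroup G) * Nat.card (P : Subgroup G))
    {Q : Subgroup G} (hQP : Q ≤ (P : Subgroup G)) (hQ : trunc Q e ≠ 0) {x : G}
    (hx : x ∈ Subgroup.normalizer (Q : Set G)) (hreg : Cfsg.IsPRegular p x) :
    x ∈ Subgroup.centralizer (Q : Set G) := by
  have := Fintype.ofFinite G
  have := Fintype.ofFinite (P : Subgroup G)
  have hp : p.Prime := Fact.out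
  have he0 : e ≠ 0 := fun h => hQ (by rw [h, trunc_zero])
  have hcl : ∀ u y : G, e.coeff (u * y * u⁻¹) = e.coeff y := fun u y => by
    have h1 := congrArg (fun a : MonoidAlgebra k G => a.coeff (u * y)) (hc (MonoidAlgebra.single u 1))
    simp only [coeff_mul_single', coeff_single_mul_group, one_mul, inv_mul_cancel_left] at h1
    exact h1
  letI : MulAction (P : Subgroup G) G := MulAction.compHom G
    ((ConjAct.toConjAct : G ≃* ConjAct G).toMonoidHom.comp (P : Subgroup G).subtype)
  have hsm : ∀ (u : (P : Subgroup G)) (y : G), u • y = (u : G) * y * (u : G)⁻¹ := fun u y =>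
    ConjAct.smul_def (ConjAct.toConjAct (u : G)) y
  obtain ⟨σ, hσ⟩ : ∃ σ : MonoidAlgebra k G,
      σ = ∑ z : (P : Subgroup G), MonoidAlgebra.single (z : G) (1 : k) := ⟨_, rfl⟩
  -- a class with a non-vanishing orbit sum
  obtain ⟨g, hg, hgS⟩ : ∃ g, e.coeff g ≠ 0 ∧
      e * (∑ h ∈ (MulAction.orbit (P : Subgroup G) g).toFinset, MonoidAlgebra.single h (1 : k)) * σ ≠ 0 := by
    by_contra hcon
    push Not at hcon
    refine mul_sum_single_ne_zero P.2 he hc he0 ?_
    rw [← hσ]
    calc e * σ = e * (∑ g, MonoidAlgebra.single g (e.coeff g)) * σ := by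
          congr 1
          conv_lhs => rw [← he]
          congr 1
          conv_lhs => rw [← MonoidAlgebra.sum_coeff_single e]
          exact Finsupp.sum_fintype _ _ fun _ => MonoidAlgebra.single_zero _
      _ = 0 := by
        rw [← Finset.sum_fiberwise _ (Quotient.mk'' : G → Quotient (MulAction.orbitRel (P : Subgroup G) G)),
          Finset.mul_sum, Finset.sum_mul]
        refine Finset.sum_eq_zero fun c _ => ?_
        obtain ⟨g, rfl⟩ := Quotient.exists_rep c
        have hset : Finset.univ.filter (fun h : G => (Quotient.mk'' h :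
            Quotient (MulAction.orbitRel (P : Subgroup G) G)) = ⟦g⟧) =
            (MulAction.orbit (P : Subgroup G) g).toFinset := by
          ext h
          simp only [Finset.mem_filter, Finset.mem_univ, true_and, Set.mem_toFinset]
          exact Quotient.eq''.trans MulAction.orbitRel_apply
        rw [hset, Finset.sum_congr rfl fun h hh => show MonoidAlgebra.single h (e.coeff h) =
            e.coeff g • MonoidAlgebra.single h (1 : k) by
          obtain ⟨u, rfl⟩ := Set.mem_toFinset.1 hh
          simp only [MonoidAlgebra.smul_single', mul_one, hsm, hcl]]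
        rw [← Finset.smul_sum, mul_smul_comm, smul_mul_assoc]
        rcases eq_or_ne (e.coeff g) 0 with h | h
        · rw [h, zero_smul]
        · rw [hcon g h, smul_zero]
  -- the permutation module
  let Ω := MulAction.orbit (P : Subgroup G) g × ↥(P : Subgroup G)
  have : Fintype Ω := Fintype.ofFinite Ω
  let act : ↥(P : Subgroup G) × ↥(P : Subgroup G) → Ω → Ω := fun a w =>
    (a.1 • w.1, a.1 * w.2 * a.2⁻¹)
  letI : MulAction (↥(P : Subgroup G) × ↥(P : Subgroup G)) Ω :=
    { smul := act
      one_smul := fun w => by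
        show act 1 w = w
        simp [act]
      mul_smul := fun a b w => by
        show act (a * b) w = act a (act b w)
        simp [act, mul_smul, mul_assoc] }
  let pos : Ω → G := fun w => ((w.1 : G)) * (w.2 : G)
  have hpos : ∀ (a : ↥(P : Subgroup G) × ↥(P : Subgroup G)) (w : Ω),
      pos (a • w) = (a.1 : G) * pos w * (a.2 : G)⁻¹ := fun a w => by
    show ((a.1 • w.1 : MulAction.orbit (P : Subgroup G) g) : G) *
      ((a.1 * w.2 * a.2⁻¹ : (P : Subgroup G)) : G) = _
    rw [MulAction.orbit.coe_smul, hsm]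
    simp [pos, mul_assoc]
  let L : (Ω → k) →ₗ[k] MonoidAlgebra k G :=
    ∑ w : Ω, (LinearMap.proj (R := k) (φ := fun _ : Ω => k) w).smulRight
      (e * MonoidAlgebra.single (pos w) 1)
  have hL : ∀ f, L f = ∑ w : Ω, f w • (e * MonoidAlgebra.single (pos w) 1) := fun f => by simp [L]
  have hLc : ∀ f y, (L f).coeff y = ∑ w : Ω, f w * e.coeff (y * (pos w)⁻¹) := fun f y => by
    rw [hL, MonoidAlgebra.coeff_sum, Finsupp.finsetSum_apply]
    simp [coeff_mul_single']
  have hLa : ∀ (a : ↥(P : Subgroup G) × ↥(P : Subgroup G)) (f : Ω → k) (y : G),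
      (L fun w => f (a⁻¹ • w)).coeff y = (L f).coeff ((a.1 : G)⁻¹ * y * a.2) := fun a f y => by
    rw [hLc, hLc]
    refine Fintype.sum_equiv (MulAction.toPerm (a⁻¹)) _ _ fun w => ?_
    rw [MulAction.toPerm_apply]
    congr 1
    rw [hpos, ← hcl (a.1 : G)⁻¹ _]
    congr 1
    simp [mul_assoc]
  have hinj : Function.Injective L := by
    rw [← LinearMap.ker_eq_bot]
    by_contra hker
    have hmem : ∀ (a : ↥(P : Subgroup G) × ↥(P : Subgroup G)) (f : Ω → k), f ∈ L.ker →
        (fun w => f (a⁻¹ • w)) ∈ L.ker := fun a f hf => by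
      rw [LinearMap.mem_ker] at hf ⊢
      ext y
      rw [hLa, hf]
      simp
    let ρ : ↥(P : Subgroup G) × ↥(P : Subgroup G) →* Module.End k L.ker :=
      { toFun := fun a => (LinearMap.funLeft k k (fun w : Ω => a⁻¹ • w)).restrict (hmem a)
        map_one' := by
          ext ⟨f, hf⟩ w
          simp [LinearMap.funLeft_apply]
        map_mul' := fun a b => by
          ext ⟨f, hf⟩ w
          show f ((a * b)⁻¹ • w) = f (b⁻¹ • a⁻¹ • w)
          rw [mul_inv_rev, mul_smul] }
    have hne : (⊥ : Submodule k L.ker) ≠ ⊤ := by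
      intro hbt
      refine hker (eq_bot_iff.2 fun f hf => ?_)
      have : (⟨f, hf⟩ : L.ker) ∈ (⊥ : Submodule k L.ker) := hbt ▸ Submodule.mem_top
      exact congrArg Subtype.val ((Submodule.mem_bot k).1 this)
    have hPP : IsPGroup p (↥(P : Subgroup G) × ↥(P : Subgroup G)) := by
      obtain ⟨j, hj⟩ := P.2.exists_card_eq
      exact IsPGroup.of_card (n := j + j) (by rw [Nat.card_prod, hj, pow_add])
    obtain ⟨⟨f, hf⟩, hf0, hfix⟩ := CfsgLib.DerivedLen.exists_fixed_mod
      hPP (CharP.cast_eq_zero k p) ρ ⊥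
      (fun u v hv => by rw [(Submodule.mem_bot k).1 hv, map_zero]; exact Submodule.zero_mem _) hne
    have hconst : ∀ (a : ↥(P : Subgroup G) × ↥(P : Subgroup G)) w, f (a⁻¹ • w) = f w := fun a w =>
      congrFun (congrArg Subtype.val (sub_eq_zero.1 ((Submodule.mem_bot k).1 (hfix a)))) w
    let w₀ : Ω := (⟨g, MulAction.mem_orbit_self g⟩, 1)
    have hf1 : f = fun _ => f w₀ := funext fun w => by
      obtain ⟨⟨h, u, hu⟩, z⟩ := w
      have := hconst (u, z⁻¹ * u)⁻¹ w₀
      rw [inv_inv] at this
      rw [← this]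
      refine congrArg f ?_
      refine Prod.ext (Subtype.ext ?_) ?_
      · show h = ((u • (⟨g, MulAction.mem_orbit_self g⟩ : MulAction.orbit (P : Subgroup G) g)) : _)
        rw [MulAction.orbit.coe_smul]
        exact hu.symm
      · show z = u * 1 * (z⁻¹ * u)⁻¹
        group
    have hc0 : f w₀ ≠ 0 := fun h => hf0 ((Submodule.mem_bot k).2 (Subtype.ext (hf1.trans (funext fun _ => h))))
    apply hgS
    have h0 : L (fun _ => f w₀) = 0 := hf1 ▸ (LinearMap.mem_ker.1 hf)
    rw [hL, ← Finset.smul_sum, smul_eq_zero] at h0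
    refine Eq.trans ?_ (h0.resolve_left hc0)
    refine Eq.trans ?_ (Fintype.sum_prod_type
      (fun w : MulAction.orbit (P : Subgroup G) g × ↥(P : Subgroup G) =>
        e * MonoidAlgebra.single (pos w) (1 : k))).symm |>.trans
      (Finset.sum_congr (by ext; simp) fun _ _ => rfl)
    rw [hσ]
    simp only [Finset.mul_sum, Finset.sum_mul]
    rw [Finset.sum_comm, ← Finset.sum_coe_sort (MulAction.orbit (P : Subgroup G) g).toFinset]
    refine Fintype.sum_equiv (Equiv.subtypeEquivRight fun h => Set.mem_toFinset) _ _ fun h => ?_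
    refine Finset.sum_congr rfl fun z _ => ?_
    rw [mul_assoc, MonoidAlgebra.single_mul_single, one_mul]
    rfl
  -- sizes
  let R : Subgroup G := (P : Subgroup G) ⊓ Subgroup.centralizer ({g} : Set G)
  have hRn : Nat.card R ≤ n := by
    refine hd R (P.2.to_le inf_le_left) fun h => hg ?_
    have hgC : g ∈ Subgroup.centralizer (R : Set G) := Subgroup.mem_centralizer_iff.2
      fun r hr => Subgroup.mem_centralizer_singleton_iff.1 hr.2
    have := congrArg (fun a : MonoidAlgebra k G => a.coeff g) h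
    simpa [hgC] using this
  have hcard : Nat.card Ω * Nat.card R =
      Nat.card (P : Subgroup G) * Nat.card (P : Subgroup G) := by
    have hst : Nat.card (MulAction.stabilizer (P : Subgroup G) g) = Nat.card R := by
      refine Nat.card_congr
        { toFun := fun u => ⟨(u.1 : G), u.1.2, Subgroup.mem_centralizer_singleton_iff.2
            (mul_inv_eq_iff_eq_mul.1 ((hsm u.1 g).symm.trans u.2))⟩
          invFun := fun r => ⟨⟨(r : G), r.2.1⟩, (hsm ⟨(r : G), r.2.1⟩ g).trans
            (mul_inv_eq_iff_eq_mul.2 (Subgroup.mem_centralizer_singleton_iff.1 r.2.2))⟩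
          left_inv := fun u => rfl
          right_inv := fun r => rfl }
    rw [Nat.card_prod, ← hst, mul_right_comm, ← Nat.card_prod,
      Nat.card_congr (MulAction.orbitProdStabilizerEquivGroup (P : Subgroup G) g)]
  let V := LinearMap.range (LinearMap.mulLeft k e)
  have hle : LinearMap.range L ≤ V := by
    rintro _ ⟨f, rfl⟩
    rw [hL]
    exact Submodule.sum_mem _ fun w _ => Submodule.smul_mem _ _ ⟨_, rfl⟩
  have hrange : LinearMap.range L = V := by
    refine Submodule.eq_of_le_of_finrank_le hle ?_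
    rw [LinearMap.finrank_range_of_inj hinj, Module.finrank_fintype_fun_eq_card,
      ← Nat.card_eq_fintype_card]
    have h1 : Nat.card Ω ≤ finrank k V := by
      refine le_trans (le_of_eq ?_) (Submodule.finrank_mono hle)
      rw [LinearMap.finrank_range_of_inj hinj, Module.finrank_fintype_fun_eq_card,
        Nat.card_eq_fintype_card]
    by_contra hlt
    have h2 : Nat.card Ω * Nat.card R < finrank k V * n :=
      (Nat.mul_le_mul_left _ hRn).trans_lt (Nat.mul_lt_mul_of_pos_right (not_le.1 hlt)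
        (Nat.card_pos.trans_le hRn))
    exact absurd (hdim.trans hcard.ge) (not_le.2 h2)
  -- the translate of `e` by `x`
  obtain ⟨f, hf⟩ : e * MonoidAlgebra.single x (1 : k) ∈ LinearMap.range L := hrange ▸ ⟨_, rfl⟩
  have hN : ∀ q ∈ Q, x⁻¹ * q * x ∈ Q := fun q hq => by
    have := (Subgroup.mem_normalizer_iff.1 (inv_mem hx) q).1 hq
    rwa [inv_inv] at this
  let ι : Q →* ↥(P : Subgroup G) × ↥(P : Subgroup G) :=
    { toFun := fun q => (⟨(q : G), hQP q.2⟩, ⟨x⁻¹ * (q : G) * x, hQP (hN q q.2)⟩)
      map_one' := by ext <;> simp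
      map_mul' := fun a b => by ext <;> simp [mul_assoc] }
  letI : MulAction Q Ω := MulAction.compHom Ω ι
  have hQs : ∀ (q : Q) (w : Ω), q • w = ι q • w := fun q w => rfl
  have hfQ : ∀ (q : Q) (w : Ω), f ((ι q)⁻¹ • w) = f w := by
    intro q w
    refine congrFun (hinj (MonoidAlgebra.ext (Finsupp.ext fun y => ?_)) : (fun w => f ((ι q)⁻¹ • w)) = f) w
    rw [hLa, hf, coeff_mul_single', coeff_mul_single', ← hcl (q : G) _]
    congr 1
    simp [ι, mul_assoc]
  obtain ⟨⟨h, z⟩, hw⟩ : ∃ w : Ω, w ∈ MulAction.fixedPoints Q Ω := by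
    by_contra hcon
    refine hQ ?_
    ext c
    rw [coeff_trunc, MonoidAlgebra.coeff_zero, Finsupp.zero_apply]
    split_ifs with hcC
    swap
    · rfl
    have hQp : IsPGroup p Q := P.2.to_le hQP
    have h1 : e.coeff c = (L f).coeff (c * x) := by
      rw [hf, coeff_mul_single', mul_inv_cancel_right]
    rw [h1, hLc, sum_eq_sum_fixed hQp]
    · refine Finset.sum_eq_zero fun w hw => absurd ⟨w, (Finset.mem_filter.1 hw).2⟩ hcon
    · intro q w
      rw [hQs, show f (ι q • w) = f w by
        have := hfQ q⁻¹ w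
        rwa [map_inv, inv_inv] at this]
      congr 1
      rw [hpos, ← hcl (q : G) (c * x * (pos w)⁻¹)]
      congr 1
      have hcq := Subgroup.mem_centralizer_iff.1 hcC q q.2
      simp only [ι, MonoidHom.coe_mk, OneHom.coe_mk, mul_inv_rev, inv_inv]
      calc c * x * (x⁻¹ * (q : G) * x * ((pos w)⁻¹ * (q : G)⁻¹))
          = c * (q : G) * x * (pos w)⁻¹ * (q : G)⁻¹ := by group
        _ = (q : G) * (c * x * (pos w)⁻¹) * (q : G)⁻¹ := by rw [← hcq]; group
  -- `x` acts on `Q` as an element of `P`
  have hfixq : ∀ q ∈ Q, (z : G) * (x⁻¹ * q * x) * (z : G)⁻¹ = q := fun q hq => by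
    have h1 := congrArg (fun w : Ω => ((w.2 : (P : Subgroup G)) : G)) (hw ⟨q, hq⟩)
    change q * (z : G) * (x⁻¹ * q * x)⁻¹ = (z : G) at h1
    conv_lhs => arg 1; arg 1; rw [← h1]
    group
  have hcent : x * (z : G)⁻¹ ∈ Subgroup.centralizer (Q : Set G) :=
    Subgroup.mem_centralizer_iff.2 fun q hq => by
      conv_rhs => rw [← hfixq q hq]
      group
  have hzN : (z : G) ∈ Subgroup.normalizer (Q : Set G) := by
    have h1 := mul_mem (inv_mem (Subgroup.centralizer_le_normalizer _ hcent)) hx
    simpa using h1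
  have hker : (Subgroup.normalizerMonoidHom Q) ⟨x, hx⟩ = Subgroup.normalizerMonoidHom Q ⟨(z : G), hzN⟩ := by
    ext q
    show x * (q : G) * x⁻¹ = (z : G) * (q : G) * (z : G)⁻¹
    have := hfixq _ ((Subgroup.mem_normalizer_iff.1 hx q).1 q.2)
    rw [← this]
    group
  have hone : (Subgroup.normalizerMonoidHom Q) ⟨x, hx⟩ = 1 := by
    rw [← orderOf_eq_one_iff]
    obtain ⟨j, hj⟩ := IsPGroup.iff_orderOf.1 P.2 z
    have hzord : orderOf (⟨(z : G), hzN⟩ : Subgroup.normalizer (Q : Set G)) = p ^ j := by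
      rw [← Subgroup.orderOf_coe, ← hj, ← Subgroup.orderOf_coe]
    have h1 : orderOf (Subgroup.normalizerMonoidHom Q ⟨x, hx⟩) ∣ p ^ j := by
      rw [hker, ← hzord]; exact orderOf_map_dvd _ _
    have h2 : orderOf (Subgroup.normalizerMonoidHom Q ⟨x, hx⟩) ∣ orderOf x := by
      refine (orderOf_map_dvd _ _).trans ?_
      rw [← Subgroup.orderOf_coe]
    exact Nat.eq_one_of_dvd_coprimes
      ((hp.coprime_iff_not_dvd.2 (hreg)).pow_left j) h1 h2
  refine Subgroup.mem_centralizer_iff.2 fun q hq => ?_
  have := congrArg (fun φ : MulAut Q => ((φ ⟨q, hq⟩ : Q) : G)) hone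
  exact (mul_inv_eq_iff_eq_mul.1 this).symm

end CfsgLib.Blocks.MinimalDim
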