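import Cfsg.Agent.Lib.Blocks.CentralizingDefect
import Cfsg.Agent.Lib.Blocks.CoverInduced
import Cfsg.Agent.Lib.Char.Ito
import Cfsg.Agent.Lib.Char.InertiaNorm
import Cfsg.Agent.Lib.CharDeep.PrimePowerDegrees

/-!
# Blocks with a normal defect group (Reynolds)
-/

set_option autoImplicit false
set_option maxHeartbeats 1000000
set_option synthInstance.maxHeartbeats 400000

namespace CfsgLib.Blocks

open Cfsg CfsgLib.Char CfsgLib.BlockReg CfsgLib.CharTwist
open scoped ComplexConjugate Classical

universe u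

variable {G : Type u} [Group G] [Finite G] {p : ℕ} [Fact p.Prime] {M : Ideal AlgInt} [M.IsMaximal]

omit [Fact p.Prime] [M.IsMaximal] in
theorem blockHeight_eq_zero_iff {B : Set (IrrCharacter G)} {χ : IrrCharacter G} (hχ : χ ∈ B) :
    blockHeight p B (χ : G → ℂ) = 0 ↔ (charDegree (χ : G → ℂ)).factorization p = minExp p B := by
  have h := minExp_le (p := p) hχ
  unfold blockHeight
  unfold minExp at h ⊢
  omega

/-- An abelian normal defect group: all heights vanish. -/
theorem height_zero_of_abelian_normal (hM : IsPModular p M) {B : Set (IrrCharacter G)}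
    (hB : IsPBlock M B) {P : Subgroup G} [P.Normal] (hP : IsDefectGroup p M B P)
    (hA : ∀ a ∈ P, ∀ c ∈ P, a * c = c * a) {χ : IrrCharacter G} (hχ : χ ∈ B) :
    blockHeight p B (χ : G → ℂ) = 0 := by
  rw [blockHeight_eq_zero_iff hχ]
  refine le_antisymm ?_ (minExp_le hχ)
  rw [minExp_eq_index hM hB hP]
  obtain ⟨n, ρ, hirr, hρ⟩ := χ.2
  haveI := hirr
  have h := finrank_dvd_index_of_abelian_normal ρ P hA
  have hd : charDegree (χ : G → ℂ) = Module.finrank ℂ (Fin n → ℂ) := by
    have h1 := deg_cast χ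
    conv_rhs at h1 => rw [← hρ, Representation.char_one]
    exact_mod_cast h1
  rw [hd]
  exact (Nat.factorization_le_iff_dvd (by rw [← hd]; exact (deg_pos χ).ne')
    Subgroup.index_ne_zero_of_finite).2 h p

/-- The number of elements fixing `θ` as a sum of squares of multiplicities. -/
theorem index_eq_inertia_index_mul_sum_sq [Fintype G] (N : Subgroup G) [N.Normal] [Fintype N]
    (θ : IrrCharacter N) {m : IrrCharacter G → ℕ}
    (hm : ∀ χ : IrrCharacter G, classInner (fun n : N => (χ : G → ℂ) n) (θ : N → ℂ) = m χ) :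
    N.index = (inertia N (θ : N → ℂ)).index * ∑ χ : IrrCharacter G, m χ ^ 2 := by
  have h1 := card_mul_classInner_indFun N θ.2 θ.2
  have h2 : ∀ χ : IrrCharacter G, classInner (indFun N (θ : N → ℂ)) (χ : G → ℂ) = m χ := fun χ => by
    rw [classInner_indFun N _ _ (IsIrrCharacter.isClassFunction χ.2), ← classInner_conj_symm, hm,
      map_natCast]
  have h3 : classInner (indFun N (θ : N → ℂ)) (indFun N (θ : N → ℂ)) =
      ((∑ χ : IrrCharacter G, m χ ^ 2 : ℕ) : ℂ) := by
    have h4 := IsClassFunction.eq_sum_classInner (isClassFunction_indFun N (θ : N → ℂ))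
    simp only [h2] at h4
    conv_lhs => arg 1; rw [h4]
    rw [classInner_sum_left, Nat.cast_sum]
    refine Finset.sum_congr rfl fun χ _ => ?_
    rw [classInner_smul_left, ← classInner_conj_symm, h2, map_natCast, Nat.cast_pow, sq]
  rw [h3] at h1
  have h5 : Nat.card N * (∑ χ : IrrCharacter G, m χ ^ 2) =
      Nat.card (inertia N (θ : N → ℂ)) := by exact_mod_cast h1
  have h6 := Subgroup.card_mul_index N
  rw [← Subgroup.card_mul_index (inertia N (θ : N → ℂ)), ← h5] at h6
  exact Nat.eq_of_mul_eq_mul_left (Nat.card_pos (α := N)) (by rw [h6]; ring)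

omit [M.IsMaximal] in
theorem sup_centralizer_subgroupOf (P : Subgroup G) [P.Normal]
    {L : Subgroup G} (hL : L = P ⊔ Subgroup.centralizer (P : Set G)) :
    P.subgroupOf L ⊔ Subgroup.centralizer (P.subgroupOf L : Set L) = ⊤ := by
  subst hL
  refine eq_top_iff.2 fun x _ => ?_
  obtain ⟨u, hu, c, hc, huc⟩ := Subgroup.mem_sup_of_normal_left.1 x.2
  have hx : x = ⟨u, le_sup_left (α := Subgroup G) hu⟩ * ⟨c, le_sup_right (α := Subgroup G) hc⟩ :=
    Subtype.ext huc.symm
  rw [hx]
  refine Subgroup.mul_mem_sup (Subgroup.mem_subgroupOf.2 hu) ?_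
  exact Subgroup.mem_centralizer_iff.2 fun v hv =>
    Subtype.ext (Subgroup.mem_centralizer_iff.1 hc (v : G) (Subgroup.mem_subgroupOf.1 hv))

/-- A block of `P ⊔ C(P)` inducing a block with normal defect group `P` has defect group `P`. -/
theorem isDefectGroup_subgroupOf (hM : IsPModular p M) {B : Set (IrrCharacter G)}
    (hB : IsPBlock M B) {P : Subgroup G} (hP : IsDefectGroup p M B P) {L : Subgroup G}
    (hPL : P ≤ L) [(P.subgroupOf L).Normal] {b : Set (IrrCharacter L)}
    (hind : IsInducedBlock M L b B) : IsDefectGroup p M b (P.subgroupOf L) := by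
  have hPp : IsPGroup p P := isPGroup_defectGroup hP
  obtain ⟨D', hD'⟩ := exists_defectGroup hM hind.1
  have hle := le_defectGroup_of_normal hM hind.1 hD' (Q := P.subgroupOf L)
    (hPp.of_equiv (Subgroup.subgroupOfEquivOfLe hPL).symm)
  obtain ⟨E, hE, hDE⟩ := exists_defectGroup_ge hM hind hD'
  obtain ⟨x, hx⟩ := defectGroup_conj hM hB hE hP
  have hcard : Nat.card D' ≤ Nat.card (P.subgroupOf L) := by
    rw [Nat.card_congr (Subgroup.subgroupOfEquivOfLe hPL).toEquiv]
    calc Nat.card D' = Nat.card (D'.map L.subtype) :=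
          (Subgroup.card_map_of_injective (Subgroup.subtype_injective _)).symm
      _ ≤ Nat.card E := Subgroup.card_le_of_le hDE
      _ = Nat.card P := by rw [← hx, card_map_conj]
  rw [Subgroup.eq_of_le_of_card_ge hle hcard]
  exact hD'

/-- Reynolds: if all heights vanish, a normal defect group is abelian. -/
theorem abelian_of_height_zero_normal (hM : IsPModular p M) {B : Set (IrrCharacter G)}
    (hB : IsPBlock M B) {P : Subgroup G} [P.Normal] (hP : IsDefectGroup p M B P)
    (hh : ∀ χ ∈ B, blockHeight p B (χ : G → ℂ) = 0) :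
    ∀ a ∈ P, ∀ c ∈ P, a * c = c * a := by
  haveI := Fintype.ofFinite G
  have hPp : IsPGroup p P := isPGroup_defectGroup hP
  haveI : (Subgroup.centralizer (P : Set G)).Normal := Subgroup.normal_centralizer
  set L := P ⊔ Subgroup.centralizer (P : Set G) with hLdef
  haveI := Fintype.ofFinite L
  haveI := Fintype.ofFinite (P.subgroupOf L)
  haveI : L.Normal := Subgroup.sup_normal _ _
  haveI : (P.subgroupOf L).Normal := Subgroup.normal_subgroupOf
  have hPL : P ≤ L := le_sup_left
  have hCL : Subgroup.centralizer (P : Set G) ≤ L := le_sup_right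
  have hQ : IsPGroup p (P.subgroupOf L) :=
    hPp.of_equiv (Subgroup.subgroupOfEquivOfLe hPL).symm
  have hG := sup_centralizer_subgroupOf P hLdef
  obtain ⟨χ₀, hχ₀⟩ := IsPBlock.nonempty hB
  obtain ⟨θ₀, hθ₀, hc₀⟩ := CfsgLib.Clifford.exists_constituent_res L χ₀.2
  set b := blockOf M θ₀ with hbdef
  have hind : IsInducedBlock M L b B := by
    rw [IsPBlock.eq_blockOf hB hχ₀]
    exact isInducedBlock_of_covers (θ := ⟨θ₀, hθ₀⟩) L hM hPp hCL hc₀
  have hD := isDefectGroup_subgroupOf hM hB hP hPL hind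
  obtain ⟨χL, hχL⟩ := exists_infl_mem (P.subgroupOf L) hM hQ hind.1
  set θ := infl (P.subgroupOf L) χL with hθdef
  -- the characters over `b` are in `B`
  have hover : ∀ φ ∈ b, ∀ χ : IrrCharacter G,
      classInner (fun n : L => (χ : G → ℂ) n) (φ : L → ℂ) ≠ 0 → χ ∈ B := by
    intro φ hφ χ hc
    have h := isInducedBlock_of_covers (M := M) L hM hPp hCL hc
    rw [← IsPBlock.eq_blockOf hind.1 hφ] at h
    exact IsInducedBlock.unique h hind ▸ mem_blockOf_self χ
  -- degrees in `B`
  have hidxP : P.index = (P.subgroupOf L).index * L.index :=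
    (Subgroup.relIndex_mul_index hPL).symm
  have hdeg : ∀ φ ∈ b, ∀ χ : IrrCharacter G, ∀ e : ℕ, e ≠ 0 →
      classInner (fun n : L => (χ : G → ℂ) n) (φ : L → ℂ) = e →
      (P.subgroupOf L).index.factorization p + L.index.factorization p =
        e.factorization p + (inertia L (φ : L → ℂ)).index.factorization p +
          (charDegree (φ : L → ℂ)).factorization p := by
    intro φ hφ χ e he0 hce
    have hc : classInner (fun n : L => (χ : G → ℂ) n) (φ : L → ℂ) ≠ 0 := by
      rw [hce]; exact_mod_cast he0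
    have hχ := hover φ hφ χ hc
    have h1 := (blockHeight_eq_zero_iff hχ).1 (hh χ hχ)
    rw [minExp_eq_index hM hB hP, hidxP, Nat.factorization_mul Subgroup.index_ne_zero_of_finite
      Subgroup.index_ne_zero_of_finite, Finsupp.add_apply] at h1
    have h2 := CfsgLib.Clifford.apply_one_eq L χ.2 φ.2 hc
    rw [hce, ← deg_cast χ, ← deg_cast φ] at h2
    have h3 : charDegree (χ : G → ℂ) =
        e * (inertia L (φ : L → ℂ)).index * charDegree (φ : L → ℂ) := by exact_mod_cast h2
    rw [h3, Nat.factorization_mul (mul_ne_zero he0 Subgroup.index_ne_zero_of_finite) (deg_pos φ).ne',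
      Finsupp.add_apply, Nat.factorization_mul he0 Subgroup.index_ne_zero_of_finite,
      Finsupp.add_apply] at h1
    exact h1.symm
  have hθv : (charDegree (θ : L → ℂ)).factorization p =
      (P.subgroupOf L).index.factorization p :=
    (canonical_character hM hQ hG hind.1 hD).2 θ hχL fun x hx =>
      infl_apply_mem (P.subgroupOf L) χL hx
  -- the inertia index of the canonical character
  choose m hm using fun χ : IrrCharacter G =>
    IsCharacter.exists_nat_classInner
      (CfsgLib.Clifford.isCharacter_res (IsIrrCharacter.isCharacter χ.2) L) θ.2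
  have hsum := index_eq_inertia_index_mul_sum_sq L θ hm
  set S := ∑ χ : IrrCharacter G, m χ ^ 2 with hSdef
  have hS0 : S ≠ 0 := fun h => Subgroup.index_ne_zero_of_finite (H := L) (by rw [hsum, h, mul_zero])
  have hIv : L.index.factorization p =
      (inertia L (θ : L → ℂ)).index.factorization p + S.factorization p := by
    rw [hsum, Nat.factorization_mul Subgroup.index_ne_zero_of_finite hS0, Finsupp.add_apply]
  have hdvd : p ^ (2 * S.factorization p) ∣ S := by
    refine Finset.dvd_sum fun χ _ => ?_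
    rcases eq_or_ne (m χ) 0 with h0 | h0
    · simp [h0]
    have h1 := hdeg θ hχL χ (m χ) h0 (hm χ)
    rw [hθv, hIv] at h1
    rw [mul_comm, pow_mul]
    exact pow_dvd_pow_of_dvd (((Fact.out : p.Prime).pow_dvd_iff_le_factorization h0).2 (by omega)) 2
  have hs : L.index.factorization p = (inertia L (θ : L → ℂ)).index.factorization p := by
    have := ((Fact.out : p.Prime).pow_dvd_iff_le_factorization hS0).1 hdvd
    omega
  -- a nonlinear character of the defect group
  by_contra hne
  obtain ⟨ξ, hξ⟩ : ∃ ξ : IrrCharacter (P.subgroupOf L),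
      (ξ : P.subgroupOf L → ℂ) 1 ≠ 1 := by
    by_contra hlin
    push Not at hlin
    refine hne fun a ha c hc => ?_
    exact congrArg (fun x : P.subgroupOf L => ((x : L) : G))
      (CfsgLib.CharDeep.PPowDeg.comm_of_linear hlin
        ⟨⟨a, hPL ha⟩, Subgroup.mem_subgroupOf.2 ha⟩ ⟨⟨c, hPL hc⟩, Subgroup.mem_subgroupOf.2 hc⟩)
  obtain ⟨φ, hφ, hφc⟩ := exists_mem_over hM hQ hG hind.1 hD ξ
  have hφ1 : (charDegree (φ : L → ℂ)) =
      charDegree (ξ : P.subgroupOf L → ℂ) * charDegree (θ : L → ℂ) := by
    have h := (block_values hM hQ hG hind.1 hD hχL hφ ξ hφc).1 1 1 (by simp [hM.1.ne_one])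
    rw [OneMemClass.coe_one, mul_one, ← deg_cast φ, ← deg_cast ξ, ← hθdef, ← deg_cast θ] at h
    exact_mod_cast h
  have hle : inertia L (φ : L → ℂ) ≤ inertia L (θ : L → ℂ) := by
    intro g hg
    have h1 := sameBlock_conjIrr L (block_congr hM hind.1 hφ hχL) g
    have h2 : conjIrr L φ g = φ := Subtype.ext (by rw [coe_conjIrr]; exact mem_inertia.1 hg)
    rw [h2] at h1
    have h3 : conjIrr L θ g ∈ b := mem_of_sameBlock hM hind.1 hφ h1
    have h4 : ∀ x ∈ P.subgroupOf L,
        (conjIrr L θ g : L → ℂ) x = (conjIrr L θ g : L → ℂ) 1 := by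
      intro x hx
      have hy : ∀ y : L, y ∈ P.subgroupOf L →
          (θ : L → ℂ) y = (θ : L → ℂ) 1 := fun y hy => infl_apply_mem _ χL hy
      rw [coe_conjIrr]
      simp only [conjFun]
      rw [hy _ (Subgroup.mem_subgroupOf.2 (Subgroup.Normal.conj_mem inferInstance (x : G)
        (Subgroup.mem_subgroupOf.1 hx) g))]
      exact congrArg (θ : L → ℂ) (Subtype.ext (by simp))
    have h5 := (canonical_character hM hQ hG hind.1 hD).1.unique ⟨h3, h4⟩
      ⟨hχL, fun x hx => infl_apply_mem _ χL hx⟩
    rw [mem_inertia]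
    exact Eq.trans (coe_conjIrr L θ g).symm (congrArg Subtype.val h5)
  obtain ⟨χ, hχc⟩ := exists_over_constituent L φ
  obtain ⟨e, he⟩ := IsCharacter.exists_nat_classInner
    (CfsgLib.Clifford.isCharacter_res (IsIrrCharacter.isCharacter χ.2) L) φ.2
  have he0 : e ≠ 0 := fun h => hχc (by rw [he, h, Nat.cast_zero])
  have h1 := hdeg φ hφ χ e he0 he
  rw [hφ1, Nat.factorization_mul (deg_pos ξ).ne' (deg_pos θ).ne', Finsupp.add_apply, hθv] at h1
  have h6 : (inertia L (θ : L → ℂ)).index.factorization p ≤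
      (inertia L (φ : L → ℂ)).index.factorization p :=
    (Nat.factorization_le_iff_dvd Subgroup.index_ne_zero_of_finite
      Subgroup.index_ne_zero_of_finite).2 (Subgroup.index_dvd_of_le hle) p
  obtain ⟨k, hk⟩ := IsPGroup.iff_card.1 hQ
  obtain ⟨i, -, hi⟩ := (Nat.dvd_prime_pow hM.1).1 (hk ▸ deg_dvd_card ξ)
  have hi0 : i = 0 := by
    have h7 : (charDegree (ξ : P.subgroupOf L → ℂ)).factorization p = 0 := by omega
    rwa [hi, hM.1.factorization_pow, Finsupp.single_eq_same] at h7
  exact hξ (by rw [← deg_cast ξ, hi, hi0, pow_zero, Nat.cast_one])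

end CfsgLib.Blocks
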