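import Cfsg.Agent.Lib.Blocks.NormalDefect
import Cfsg.Agent.Lib.Blocks.Induced

/-!
# When a normal `p`-subgroup is the defect group of a block induced from `P C(P)`
-/

set_option autoImplicit false
set_option maxHeartbeats 1000000
set_option synthInstance.maxHeartbeats 400000

namespace CfsgLib.Blocks

open Cfsg CfsgLib.Char CfsgLib.BlockReg CfsgLib.CharTwist
open scoped ComplexConjugate Classical

universe u

variable {G : Type u} [Group G] [Finite G] {p : ℕ} [Fact p.Prime] {M : Ideal AlgInt} [M.IsMaximal]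

theorem isDefectGroup_iff_minExp_eq (hM : IsPModular p M) {B : Set (IrrCharacter G)}
    (hB : IsPBlock M B) {P : Subgroup G} [P.Normal] (hPp : IsPGroup p P) :
    IsDefectGroup p M B P ↔ minExp p B = P.index.factorization p := by
  refine ⟨fun h => minExp_eq_index hM hB h, fun h => ?_⟩
  obtain ⟨D, hD⟩ := exists_defectGroup hM hB
  have hle := le_defectGroup_of_normal hM hB hD (Q := P) hPp
  have h1 := minExp_eq_index hM hB hD
  obtain ⟨i, hi⟩ := IsPGroup.iff_card.1 hPp
  obtain ⟨j, hj⟩ := IsPGroup.iff_card.1 (isPGroup_defectGroup hD)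
  have hsplit : ∀ (K : Subgroup G) (k : ℕ), Nat.card K = p ^ k →
      (Nat.card G).factorization p = k + K.index.factorization p := by
    intro K k hk
    rw [← Subgroup.card_mul_index K,
      Nat.factorization_mul Nat.card_pos.ne' Subgroup.index_ne_zero_of_finite, Finsupp.add_apply,
      hk, hM.1.factorization_pow, Finsupp.single_eq_same]
  have h2 := hsplit P i hi
  have h3 := hsplit D j hj
  have hij : i = j := by omega
  rw [Subgroup.eq_of_le_of_card_ge hle (le_of_eq (by rw [hi, hj, hij]))]
  exact hD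

/-- A block induced from `P C(P)` has the normal defect group `P` exactly when the index of
`P C(P)` in the stabiliser of the inducing block is prime to `p`. -/
theorem isDefectGroup_iff_not_dvd_relIndex (hM : IsPModular p M) {P : Subgroup G} [P.Normal]
    (hPp : IsPGroup p P) {L : Subgroup G} [L.Normal]
    (hL : L = P ⊔ Subgroup.centralizer (P : Set G)) {b : Set (IrrCharacter L)}
    (hD : IsDefectGroup p M b (P.subgroupOf L)) {B : Set (IrrCharacter G)}
    (hind : IsInducedBlock M L b B) {T : Subgroup G}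
    (hT : ∀ g : G, g ∈ T ↔ ∀ θ ∈ b, conjIrr L θ g ∈ b) :
    IsDefectGroup p M B P ↔ ¬ p ∣ L.relIndex T := by
  haveI := Fintype.ofFinite G
  haveI := Fintype.ofFinite L
  haveI : (P.subgroupOf L).Normal := Subgroup.normal_subgroupOf
  have hPL : P ≤ L := hL ▸ le_sup_left
  have hCL : Subgroup.centralizer (P : Set G) ≤ L := hL ▸ le_sup_right
  have hQ : IsPGroup p (P.subgroupOf L) :=
    hPp.of_equiv (Subgroup.subgroupOfEquivOfLe hPL).symm
  have hG := sup_centralizer_subgroupOf P hL
  have hb := hind.1
  obtain ⟨χL, hχL⟩ := exists_infl_mem (P.subgroupOf L) hM hQ hb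
  set θ := infl (P.subgroupOf L) χL with hθdef
  set k := (P.subgroupOf L).index.factorization p with hk
  have hθv : (charDegree (θ : L → ℂ)).factorization p = k :=
    (canonical_character hM hQ hG hb hD).2 θ hχL fun x hx =>
      infl_apply_mem (P.subgroupOf L) χL hx
  have hbv : ∀ φ ∈ b, k ≤ (charDegree (φ : L → ℂ)).factorization p := fun φ hφ => by
    rw [hk, ← minExp_eq_index hM hb hD]
    exact minExp_le hφ
  have hstab : ∀ φ ∈ b, ∀ g : G, conjIrr L φ g ∈ b → g ∈ T := by
    intro φ hφ g hg
    refine (hT g).2 fun η hη => ?_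
    rw [IsPBlock.eq_blockOf hb hφ] at hη
    rw [IsPBlock.eq_blockOf hb hg]
    exact sameBlock_conjIrr L hη g
  have hIle : ∀ φ ∈ b, inertia L (φ : L → ℂ) ≤ T := fun φ hφ g hg => hstab φ hφ g (by
    rwa [show conjIrr L φ g = φ from Subtype.ext (mem_inertia.1 hg)])
  have hIθ : inertia L (θ : L → ℂ) = T := by
    refine le_antisymm (hIle θ hχL) fun g hg => ?_
    have h3 := (hT g).1 hg θ hχL
    have h4 : ∀ x ∈ P.subgroupOf L,
        (conjIrr L θ g : L → ℂ) x = (conjIrr L θ g : L → ℂ) 1 := by
      intro x hx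
      have hy : ∀ y : L, y ∈ P.subgroupOf L →
          (θ : L → ℂ) y = (θ : L → ℂ) 1 := fun y hy => infl_apply_mem _ χL hy
      rw [coe_conjIrr]
      simp only [conjFun]
      rw [hy _ (Subgroup.mem_subgroupOf.2 (Subgroup.Normal.conj_mem inferInstance (x : G)
        (Subgroup.mem_subgroupOf.1 hx) g))]
      exact congrArg (θ : L → ℂ) (Subtype.ext (by simp))
    have h5 := (canonical_character hM hQ hG hb hD).1.unique ⟨h3, h4⟩
      ⟨hχL, fun x hx => infl_apply_mem _ χL hx⟩
    rw [mem_inertia]
    exact Eq.trans (coe_conjIrr L θ g).symm (congrArg Subtype.val h5)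
  have hover : ∀ φ ∈ b, ∀ χ : IrrCharacter G,
      classInner (fun n : L => (χ : G → ℂ) n) (φ : L → ℂ) ≠ 0 → χ ∈ B := by
    intro φ hφ χ hc
    have h := isInducedBlock_of_covers (M := M) L hM hPp hCL hc
    rw [← IsPBlock.eq_blockOf hb hφ] at h
    exact IsInducedBlock.unique h hind ▸ mem_blockOf_self χ
  have hdeg : ∀ (φ : IrrCharacter L) (χ : IrrCharacter G) (e : ℕ), e ≠ 0 →
      classInner (fun n : L => (χ : G → ℂ) n) (φ : L → ℂ) = e →
      (charDegree (χ : G → ℂ)).factorization p =
        e.factorization p + (inertia L (φ : L → ℂ)).index.factorization p +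
          (charDegree (φ : L → ℂ)).factorization p := by
    intro φ χ e he0 hce
    have hc : classInner (fun n : L => (χ : G → ℂ) n) (φ : L → ℂ) ≠ 0 := by
      rw [hce]; exact_mod_cast he0
    have h2 := CfsgLib.Clifford.apply_one_eq L χ.2 φ.2 hc
    rw [hce, ← deg_cast χ, ← deg_cast φ] at h2
    have h3 : charDegree (χ : G → ℂ) =
        e * (inertia L (φ : L → ℂ)).index * charDegree (φ : L → ℂ) := by exact_mod_cast h2
    rw [h3, Nat.factorization_mul (mul_ne_zero he0 Subgroup.index_ne_zero_of_finite) (deg_pos φ).ne',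
      Finsupp.add_apply, Nat.factorization_mul he0 Subgroup.index_ne_zero_of_finite,
      Finsupp.add_apply]
  choose m hm using fun χ : IrrCharacter G =>
    IsCharacter.exists_nat_classInner
      (CfsgLib.Clifford.isCharacter_res (IsIrrCharacter.isCharacter χ.2) L) θ.2
  have hsum := index_eq_inertia_index_mul_sum_sq L θ hm
  rw [hIθ] at hsum
  set S := ∑ χ : IrrCharacter G, m χ ^ 2 with hSdef
  have hLT : L ≤ T := hIθ ▸ CharTwist.le_inertia L (IsIrrCharacter.isClassFunction θ.2)
  have hS : L.relIndex T = S := Nat.eq_of_mul_eq_mul_left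
    (Nat.pos_of_ne_zero (Subgroup.index_ne_zero_of_finite (H := T)))
    (by rw [← hsum, mul_comm, Subgroup.relIndex_mul_index hLT])
  have hS0 : S ≠ 0 := fun h => Subgroup.index_ne_zero_of_finite (H := L) (by rw [hsum, h, mul_zero])
  have hIv : L.index.factorization p = T.index.factorization p + S.factorization p := by
    rw [hsum, Nat.factorization_mul Subgroup.index_ne_zero_of_finite hS0, Finsupp.add_apply]
  have hPv : P.index.factorization p = k + L.index.factorization p := by
    rw [show P.index = (P.subgroupOf L).index * L.index from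
      (Subgroup.relIndex_mul_index hPL).symm, Nat.factorization_mul
      Subgroup.index_ne_zero_of_finite Subgroup.index_ne_zero_of_finite,
      Finsupp.add_apply]
  rw [isDefectGroup_iff_minExp_eq hM hind.2.1 hPp, hS]
  constructor
  · intro hmin hpS
    have hdvd : p ^ (2 * S.factorization p) ∣ S := by
      refine Finset.dvd_sum fun χ _ => ?_
      rcases eq_or_ne (m χ) 0 with h0 | h0
      · simp [h0]
      have hχ := hover θ hχL χ (by rw [hm]; exact_mod_cast h0)
      have h1 := hdeg θ χ (m χ) h0 (hm χ)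
      have h2 := minExp_le (p := p) hχ
      rw [hθv, hIθ] at h1
      rw [hmin, h1, hPv, hIv] at h2
      rw [mul_comm, pow_mul]
      exact pow_dvd_pow_of_dvd
        (((Fact.out : p.Prime).pow_dvd_iff_le_factorization h0).2 (by omega)) 2
    have := ((Fact.out : p.Prime).pow_dvd_iff_le_factorization hS0).1 hdvd
    have := (Fact.out : p.Prime).factorization_pos_of_dvd hS0 hpS
    omega
  · intro hpS
    rw [hPv, hIv, Nat.factorization_eq_zero_of_not_dvd hpS, add_zero]
    obtain ⟨χ₁, hχ₁⟩ : ∃ χ : IrrCharacter G, ¬ p ∣ m χ := by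
      by_contra hall
      push Not at hall
      exact hpS (Finset.dvd_sum fun χ _ => dvd_pow (hall χ) two_ne_zero)
    have h10 : m χ₁ ≠ 0 := fun h => hχ₁ (h ▸ dvd_zero p)
    refine le_antisymm ?_ ?_
    · refine le_of_le_of_eq (minExp_le (hover θ hχL χ₁ (by rw [hm]; exact_mod_cast h10))) ?_
      rw [hdeg θ χ₁ (m χ₁) h10 (hm χ₁), hIθ, hθv, Nat.factorization_eq_zero_of_not_dvd hχ₁]
      omega
    · obtain ⟨χ, hχ, hmin⟩ := exists_minExp (p := p) (IsPBlock.nonempty hind.2.1)
      obtain ⟨χ₀, hχ₀, θ₁, hθ₁, hc₀⟩ := exists_covering_of_induced L hM hPp hCL hind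
      obtain ⟨η, hη, hηc⟩ := CfsgLib.Clifford.exists_constituent_res L χ.2
      obtain ⟨g, hg⟩ := constituent_mem_conjClosure (M := M) L (ψ := ⟨η, hη⟩) hb
        (block_congr hM hind.2.1 hχ₀ hχ) hθ₁ hc₀ hηc
      set φ := conjIrr L ⟨η, hη⟩ g with hφ
      have hcφ : classInner (fun n : L => (χ : G → ℂ) n) (φ : L → ℂ) ≠ 0 := by
        rw [hφ, coe_conjIrr, CfsgLib.Clifford.classInner_res_conjFun L
          (IsIrrCharacter.isClassFunction χ.2)]
        exact hηc
      obtain ⟨e, he⟩ := IsCharacter.exists_nat_classInner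
        (CfsgLib.Clifford.isCharacter_res (IsIrrCharacter.isCharacter χ.2) L) φ.2
      have he0 : e ≠ 0 := fun h => hcφ (by rw [he, h, Nat.cast_zero])
      rw [← hmin, hdeg φ χ e he0 he]
      have h1 := hbv φ hg
      have h2 : T.index.factorization p ≤ (inertia L (φ : L → ℂ)).index.factorization p :=
        (Nat.factorization_le_iff_dvd Subgroup.index_ne_zero_of_finite
          Subgroup.index_ne_zero_of_finite).2 (Subgroup.index_dvd_of_le (hIle φ hg)) p
      omega

end CfsgLib.Blocks
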