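import Cfsg.Agent.Lib.Blocks.Osima
import Cfsg.Agent.Lib.BlockReg.Basic
import Cfsg.Agent.Lib.BlockReg.LocalRing
import Cfsg.Agent.Lib.Char.Orth
import Cfsg.Agent.Lib.Char.Linear

/-!
# Characters of prime power degree in the principal block of a simple group
-/

set_option autoImplicit false

namespace CfsgLib.Blocks

open Cfsg CfsgLib.Char
open scoped ComplexConjugate

universe u

variable {G : Type u} [Group G] [Finite G]

/-- An irreducible character with constant value is the principal character. -/
theorem eq_one_of_const (χ : IrrCharacter G) (h : ∀ g, (χ : G → ℂ) g = (χ : G → ℂ) 1) :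
    (χ : G → ℂ) = fun _ => 1 := by
  haveI := Fintype.ofFinite G
  obtain ⟨n, hn, hn1⟩ := IsIrrCharacter.exists_degree χ.2
  have h1 := classInner_irr_self χ.2
  rw [Cfsg.classInner] at h1
  simp only [h, hn1, Complex.conj_natCast, Finset.sum_const, Finset.card_univ,
    ← Nat.card_eq_fintype_card, nsmul_eq_mul] at h1
  rw [← mul_assoc, inv_mul_cancel₀ (by exact_mod_cast Nat.card_pos.ne'), one_mul] at h1
  have h2 : n * n = 1 := by exact_mod_cast h1
  have h3 : n = 1 := Nat.eq_one_of_mul_eq_one_right h2
  funext g
  rw [h g, hn1, h3]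
  norm_num

/-- A character of `p`-power degree in the principal `p`-block of a nonabelian simple group is
principal. -/
theorem eq_one_of_pow_degree {p : ℕ} [Fact p.Prime] {M : Ideal AlgInt} (hM : IsPModular p M)
    [IsSimpleGroup G] (hna : ∃ a b : G, a * b ≠ b * a) (χ : IrrCharacter G)
    (hχ : χ ∈ principalBlock M G) (k : ℕ) (hdeg : (χ : G → ℂ) 1 = (p : ℂ) ^ k) :
    (χ : G → ℂ) = fun _ => 1 := by
  obtain ⟨a, b, hab⟩ := hna
  rcases Nat.eq_zero_or_pos k with rfl | hk
  · rw [pow_zero] at hdeg
    obtain ⟨f, hf⟩ := IsCharacter.exists_linear (IsIrrCharacter.isCharacter χ.2) hdeg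
    rcases IsSimpleGroup.eq_bot_or_eq_top_of_normal f.ker inferInstance with h | h
    · refine absurd ?_ hab
      refine (MonoidHom.ker_eq_bot_iff f).1 h ?_
      rw [map_mul, map_mul, mul_comm]
    · funext g
      have hg : g ∈ f.ker := by rw [h]; trivial
      rw [hf g, MonoidHom.mem_ker.1 hg, Units.val_one]
  · obtain ⟨n, ρ, hρ, hρχ⟩ := χ.2
    have hp : p.Prime := Fact.out
    have hn : n = p ^ k := by
      have := hdeg
      rw [← hρχ, Representation.char_one, Module.finrank_fin_fun] at this
      exact_mod_cast this
    have hdvd : p ∣ Nat.card G := by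
      have := finrank_dvd_card ρ
      rw [Module.finrank_fin_fun, hn] at this
      exact (dvd_pow_self p hk.ne').trans this
    obtain ⟨P⟩ : Nonempty (Sylow p G) := inferInstance
    haveI : Nontrivial P := by
      rw [← Finite.one_lt_card_iff_nontrivial]
      have h1 := P.dvd_card_of_dvd_card hdvd
      exact lt_of_lt_of_le hp.one_lt (Nat.le_of_dvd Nat.card_pos h1)
    haveI := P.isPGroup'.center_nontrivial
    obtain ⟨⟨z, hz⟩, hz1⟩ := exists_ne (1 : Subgroup.center P)
    set g : G := (z : G) with hg
    have hg1 : g ≠ 1 := by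
      intro h
      exact hz1 (Subtype.ext (Subtype.ext h))
    have hPC : (P : Subgroup G) ≤ Subgroup.centralizer ({g} : Set G) := by
      intro x hx
      rw [Subgroup.mem_centralizer_singleton_iff]
      exact congrArg Subtype.val (Subgroup.mem_center_iff.1 hz ⟨x, hx⟩)
    have hidx : ¬ p ∣ (Subgroup.centralizer ({g} : Set G)).index := fun h =>
      P.not_dvd_index (h.trans (Subgroup.index_dvd_of_le hPC))
    have hcop : Nat.Coprime (Module.finrank ℂ (Fin n → ℂ))
        (Subgroup.centralizer ({g} : Set G)).index := by
      rw [Module.finrank_fin_fun, hn]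
      exact Nat.Coprime.pow_left _ (hp.coprime_iff_not_dvd.2 hidx)
    rcases char_eq_zero_or_norm_eq_finrank ρ g hcop with h0 | hnorm
    · exfalso
      apply hidx
      rw [← CfsgLib.BlockReg.memIdeal_natCast_iff hM]
      have h := (hχ : SameBlock M (fun _ : G => (1 : ℂ)) (χ : G → ℂ)) g
      simpa [centralChar, ← hρχ, h0] using h
    · obtain ⟨ω, hω⟩ := eq_smul_one_of_norm_character_eq ρ g hnorm
      rcases IsSimpleGroup.eq_bot_or_eq_top_of_normal ρ.asGroupHom.ker inferInstance with h | h
      · exfalso
        have hcen : ∀ y : G, y * g = g * y := by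
          intro y
          refine (MonoidHom.ker_eq_bot_iff _).1 h (Units.ext ?_)
          simp only [map_mul, Units.val_mul, Representation.asGroupHom_apply, hω]
          rw [smul_one_mul, mul_smul_comm, mul_one]
        have hmem : g ∈ Subgroup.center G := Subgroup.mem_center_iff.2 hcen
        rcases IsSimpleGroup.eq_bot_or_eq_top_of_normal (Subgroup.center G) inferInstance with
          hc | hc
        · exact hg1 (by rw [hc] at hmem; simpa using hmem)
        · have ha : a ∈ Subgroup.center G := by rw [hc]; trivial
          exact hab (Subgroup.mem_center_iff.1 ha b).symm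
      · refine eq_one_of_const χ fun y => ?_
        have hy : ρ y = 1 := by
          have hy' : y ∈ ρ.asGroupHom.ker := by rw [h]; trivial
          have := congrArg Units.val (MonoidHom.mem_ker.1 hy')
          rw [Representation.asGroupHom_apply] at this
          simpa using this
        simp [← hρχ, Representation.character, hy, map_one ρ]

end CfsgLib.Blocks
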