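import Mathlib.GroupTheory.SpecificGroups.Quaternion
import Mathlib.GroupTheory.Transfer
import Mathlib.GroupTheory.Sylow
import Mathlib.GroupTheory.Subgroup.Centralizer
import Mathlib.GroupTheory.Perm.Basic

/-!
# Quaternion Sylow 2-subgroups of order eight
-/

set_option autoImplicit false

namespace CfsgLib.Blocks.QuaternionEight

open QuaternionGroup

/-- The Klein four-group. -/
abbrev V4 := Multiplicative (ZMod 2 × ZMod 2)

/-- The map of the quaternion group onto the four-group. -/
def toV4 : QuaternionGroup 2 → V4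
  | a i => Multiplicative.ofAdd (ZMod.castHom (show 2 ∣ 2 * 2 by norm_num) (ZMod 2) i, 0)
  | xa i => Multiplicative.ofAdd (ZMod.castHom (show 2 ∣ 2 * 2 by norm_num) (ZMod 2) i, 1)

theorem toV4_mul : ∀ x y : QuaternionGroup 2, toV4 (x * y) = toV4 x * toV4 y := by decide

theorem toV4_surjective : ∀ v : V4, ∃ x : QuaternionGroup 2, toV4 x = v := by decide

theorem quaternion_facts : ∀ q : QuaternionGroup 2,
    (q * q = 1 → q = 1 ∨ q = a 2) ∧ (toV4 q = 1 ↔ q * q = 1) ∧ (q * q = 1 ∨ q * q = a 2) ∧
      q * q * q * q = 1 := by decide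

theorem toV4_fibre : ∀ q r : QuaternionGroup 2, toV4 q = toV4 r → toV4 q ≠ 1 →
    r = q ∨ r = q * q * q := by decide

/-- A map of the four-group given by the images of the three nontrivial elements. -/
def mapOf (x y z : V4) (v : V4) : V4 :=
  if v = Multiplicative.ofAdd (1, 0) then x else if v = Multiplicative.ofAdd (0, 1) then y else
    if v = Multiplicative.ofAdd (1, 1) then z else 1

set_option synthInstance.maxSize 512 in
theorem mapOf_cube : ∀ x y z : V4, (∀ v, mapOf x y z (mapOf x y z (mapOf x y z v)) = v) →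
    (∀ v, mapOf x y z v = v) ∨ ∀ u v : V4, u ≠ 1 → v ≠ 1 →
      v = u ∨ v = mapOf x y z u ∨ v = mapOf x y z (mapOf x y z u) := by decide

theorem eq_mapOf (f : V4 → V4) (h1 : f 1 = 1) :
    f = mapOf (f (Multiplicative.ofAdd (1, 0))) (f (Multiplicative.ofAdd (0, 1)))
      (f (Multiplicative.ofAdd (1, 1))) := by
  funext v
  have : v = 1 ∨ v = Multiplicative.ofAdd (1, 0) ∨ v = Multiplicative.ofAdd (0, 1) ∨
      v = Multiplicative.ofAdd (1, 1) := by revert v; decide
  rcases this with rfl | rfl | rfl | rfl <;> simp [mapOf] <;> exact h1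

/-- A permutation of odd order of the four-group fixing the identity is trivial or transitive. -/
theorem trivial_or_transitive (σ : Equiv.Perm V4) (h1 : σ 1 = 1) {q : ℕ} (hq : Odd q)
    (hσ : σ ^ q = 1) :
    σ = 1 ∨ ∀ u v : V4, u ≠ 1 → v ≠ 1 → ∃ k : ℕ, (σ ^ k) u = v := by
  have h24 : σ ^ 24 = 1 := by
    have h := pow_card_eq_one' (x := σ)
    rwa [show Nat.card (Equiv.Perm V4) = 24 by simp [Nat.card_eq_fintype_card, Fintype.card_perm,
      Nat.factorial]] at h
  have h3 : σ ^ 3 = 1 := by
    apply orderOf_dvd_iff_pow_eq_one.1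
    have hd := orderOf_dvd_of_pow_eq_one hσ
    have hd24 := orderOf_dvd_of_pow_eq_one h24
    have hodd : Odd (orderOf σ) := hq.of_dvd_nat hd
    have hco : Nat.Coprime (orderOf σ) 8 := (hodd.coprime_two_right).pow_right 3
    exact hco.dvd_of_dvd_mul_left (by simpa using hd24)
  have hcube : ∀ v, σ (σ (σ v)) = v := fun v => by
    have := DFunLike.congr_fun h3 v
    simpa [pow_succ, Equiv.Perm.mul_apply] using this
  have hf := eq_mapOf σ h1
  rw [hf] at hcube
  rcases mapOf_cube _ _ _ hcube with h | h
  · left; ext1 v; rw [hf]; simpa using h v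
  · right
    intro u v hu hv
    rw [← hf] at h
    rcases h u v hu hv with e | e | e
    · exact ⟨0, by simp [e]⟩
    · exact ⟨1, by simp [e]⟩
    · exact ⟨2, by simp [e, sq, Equiv.Perm.mul_apply]⟩

variable {G : Type*} [Group G] [Finite G] (S : Sylow 2 G)

variable (e : (S : Subgroup G) ≃* QuaternionGroup 2)

/-- The map of `S` onto the four-group. -/
def phi : (S : Subgroup G) →* V4 :=
  (MonoidHom.mk' toV4 toV4_mul).comp e.toMonoidHom

lemma phi_apply (x : (S : Subgroup G)) : phi S e x = toV4 (e x) := rfl

lemma phi_surjective : Function.Surjective (phi S e) := fun v => by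
  obtain ⟨q, rfl⟩ := toV4_surjective v
  exact ⟨e.symm q, by simp [phi_apply]⟩

lemma phi_eq_one_iff (x : (S : Subgroup G)) : phi S e x = 1 ↔ x * x = 1 := by
  rw [phi_apply, (quaternion_facts (e x)).2.1, ← map_mul, map_eq_one_iff _ e.injective]

/-- The involution of `S`. -/
def inv₂ : G := (e.symm (a 2) : (S : Subgroup G))

lemma sq_cases (x : (S : Subgroup G)) : x * x = 1 ∨ x * x = e.symm (a 2) := by
  rcases (quaternion_facts (e x)).2.2.1 with h | h
  · exact Or.inl (e.injective (by rw [map_mul, h, map_one]))
  · exact Or.inr (e.injective (by rw [map_mul, h, MulEquiv.apply_symm_apply]))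

lemma eq_or_of_phi_eq {x y : (S : Subgroup G)} (h : phi S e x = phi S e y) (hx : phi S e x ≠ 1) :
    y = x ∨ y = x * x * x := by
  rcases toV4_fibre (e x) (e y) h hx with h1 | h1
  · exact Or.inl (e.injective h1)
  · exact Or.inr (e.injective (by rw [h1, map_mul, map_mul]))

/-- Conjugation by an element of the normalizer, as an endomorphism of `S`. -/
def conjS (n : Subgroup.normalizer ((S : Subgroup G) : Set G)) (x : (S : Subgroup G)) :
    (S : Subgroup G) :=
  ⟨(n : G) * x * (n : G)⁻¹, (Subgroup.mem_normalizer_iff.1 n.2 _).1 x.2⟩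

omit [Finite G] in
lemma conjS_mul (n : Subgroup.normalizer ((S : Subgroup G) : Set G)) (x y : (S : Subgroup G)) :
    conjS S n (x * y) = conjS S n x * conjS S n y := Subtype.ext (by simp [conjS, mul_assoc])

omit [Finite G] in
lemma conjS_comp (n m : Subgroup.normalizer ((S : Subgroup G) : Set G)) (x : (S : Subgroup G)) :
    conjS S (n * m) x = conjS S n (conjS S m x) := Subtype.ext (by simp [conjS, mul_assoc])

lemma phi_conjS_congr (n : Subgroup.normalizer ((S : Subgroup G) : Set G))
    {x y : (S : Subgroup G)} (h : phi S e x = phi S e y) :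
    phi S e (conjS S n x) = phi S e (conjS S n y) := by
  have h1 : phi S e (x⁻¹ * y) = 1 := by rw [map_mul, map_inv, h, inv_mul_cancel]
  have h2 : phi S e (conjS S n (x⁻¹ * y)) = 1 := by
    rw [phi_eq_one_iff] at h1 ⊢
    rw [← conjS_mul, h1]
    exact Subtype.ext (by simp [conjS])
  have hxy : conjS S n y = conjS S n x * conjS S n (x⁻¹ * y) := by
    rw [← conjS_mul, mul_inv_cancel_left]
  rw [hxy, map_mul, h2, mul_one]

/-- The action of the normalizer on the four-group. -/
noncomputable def act : Subgroup.normalizer ((S : Subgroup G) : Set G) →* Equiv.Perm V4 :=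
  haveI F : ∀ n (v : V4), phi S e (conjS S n (Function.surjInv (phi_surjective S e)
      (phi S e (conjS S n⁻¹ (Function.surjInv (phi_surjective S e) v))))) = v := fun n v => by
    rw [phi_conjS_congr S e n (Function.surjInv_eq (phi_surjective S e) _), ← conjS_comp,
      mul_inv_cancel]
    have : conjS S 1 (Function.surjInv (phi_surjective S e) v) =
        Function.surjInv (phi_surjective S e) v := Subtype.ext (by simp [conjS])
    rw [this, Function.surjInv_eq (phi_surjective S e)]
  { toFun := fun n =>
      { toFun := fun v => phi S e (conjS S n (Function.surjInv (phi_surjective S e) v))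
        invFun := fun v => phi S e (conjS S n⁻¹ (Function.surjInv (phi_surjective S e) v))
        left_inv := fun v => by simpa using F n⁻¹ v
        right_inv := fun v => F n v }
    map_one' := by
      ext1 v
      have : conjS S 1 (Function.surjInv (phi_surjective S e) v) =
          Function.surjInv (phi_surjective S e) v := Subtype.ext (by simp [conjS])
      simp [this, Function.surjInv_eq (phi_surjective S e)]
    map_mul' := fun n m => by
      ext1 v
      simp only [Equiv.coe_fn_mk, Equiv.Perm.mul_apply]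
      rw [phi_conjS_congr S e n (Function.surjInv_eq (phi_surjective S e) _), conjS_comp] }

lemma act_phi (n : Subgroup.normalizer ((S : Subgroup G) : Set G)) (x : (S : Subgroup G)) :
    act S e n (phi S e x) = phi S e (conjS S n x) :=
  phi_conjS_congr S e n (Function.surjInv_eq (phi_surjective S e) _)

/-- If the normalizer acts trivially on the four-group, conjugate elements of order four of `S`
have the same image. -/
lemma phi_eq_of_conj (htriv : ∀ n, act S e n = 1) {x y : (S : Subgroup G)} {g : G}
    (hg : g * x * g⁻¹ = y) : phi S e x = phi S e y := by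
  by_cases hx : x * x = 1
  · have hy : y * y = 1 := Subtype.ext (by
      have := congrArg Subtype.val hx
      simp only [Subgroup.coe_mul, Subgroup.coe_one] at this ⊢
      rw [← hg]
      calc g * x * g⁻¹ * (g * x * g⁻¹) = g * ((x : G) * x) * g⁻¹ := by group
        _ = 1 := by rw [this]; group)
    rw [(phi_eq_one_iff S e x).2 hx, (phi_eq_one_iff S e y).2 hy]
  have hy : ¬ y * y = 1 := by
    intro h
    apply hx
    apply Subtype.ext
    have := congrArg Subtype.val h
    simp only [Subgroup.coe_mul, Subgroup.coe_one] at this ⊢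
    rw [← hg] at this
    calc (x : G) * x = g⁻¹ * (g * x * g⁻¹ * (g * x * g⁻¹)) * g := by group
      _ = 1 := by rw [this]; group
  have hx2 : ((x * x : (S : Subgroup G)) : G) = inv₂ S e :=
    congrArg Subtype.val ((sq_cases S e x).resolve_left hx)
  have hy2 : ((y * y : (S : Subgroup G)) : G) = inv₂ S e :=
    congrArg Subtype.val ((sq_cases S e y).resolve_left hy)
  have hgz : g * inv₂ S e * g⁻¹ = inv₂ S e := by
    conv_lhs => rw [← hx2]
    rw [← hy2, Subgroup.coe_mul, Subgroup.coe_mul, ← hg]
    group
  -- the subgroup fixing the pair of `y` and its inverse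
  let T : Subgroup G :=
    { carrier := {c | c * inv₂ S e * c⁻¹ = inv₂ S e ∧
        (c * y * c⁻¹ = y ∨ c * y * c⁻¹ = (y : G)⁻¹)}
      one_mem' := by simp
      mul_mem' := by
        rintro c d ⟨hc, hc'⟩ ⟨hd, hd'⟩
        refine ⟨?_, ?_⟩
        · calc c * d * inv₂ S e * (c * d)⁻¹ = c * (d * inv₂ S e * d⁻¹) * c⁻¹ := by group
            _ = _ := by rw [hd, hc]
        · have e1 : c * d * y * (c * d)⁻¹ = c * (d * y * d⁻¹) * c⁻¹ := by group
          have e2 : c * (y : G)⁻¹ * c⁻¹ = (c * y * c⁻¹)⁻¹ := by group
          rw [e1]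
          rcases hd' with h | h <;> rcases hc' with h' | h' <;> rw [h] <;>
            simp [e2, h']
      inv_mem' := by
        rintro c ⟨hc, hc'⟩
        have key : ∀ w v : G, c * w * c⁻¹ = v → c⁻¹ * v * c⁻¹⁻¹ = w := by
          rintro w v rfl; group
        refine ⟨key _ _ hc, ?_⟩
        rcases hc' with h | h
        · exact Or.inl (key _ _ h)
        · right
          have := congrArg (fun u => u⁻¹) (key _ _ h)
          simpa [mul_assoc] using this }
  have hmem : ∀ w : (S : Subgroup G), (w : G) ∈ T ∧ g * (w : G) * g⁻¹ ∈ T := by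
    intro w
    have hz : (w : G) * inv₂ S e * (w : G)⁻¹ = inv₂ S e := by
      have hsq : w * (x * x) * w⁻¹ = x * x := by
        rcases sq_cases S e (w * x * w⁻¹) with h | h
        · exfalso
          apply hx
          calc x * x = w⁻¹ * (w * x * w⁻¹ * (w * x * w⁻¹)) * w := by group
            _ = 1 := by rw [h]; group
        · rw [(sq_cases S e x).resolve_left hx]
          calc w * e.symm (a 2) * w⁻¹ = w * (x * x) * w⁻¹ := by
                rw [(sq_cases S e x).resolve_left hx]
            _ = w * x * w⁻¹ * (w * x * w⁻¹) := by group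
            _ = _ := h
      have := congrArg Subtype.val hsq
      simp only [Subgroup.coe_mul, InvMemClass.coe_inv] at this
      rw [← hx2, Subgroup.coe_mul]
      exact this
    have hfib : ∀ u : (S : Subgroup G), u * u ≠ 1 → w * u * w⁻¹ = u ∨ w * u * w⁻¹ = u⁻¹ := by
      intro u hu
      have h1 : phi S e u = phi S e (w * u * w⁻¹) := by
        rw [map_mul, map_mul, map_inv, mul_comm (phi S e w), mul_inv_cancel_right]
      rcases eq_or_of_phi_eq S e h1 (fun h => hu ((phi_eq_one_iff S e u).1 h)) with h | h
      · exact Or.inl h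
      · right
        rw [h]
        apply eq_inv_of_mul_eq_one_left
        exact e.injective (by simp only [map_mul, map_one]; exact (quaternion_facts (e u)).2.2.2)
    refine ⟨⟨hz, ?_⟩, ⟨?_, ?_⟩⟩
    · rcases hfib y hy with h | h
      · exact Or.inl (by simpa using congrArg Subtype.val h)
      · exact Or.inr (by simpa using congrArg Subtype.val h)
    · calc g * w * g⁻¹ * inv₂ S e * (g * w * g⁻¹)⁻¹
          = g * w * (g⁻¹ * inv₂ S e * g) * (w : G)⁻¹ * g⁻¹ := by group
        _ = g * (w * inv₂ S e * (w : G)⁻¹) * g⁻¹ := by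
            have : g⁻¹ * inv₂ S e * g = inv₂ S e := by
              conv_lhs => rw [← hgz]
              group
            rw [this]; group
        _ = _ := by rw [hz, hgz]
    · have e1 : g * w * g⁻¹ * y * (g * w * g⁻¹)⁻¹ = g * (w * x * (w : G)⁻¹) * g⁻¹ := by
        rw [← hg]; group
      rcases hfib x hx with h | h
      · left
        rw [e1, show (w : G) * x * (w : G)⁻¹ = x by simpa using congrArg Subtype.val h, hg]
      · right
        rw [e1, show (w : G) * x * (w : G)⁻¹ = (x : G)⁻¹ by simpa using congrArg Subtype.val h,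
          ← hg]
        group
  have hS : (S : Subgroup G) ≤ T := fun w hw => (hmem ⟨w, hw⟩).1
  have hSg : (S : Subgroup G).map (MulAut.conj g).toMonoidHom ≤ T := by
    rintro _ ⟨w, hw, rfl⟩
    exact (hmem ⟨w, hw⟩).2
  have hSg' : ((g • S : Sylow 2 G) : Subgroup G) ≤ T := hSg
  obtain ⟨t, ht⟩ := MulAction.exists_smul_eq T
    ((g • S).subtype hSg')
    (S.subtype hS)
  have ht' : ((t : G) • (g • S : Sylow 2 G)) = S := by
    apply Sylow.ext
    rw [Sylow.smul_subtype] at ht
    have := congrArg (fun U : Sylow 2 T => ((U : Subgroup T).map T.subtype)) ht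
    simp only [Sylow.coe_subtype] at this
    rw [Subgroup.map_subgroupOf_eq_of_le hS, Subgroup.map_subgroupOf_eq_of_le] at this
    · exact this
    · exact Subgroup.conj_smul_le_of_le (P := ((g • S : Sylow 2 G) : Subgroup G)) hSg' t
  rw [← mul_smul] at ht'
  have hn : (t : G) * g ∈ Subgroup.normalizer ((S : Subgroup G) : Set G) :=
    Sylow.smul_eq_iff_mem_normalizer.1 ht'
  have h1 := htriv ⟨_, hn⟩
  have h2 : phi S e x = phi S e (conjS S ⟨_, hn⟩ x) := by
    rw [← act_phi, h1, Equiv.Perm.one_apply]
  rw [h2]
  rcases t.2.2 with h | h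
  · congr 1
    apply Subtype.ext
    show (t : G) * g * x * ((t : G) * g)⁻¹ = y
    rw [← h, ← hg]; group
  · have : conjS S ⟨_, hn⟩ x = y⁻¹ := by
      apply Subtype.ext
      show (t : G) * g * x * ((t : G) * g)⁻¹ = ((y⁻¹ : (S : Subgroup G)) : G)
      rw [InvMemClass.coe_inv, ← h, ← hg]; group
    rw [this, map_inv]
    have hv : ∀ v : V4, v⁻¹ = v := by decide
    exact hv _

/-- If the normalizer acts trivially on the four-group, `S` has a normal complement. -/
theorem exists_complement (htriv : ∀ n, act S e n = 1) :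
    ∃ N : Subgroup G, N.Normal ∧ Subgroup.IsComplement' N (S : Subgroup G) := by
  classical
  let V := MonoidHom.transfer (phi S e)
  have hidx : Odd (S : Subgroup G).index := by
    rw [Nat.odd_iff, ← Nat.two_dvd_ne_zero]
    exact S.not_dvd_index
  have hV : ∀ x : (S : Subgroup G), V x = phi S e x := by
    intro x
    haveI : Fintype (Quotient (MulAction.orbitRel (Subgroup.zpowers (x : G))
        (G ⧸ (S : Subgroup G)))) := Fintype.ofFinite _
    haveI := Fintype.ofFinite (G ⧸ (S : Subgroup G))
    rw [show V x = _ from MonoidHom.transfer_eq_prod_quotient_orbitRel_zpowers_quot (phi S e) (x : G)]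
    rw [Finset.prod_congr rfl (g := fun q : Quotient (MulAction.orbitRel (Subgroup.zpowers (x : G))
        (G ⧸ (S : Subgroup G))) => (phi S e x) ^ Function.minimalPeriod ((x : G) • ·) q.out)]
    · rw [Finset.prod_pow_eq_pow_sum]
      have hsum : ∑ q : Quotient (MulAction.orbitRel (Subgroup.zpowers (x : G)) (G ⧸ (S : Subgroup G))),
          Function.minimalPeriod ((x : G) • ·) q.out = (S : Subgroup G).index := by
        exact (Subgroup.index_eq_sum_minimalPeriod _ _).symm
      rw [hsum]
      obtain ⟨r, hr⟩ := hidx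
      rw [hr, pow_succ, pow_mul]
      have hv : ∀ v : V4, v ^ 2 = 1 := by decide
      rw [hv, one_pow, one_mul]
    · intro q _
      rw [← map_pow]
      refine (phi_eq_of_conj S e htriv (g := (q.out.out)⁻¹) ?_).symm
      simp
  have hVsurj : Function.Surjective V := fun v => by
    obtain ⟨x, rfl⟩ := phi_surjective S e v
    exact ⟨x, hV x⟩
  have hcardS : Nat.card (S : Subgroup G) = 8 := by
    rw [Nat.card_congr e.toEquiv, Nat.card_eq_fintype_card, QuaternionGroup.card]
  have hKidx : V.ker.index = 4 := by
    rw [Subgroup.index_ker, V.range_eq_top.2 hVsurj, Subgroup.card_top]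
    simp [Nat.card_eq_fintype_card]
  obtain ⟨R⟩ : Nonempty (Sylow 2 V.ker) := inferInstance
  have hR : Nat.card R = 2 := by
    rw [R.card_eq_multiplicity]
    have h1 : Nat.card V.ker * 4 = 8 * (S : Subgroup G).index := by
      rw [← hKidx, V.ker.card_mul_index, ← (S : Subgroup G).card_mul_index, hcardS]
    have h3 : (Nat.card V.ker).factorization 2 = 1 := by
      have h4 : Nat.card V.ker = 2 * (S : Subgroup G).index := by omega
      rw [h4, Nat.factorization_mul (by norm_num) (Nat.ne_of_odd_add (by simpa using hidx)),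
        Finsupp.add_apply, Nat.prime_two.factorization_self,
        Nat.factorization_eq_zero_of_not_dvd (Nat.two_dvd_ne_zero.2 (Nat.odd_iff.1 hidx))]
    rw [h3, pow_one]
  have hRle : Subgroup.normalizer ((R : Subgroup V.ker) : Set V.ker) ≤
      Subgroup.centralizer ((R : Subgroup V.ker) : Set V.ker) := by
    intro n hn
    rw [Subgroup.mem_centralizer_iff]
    intro u hu
    by_cases h1 : u = 1
    · simp [h1]
    have hall : ∀ w ∈ (R : Subgroup V.ker), w = 1 ∨ w = u := by
      intro w hw
      by_contra hne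
      push Not at hne
      obtain ⟨a', b', -, hab⟩ := Nat.card_eq_two_iff.1 hR
      have hmem : ∀ v : R, v = a' ∨ v = b' := fun v => by
        have : v ∈ ({a', b'} : Set R) := hab ▸ Set.mem_univ v
        simpa using this
      rcases hmem 1 with h | h <;> rcases hmem ⟨u, hu⟩ with h' | h' <;>
        rcases hmem ⟨w, hw⟩ with h'' | h'' <;>
        first
          | exact h1 (congrArg Subtype.val (h'.trans h.symm))
          | exact hne.1 (congrArg Subtype.val (h''.trans h.symm))
          | exact hne.2 (congrArg Subtype.val (h''.trans h'.symm))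
    have h2 := (Subgroup.mem_normalizer_iff.1 hn u).1 hu
    rcases hall _ h2 with h | h
    · exact absurd (by simpa [mul_inv_eq_one, mul_eq_left] using h) h1
    · calc u * n = n * u * n⁻¹ * n := by rw [h]
        _ = n * u := by group
  let L := (MonoidHom.transferSylow R hRle).ker
  have hLodd : ¬ 2 ∣ Nat.card L := MonoidHom.not_dvd_card_ker_transferSylow R hRle
  have hLidx : L.index = 2 := by
    rw [(MonoidHom.ker_transferSylow_isComplement' R hRle).symm.index_eq_card, hR]
  haveI : L.Characteristic := by
    refine Subgroup.characteristic_iff_map_le.2 fun φ => ?_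
    intro w hw
    obtain ⟨u, hu, rfl⟩ := hw
    have hu' : (φ u) ^ Nat.card L = 1 := by
      rw [← map_pow, show u ^ Nat.card L = 1 from
        congrArg Subtype.val (pow_card_eq_one' (x := (⟨u, hu⟩ : L))), map_one]
    rw [MonoidHom.mem_ker]
    have h5 : MonoidHom.transferSylow R hRle (φ u) ^ Nat.card L = 1 := by
      rw [← map_pow, hu', map_one]
    have h6 : MonoidHom.transferSylow R hRle (φ u) ^ Nat.card R = 1 := pow_card_eq_one'
    have hco : Nat.Coprime (Nat.card L) (Nat.card R) := by
      rw [hR]; exact (Nat.coprime_two_right.2 (Nat.odd_iff.2 (Nat.two_dvd_ne_zero.1 hLodd)))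
    simpa [Nat.Coprime.gcd_eq_one hco] using (pow_gcd_eq_one).2 ⟨h5, h6⟩
  refine ⟨L.map V.ker.subtype, inferInstance, ?_⟩
  have hcL : Nat.card (L.map V.ker.subtype) = Nat.card L :=
    Subgroup.card_map_of_injective (Subgroup.subtype_injective _)
  refine Subgroup.isComplement'_of_coprime ?_ ?_
  · rw [hcL, hcardS]
    have h1 := L.card_mul_index
    rw [hLidx] at h1
    have h2 : Nat.card V.ker * 4 = Nat.card G := by rw [← hKidx, V.ker.card_mul_index]
    omega
  · rw [hcL, hcardS]
    exact (Nat.coprime_two_right.2 (Nat.odd_iff.2 (Nat.two_dvd_ne_zero.1 hLodd))).pow_right 3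

include e in
/-- Without a normal complement the normalizer permutes the three subgroups of order four
transitively. -/
theorem conj_subgroups_of_order_four
    (hnc : ∀ N : Subgroup G, N.Normal → ¬ Subgroup.IsComplement' N (S : Subgroup G))
    (A B : Subgroup G) (hA : A ≤ S) (hB : B ≤ S) (hA4 : Nat.card A = 4) (hB4 : Nat.card B = 4) :
    ∃ n ∈ Subgroup.normalizer ((S : Subgroup G) : Set G), B = A.map (MulAut.conj n).toMonoidHom := by
  classical
  obtain ⟨n₀, hn₀⟩ : ∃ n, act S e n ≠ 1 := by
    by_contra h
    push Not at h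
    obtain ⟨N, hN, hc⟩ := exists_complement S e h
    exact hnc N hN hc
  let N := Subgroup.normalizer ((S : Subgroup G) : Set G)
  have hodd : Odd ((S : Subgroup G).subgroupOf N).index := by
    rw [Nat.odd_iff, ← Nat.two_dvd_ne_zero]
    intro h
    exact S.not_dvd_index (h.trans (Subgroup.relIndex_dvd_index_of_le Subgroup.le_normalizer))
  have hq : act S e n₀ ^ ((S : Subgroup G).subgroupOf N).index = 1 := by
    rw [← map_pow]
    have hmem := Subgroup.pow_index_mem ((S : Subgroup G).subgroupOf N) n₀
    ext1 v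
    obtain ⟨x, rfl⟩ := phi_surjective S e v
    rw [act_phi, Equiv.Perm.one_apply]
    set w := n₀ ^ ((S : Subgroup G).subgroupOf N).index
    rw [Subgroup.mem_subgroupOf] at hmem
    have : conjS S w x = (⟨(w : G), hmem⟩ : (S : Subgroup G)) * x * (⟨(w : G), hmem⟩ : (S : Subgroup G))⁻¹ :=
      Subtype.ext rfl
    rw [this, map_mul, map_mul, map_inv, mul_comm (phi S e _), mul_inv_cancel_right]
  have h1 : act S e n₀ 1 = 1 := by
    have h := act_phi S e n₀ 1
    rw [map_one] at h
    rw [h, show conjS S n₀ 1 = 1 from Subtype.ext (by simp [conjS]), map_one]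
  have htrans := (trivial_or_transitive _ h1 hodd hq).resolve_left hn₀
  have hgen : ∀ C : Subgroup G, C ≤ S → Nat.card C = 4 →
      ∃ x : (S : Subgroup G), phi S e x ≠ 1 ∧ C = Subgroup.zpowers (x : G) := by
    intro C hC hC4
    have hex : ∃ x ∈ C, x * x ≠ 1 := by
      by_contra h
      push Not at h
      have hle : C ≤ Subgroup.zpowers (inv₂ S e) := by
        intro w hw
        have := (quaternion_facts (e ⟨w, hC hw⟩)).1 (by
          rw [← map_mul, show (⟨w, hC hw⟩ * ⟨w, hC hw⟩ : (S : Subgroup G)) = 1 from
            Subtype.ext (h w hw), map_one])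
        rcases this with h0 | h0
        · rw [show w = 1 from congrArg Subtype.val ((map_eq_one_iff _ e.injective).1 h0)]
          exact one_mem _
        · rw [show w = inv₂ S e from congrArg Subtype.val (show (⟨w, hC hw⟩ : (S : Subgroup G))
            = e.symm (a 2) by rw [← h0, MulEquiv.symm_apply_apply])]
          exact Subgroup.mem_zpowers _
      have h2 := Subgroup.card_le_of_le hle
      rw [hC4, Nat.card_zpowers] at h2
      have h3 : inv₂ S e ^ 2 = 1 := by
        rw [inv₂, ← Subgroup.coe_pow, ← map_pow, sq,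
          show (a 2 : QuaternionGroup 2) * a 2 = 1 by decide, map_one]
        rfl
      have := orderOf_le_of_pow_eq_one two_pos h3
      omega
    obtain ⟨x, hxC, hx⟩ := hex
    refine ⟨⟨x, hC hxC⟩, fun h => hx (congrArg Subtype.val ((phi_eq_one_iff S e _).1 h)), ?_⟩
    symm
    refine Subgroup.eq_of_le_of_card_ge (Subgroup.zpowers_le.2 hxC) ?_
    rw [hC4, Nat.card_zpowers]
    have h4 : x ^ 2 ^ (1 + 1) = 1 := by
      have := e.injective (a₁ := (⟨x, hC hxC⟩ : (S : Subgroup G)) * ⟨x, hC hxC⟩ * ⟨x, hC hxC⟩ *
        ⟨x, hC hxC⟩) (a₂ := 1) (by simp only [map_mul, map_one]; exact (quaternion_facts _).2.2.2)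
      simpa [pow_succ] using congrArg Subtype.val this
    rw [orderOf_eq_prime_pow (by simpa [pow_succ] using hx) h4]
    norm_num
  obtain ⟨x, hx, rfl⟩ := hgen A hA hA4
  obtain ⟨y, hy, rfl⟩ := hgen B hB hB4
  obtain ⟨k, hk⟩ := htrans _ _ hx hy
  rw [← map_pow, act_phi] at hk
  refine ⟨((n₀ ^ k : N) : G), (n₀ ^ k).2, ?_⟩
  rw [MonoidHom.map_zpowers]
  show Subgroup.zpowers (y : G) = Subgroup.zpowers ((conjS S (n₀ ^ k) x : (S : Subgroup G)) : G)
  have hyne : phi S e y ≠ 1 := hy
  rcases eq_or_of_phi_eq S e hk.symm hyne with h | h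
  · rw [h]
  · rw [h]
    have h4 : ∀ u : (S : Subgroup G), u * u * u = u⁻¹ := fun u => by
      apply eq_inv_of_mul_eq_one_left
      exact e.injective (by simp only [map_mul, map_one]; exact (quaternion_facts (e u)).2.2.2)
    rw [h4, InvMemClass.coe_inv, Subgroup.zpowers_inv]

end CfsgLib.Blocks.QuaternionEight
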