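import Cfsg.Agent.Lib.Blocks.SeparatedClasses
import Mathlib.LinearAlgebra.Matrix.ToLin
import Mathlib.LinearAlgebra.Basis.VectorSpace

/-!
# Blocks from classes with a common Sylow subgroup of the centralizer
-/

set_option autoImplicit false
set_option maxHeartbeats 1000000
set_option synthInstance.maxHeartbeats 400000

namespace CfsgLib.Blocks

open Cfsg CfsgLib.Char CfsgLib.BlockReg
open scoped Classical

universe u

variable {G : Type u} [Group G] [Finite G] {p : ℕ} [Fact p.Prime] {M : Ideal AlgInt} [M.IsMaximal]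

/-- The modular central character vector of a character on a family of elements. -/
noncomputable def omegaVec (M : Ideal AlgInt) [M.IsMaximal] {ι : Type*} (x : ι → G)
    (χ : IrrCharacter G) : ι → ResField M := fun i => red M (centralR M χ (x i))

theorem omegaVec_congr (hM : IsPModular p M) {B : Set (IrrCharacter G)} (hB : IsPBlock M B)
    {ι : Type*} (x : ι → G) {χ ψ : IrrCharacter G} (hχ : χ ∈ B) (hψ : ψ ∈ B) :
    omegaVec M x χ = omegaVec M x ψ := by
  funext i
  exact (memLocalIdeal_sub_iff (x := centralR M χ (x i)) (y := centralR M ψ (x i))).1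
    (block_congr hM hB hχ hψ (x i))

theorem omegaVec_ne_zero_iff {ι : Type*} (x : ι → G) (χ : IrrCharacter G) :
    omegaVec M x χ ≠ 0 ↔ ∃ i, ¬ MemLocalIdeal M (centralChar (χ : G → ℂ) (x i)) := by
  rw [Function.ne_iff]
  refine exists_congr fun i => not_congr ?_
  rw [← lam_classSumC_eq_zero_iff, lam_classSumC]
  rfl

omit [M.IsMaximal] in
theorem factorization_csize_of_isCentSylow {g : G} {D : Subgroup G} (h : IsCentSylow p g D) :
    (csize g).factorization p = (Nat.card G).factorization p - (Nat.card D).factorization p := by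
  have hpp : p.Prime := Fact.out
  rw [h.card, hpp.factorization_pow, Finsupp.single_eq_same, ← csize_mul_card g,
    Nat.factorization_mul Nat.card_pos.ne' (csize_ne_zero g), Finsupp.add_apply]
  omega

/-- A character with the right degree and a nonzero value vector lies in a block of defect group
`D`, and has height zero there. -/
theorem isDefectGroup_of_omegaVec (hM : IsPModular p M) {B : Set (IrrCharacter G)}
    (hB : IsPBlock M B) {D : Subgroup G} {ι : Type*} (x : ι → G)
    (hD : ∀ i, IsCentSylow p (x i) D) {χ : IrrCharacter G} (hχ : χ ∈ B)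
    (hne : omegaVec M x χ ≠ 0)
    (hdeg : (charDegree (χ : G → ℂ)).factorization p ≤
      (Nat.card G).factorization p - (Nat.card D).factorization p) :
    IsDefectGroup p M B D ∧
      minExp p B = (Nat.card G).factorization p - (Nat.card D).factorization p := by
  obtain ⟨i, hi⟩ := (omegaVec_ne_zero_iff x χ).1 hne
  obtain ⟨E, hE⟩ := exists_defectGroup hM hB
  obtain ⟨c, hc, hcE⟩ := exists_isConj_centralizer_defectGroup hM hB hE hχ hi
  obtain ⟨z, hz⟩ := (hD i).exists_conj_ge (isPGroup_defectGroup hE) hc hcE
  have hcardE := card_defectGroup hM hB hE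
  obtain ⟨j, hj⟩ := IsPGroup.iff_card.1 (hD i).isPGroup
  have hle : Nat.card E ≤ Nat.card D := by
    rw [← card_map_conj z E]; exact Subgroup.card_le_of_le hz
  rw [hcardE, hj, Nat.pow_le_pow_iff_right hM.1.one_lt, blockDefect_eq] at hle
  have hvD : (Nat.card D).factorization p = j := by
    rw [hj, hM.1.factorization_pow, Finsupp.single_eq_same]
  have hjle : j ≤ (Nat.card G).factorization p := by
    rw [← hvD]
    exact (Nat.factorization_le_iff_dvd Nat.card_pos.ne' Nat.card_pos.ne').2
      (Subgroup.card_subgroup_dvd_card D) p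
  have hm := minExp_le (p := p) hχ
  have hminle := minExp_le (p := p) hχ
  refine ⟨?_, by omega⟩
  have heq : E.map (MulAut.conj z).toMonoidHom = D := Subgroup.eq_of_le_of_card_ge hz (by
    rw [card_map_conj, hcardE, hj, blockDefect_eq]
    exact Nat.pow_le_pow_right hM.1.pos (by omega))
  exact heq ▸ IsDefectGroup.conj' hE z

/-- Brauer's separated classes theorem. -/
theorem exists_blocks_of_separated (hM : IsPModular p M) (D : Subgroup G) {r : ℕ} (x : Fin r → G)
    (hx : ∀ i j : Fin r, IsConj (x i) (x j) → i = j) (hD : ∀ i, IsCentSylow p (x i) D)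
    (hsep : ∀ i j : Fin r, ∀ g h : G, IsConj (x i) g → IsConj (x j) h → ∀ k : ℕ, 0 < k →
      orderOf (g * h⁻¹) ≠ p ^ k) :
    ∃ B : Fin r → Set (IrrCharacter G), Function.Injective B ∧
      (∀ i, IsPBlock M (B i) ∧ IsDefectGroup p M (B i) D) ∧
      ∀ χ : Fin r → IrrCharacter G, (∀ i, χ i ∈ B i ∧ blockHeight p (B i) (χ i : G → ℂ) = 0) →
        ¬ MemLocalIdeal M (Matrix.det (Matrix.of fun i j : Fin r => (χ i : G → ℂ) (x j))) := by
  haveI := Fintype.ofFinite G
  let S : Sylow p G := default
  set k := (Nat.card G).factorization p - (Nat.card D).factorization p with hk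
  have hxk : ∀ i, (csize (x i)).factorization p = k := fun i =>
    factorization_csize_of_isCentSylow (hD i)
  have hpk : (p ^ k : ℕ) ≠ 0 := pow_ne_zero _ hM.1.ne_zero
  have hfk : (p ^ k).factorization p = k := by rw [hM.1.factorization_pow, Finsupp.single_eq_same]
  set W : IrrCharacter G → ℂ := fun χ => if (charDegree (χ : G → ℂ)).factorization p = k
    then pairWeight (S : Subgroup G) (p ^ k) χ else 0 with hW
  have hWR : ∀ χ, MemLocalRing M (W χ) := fun χ => by
    simp only [hW]
    split_ifs with h
    · exact memRing_pairWeight hM S (by omega)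
    · exact memRing_zero hM
  let wR : IrrCharacter G → ResField M := fun χ => red M ⟨W χ, hWR χ⟩
  -- the orthogonality of the value vectors
  have horth : ∀ i j : Fin r, ∑ χ : IrrCharacter G,
      wR χ * red M (centralR M χ (x i)⁻¹) * omegaVec M x χ j =
      if i = j then red M (((csize (x i) / p ^ k : ℕ)) : locRing M) else 0 := by
    intro i j
    obtain ⟨hdvd, hcongr⟩ := pairCount_congr hM S (hxk i) (hxk j)
    have hsepij : ∀ y z : G, IsConj (x i) y → IsConj (x j) z → ∀ l : ℕ, 0 < l →
        orderOf (z * y⁻¹) ≠ p ^ l := fun y z hy hz l hl => by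
      rw [← orderOf_inv, mul_inv_rev, inv_inv]
      exact hsep i j y z hy hz l hl
    rw [pairCount_self_of_separated S.2 hM.1 hsepij] at hcongr
    have h2 := (memLocalIdeal_sub_iff
      (x := (((if IsConj (x i) (x j) then csize (x i) else 0) / p ^ k : ℕ) : locRing M))
      (y := ∑ χ : IrrCharacter G, (⟨W χ, hWR χ⟩ : locRing M) *
        (centralR M χ (x i)⁻¹ * centralR M χ (x j)))).1
      (by push_cast; simp only [coe_centralR]; convert hcongr using 4 <;> first | rfl | congr 1)
    simp only [map_sum, map_mul] at h2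
    rw [show (∑ χ : IrrCharacter G, wR χ * red M (centralR M χ (x i)⁻¹) * omegaVec M x χ j) =
        ∑ χ : IrrCharacter G, red M ⟨W χ, hWR χ⟩ *
          (red M (centralR M χ (x i)⁻¹) * red M (centralR M χ (x j))) from
      Finset.sum_congr rfl fun χ _ => mul_assoc _ _ _, ← h2]
    by_cases hij : i = j
    · subst hij
      rw [if_pos rfl, if_pos (IsConj.refl _)]
    · rw [if_neg hij, if_neg (fun h => hij (hx i j h)), Nat.zero_div, Nat.cast_zero, map_zero]
  have hunit : ∀ i, red M (((csize (x i) / p ^ k : ℕ)) : locRing M) ≠ 0 := by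
    intro i h0
    have hdvd : p ^ k ∣ csize (x i) := (Nat.Prime.pow_dvd_iff_le_factorization hM.1
      (csize_ne_zero _)).2 (hxk i).ge
    have h1 : MemLocalIdeal M (((csize (x i) / p ^ k : ℕ)) : ℂ) := by
      have h := (memLocalIdeal_sub_iff (x := (((csize (x i) / p ^ k : ℕ)) : locRing M))
        (y := (0 : locRing M))).2 (by rw [h0, map_zero])
      simpa using h
    rw [memIdeal_natCast_iff hM] at h1
    have h2 := Nat.mul_dvd_mul_left (p ^ k) h1
    rw [Nat.mul_div_cancel' hdvd, ← pow_succ,
      Nat.Prime.pow_dvd_iff_le_factorization hM.1 (csize_ne_zero _), hxk i] at h2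
    omega
  -- the vectors span
  set T : Set (Fin r → ResField M) := omegaVec M x '' {χ | wR χ ≠ 0} with hT
  have hspan : ⊤ ≤ Submodule.span (ResField M) T := by
    intro y _
    have hy : y = ∑ i : Fin r, (y i / red M (((csize (x i) / p ^ k : ℕ)) : locRing M)) •
        (∑ χ : IrrCharacter G, (wR χ * red M (centralR M χ (x i)⁻¹)) • omegaVec M x χ) := by
      funext j
      simp only [Finset.sum_apply, Pi.smul_apply, smul_eq_mul, horth]
      rw [Finset.sum_eq_single j (fun i _ hij => by rw [if_neg hij, mul_zero]) (by simp),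
        if_pos rfl, div_mul_cancel₀ _ (hunit j)]
    rw [hy]
    refine Submodule.sum_mem _ fun i _ => Submodule.smul_mem _ _ (Submodule.sum_mem _ fun χ _ => ?_)
    by_cases hχ : wR χ = 0
    · rw [hχ, zero_mul, zero_smul]; exact Submodule.zero_mem _
    · exact Submodule.smul_mem _ _ (Submodule.subset_span ⟨χ, hχ, rfl⟩)
  obtain ⟨b, hbT, hbspan, hbli⟩ := exists_linearIndependent (ResField M) T
  let bas := Module.Basis.mk hbli (by rw [Subtype.range_coe]; exact hbspan.symm ▸ hspan)
  let e : Fin r ≃ b := (Pi.basisFun (ResField M) (Fin r)).indexEquiv bas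
  choose f hf hfv using fun i : Fin r => hbT (e i).2
  have hdeg : ∀ i, (charDegree (f i : G → ℂ)).factorization p = k := by
    intro i
    by_contra h
    apply hf i
    show red M ⟨W (f i), hWR (f i)⟩ = 0
    rw [show (⟨W (f i), hWR (f i)⟩ : locRing M) = 0 from Subtype.ext (by simp [hW, h]), map_zero]
  have hne : ∀ i, omegaVec M x (f i) ≠ 0 := fun i => by
    rw [hfv i]
    exact hbli.ne_zero (e i)
  have hblk := fun i => isDefectGroup_of_omegaVec hM (isPBlock_blockOf (M := M) (f i)) x hD
    (mem_blockOf_self (f i)) (hne i) (hdeg i).le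
  refine ⟨fun i => blockOf M (f i : G → ℂ), fun i j hij => ?_,
    fun i => ⟨isPBlock_blockOf (f i), (hblk i).1⟩, fun χ hχ => ?_⟩
  · have hij' : blockOf M (f i : G → ℂ) = blockOf M (f j : G → ℂ) := hij
    have h := omegaVec_congr hM (isPBlock_blockOf (M := M) (f j)) x
      (hij' ▸ mem_blockOf_self (f i)) (mem_blockOf_self (f j))
    rw [hfv, hfv] at h
    exact e.injective (Subtype.ext h)
  · have hdegχ : ∀ i, (charDegree (χ i : G → ℂ)).factorization p = k := by
      intro i
      simp only at hχ
      have h2 := minExp_le (p := p) (hχ i).1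
      have h3 := (hblk i).2
      have h4 := (hχ i).2
      rw [blockHeight_eq] at h4
      omega
    have hvec : ∀ i, omegaVec M x (χ i) = ((e i : b) : Fin r → ResField M) := fun i => by
      rw [← hfv i]
      exact omegaVec_congr hM (isPBlock_blockOf (M := M) (f i)) x (hχ i).1 (mem_blockOf_self _)
    set Ω : Matrix (Fin r) (Fin r) (locRing M) := Matrix.of fun i j => centralR M (χ i) (x j)
      with hΩ
    have hdet : red M Ω.det ≠ 0 := by
      rw [RingHom.map_det]
      have hrow : LinearIndependent (ResField M) ((red M).mapMatrix Ω).row := by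
        have e1 : ((red M).mapMatrix Ω).row = fun i => ((e i : b) : Fin r → ResField M) := by
          funext i
          rw [← hvec i]
          rfl
        rw [e1]
        exact hbli.comp _ e.injective
      rw [Matrix.linearIndependent_rows_iff_isUnit, Matrix.isUnit_iff_isUnit_det] at hrow
      exact hrow.ne_zero
    have hdetC : ¬ MemLocalIdeal M ((Ω.det : locRing M) : ℂ) := fun h => hdet (by
      have := (memLocalIdeal_sub_iff (x := Ω.det) (y := (0 : locRing M))).1 (by simpa using h)
      rwa [map_zero] at this)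
    have hfact : Matrix.of (fun i j : Fin r => (χ i : G → ℂ) (x j)) =
        Matrix.diagonal (fun i => (charDegree (χ i : G → ℂ) : ℂ) / ((p ^ k : ℕ) : ℂ)) *
          (locRing M).subtype.mapMatrix Ω *
            Matrix.diagonal (fun j => ((p ^ k : ℕ) : ℂ) / (csize (x j) : ℂ)) := by
      ext i j
      simp only [Matrix.mul_diagonal, Matrix.diagonal_mul, Matrix.of_apply, RingHom.mapMatrix_apply,
        Matrix.map_apply, hΩ, Subring.coe_subtype, coe_centralR]
      rw [char_eq_centralChar_mul (χ i) (x j)]
      have h1 : ((p ^ k : ℕ) : ℂ) ≠ 0 := Nat.cast_ne_zero.2 hpk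
      field_simp
    rw [hfact, Matrix.det_mul, Matrix.det_mul, Matrix.det_diagonal, Matrix.det_diagonal,
      ← RingHom.map_det, mul_right_comm, mul_assoc]
    have hu1 := fun i => natCast_div_unit hM (deg_pos (χ i)).ne' hpk
      (by rw [hfk, hdegχ i])
    have hu2 := fun j => natCast_div_unit hM hpk (csize_ne_zero (x j))
      (by rw [hfk, hxk j])
    have hprod : ∀ (s : Finset (Fin r)) (u : Fin r → ℂ),
        (∀ i, MemLocalRing M (u i) ∧ ¬ MemLocalIdeal M (u i)) →
        MemLocalRing M (∏ i ∈ s, u i) ∧ ¬ MemLocalIdeal M (∏ i ∈ s, u i) := by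
      intro s u hu
      induction s using Finset.induction with
      | empty => exact ⟨by simpa using memRing_one hM, by simpa using not_memIdeal_one hM⟩
      | insert i s hi ih =>
        rw [Finset.prod_insert hi]
        exact ⟨memRing_mul hM (hu i).1 ih.1,
          not_memIdeal_mul hM (hu i).1 ih.1 (hu i).2 ih.2⟩
    obtain ⟨h1R, h1I⟩ := hprod Finset.univ _ hu1
    obtain ⟨h2R, h2I⟩ := hprod Finset.univ _ hu2
    exact not_memIdeal_mul hM h1R (memRing_mul hM h2R (SetLike.coe_mem Ω.det)) h1I
      (not_memIdeal_mul hM h2R (SetLike.coe_mem Ω.det) h2I hdetC)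

end CfsgLib.Blocks
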