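import Cfsg.Agent.Lib.Blocks.Defect
import Cfsg.Agent.Lib.Blocks.InducedChar
import Cfsg.Agent.Lib.BlockReg.Bounds
import Cfsg.Agent.Lib.Char.Induced
import Cfsg.Agent.Lib.Blocks.Induced

/-!
# Pairs of class elements differing by an element of a Sylow subgroup
-/

set_option autoImplicit false
set_option maxHeartbeats 1000000
set_option synthInstance.maxHeartbeats 400000

namespace CfsgLib.Blocks

open Cfsg CfsgLib.Char CfsgLib.BlockReg
open scoped ComplexConjugate Classical

universe u

variable {G : Type u} [Group G] [Finite G]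

/-- Pairs of conjugates of `a` and `b` differing by an element of `S`. -/
noncomputable def pairCount (S : Subgroup G) (a b : G) : ℕ :=
  Nat.card {yz : G × G // IsConj a yz.1 ∧ IsConj b yz.2 ∧ yz.2 * yz.1⁻¹ ∈ S}

/-- The multiplicity in the permutation character on the cosets of `S`. -/
noncomputable def permMult (S : Subgroup G) (χ : IrrCharacter G) : ℂ :=
  haveI := Fintype.ofFinite G
  classInner (indFun S (fun _ => (1 : ℂ))) (χ : G → ℂ)

theorem exists_nat_permMult (S : Subgroup G) (χ : IrrCharacter G) :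
    ∃ m : ℕ, permMult S χ = m := by
  letI := Fintype.ofFinite G
  exact IsCharacter.exists_nat_classInner
    (IsCharacter.indFun S (IsIrrCharacter.isCharacter isIrrCharacter_principal)) χ.2

theorem card_mul_pairCount [Fintype G] (S : Subgroup G) (a b : G) :
    (Nat.card (Subgroup.centralizer ({a} : Set G)) : ℂ) *
        (Nat.card (Subgroup.centralizer ({b} : Set G)) : ℂ) * (pairCount S a b : ℂ) =
      (Nat.card S : ℂ) * ∑ χ : IrrCharacter G, permMult S χ *
        ((Nat.card G : ℂ) * (χ : G → ℂ) a⁻¹ * (χ : G → ℂ) b / (χ : G → ℂ) 1) := by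
  set F : G → ℂ := fun w => if w ∈ S then 1 else 0 with hF
  have h1 : (pairCount S a b : ℂ) =
      ∑ y ∈ Finset.univ.filter (fun y => IsConj a y),
        ∑ z ∈ Finset.univ.filter (fun z => IsConj b z), F (z * y⁻¹) := by
    rw [← Finset.sum_product' (s := Finset.univ.filter (fun y => IsConj a y))
      (t := Finset.univ.filter (fun z => IsConj b z)) (f := fun y z => F (z * y⁻¹)), hF,
      Finset.sum_boole, pairCount,
      Nat.card_eq_fintype_card, Fintype.card_subtype]
    congr 2
    ext ⟨y, z⟩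
    simp [and_assoc]
  have h2 : (Nat.card (Subgroup.centralizer ({a} : Set G)) : ℂ) *
      (Nat.card (Subgroup.centralizer ({b} : Set G)) : ℂ) * (pairCount S a b : ℂ) =
      ∑ g : G, ∑ h : G, F ((h⁻¹ * b * h) * (g⁻¹ * a * g)⁻¹) := by
    rw [sum_conj_eq_card_centralizer_mul a (fun y => ∑ h : G, F ((h⁻¹ * b * h) * y⁻¹)),
      Finset.sum_congr rfl (fun y _ => sum_conj_eq_card_centralizer_mul b (fun z => F (z * y⁻¹))),
      ← Finset.mul_sum, ← h1, mul_assoc]
  have hind : ∀ w : G, ∑ g : G, F (g⁻¹ * w * g) =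
      (Nat.card S : ℂ) * indFun S (fun _ => (1 : ℂ)) w := by
    intro w
    rw [indFun_apply, ← mul_assoc, mul_inv_cancel₀ (Nat.cast_ne_zero.2 Nat.card_pos.ne'), one_mul]
    refine Finset.sum_congr rfl fun g _ => ?_
    simp only [hF]
    split_ifs with h
    · rw [extendByZero_apply_mem S _ h]
    · rw [extendByZero_of_notMem S _ h]
  have h3 : ∑ g : G, ∑ h : G, F ((h⁻¹ * b * h) * (g⁻¹ * a * g)⁻¹) =
      ∑ t : G, ∑ g : G, F (g⁻¹ * (t⁻¹ * b * t * a⁻¹) * g) := by
    rw [Finset.sum_comm (s := (Finset.univ : Finset G)) (t := (Finset.univ : Finset G))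
      (f := fun t g => F (g⁻¹ * (t⁻¹ * b * t * a⁻¹) * g))]
    refine Finset.sum_congr rfl fun g _ => Fintype.sum_equiv (Equiv.mulRight g⁻¹) _ _ fun h => ?_
    simp only [Equiv.coe_mulRight]
    congr 1
    group
  have hdec : ∀ w : G, indFun S (fun _ => (1 : ℂ)) w =
      ∑ χ : IrrCharacter G, permMult S χ * (χ : G → ℂ) w := by
    intro w
    have h := congrFun
      (IsClassFunction.eq_sum_classInner (isClassFunction_indFun S (fun _ => (1 : ℂ)))) w
    rw [h]
    simp only [Finset.sum_apply, Pi.smul_apply, smul_eq_mul]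
    refine Finset.sum_congr rfl fun χ _ => ?_
    unfold permMult
    congr 1
    convert rfl
  rw [h2, h3, Finset.sum_congr rfl (fun t _ => hind (t⁻¹ * b * t * a⁻¹)), ← Finset.mul_sum]
  congr 1
  simp only [hdec]
  rw [Finset.sum_comm]
  refine Finset.sum_congr rfl fun χ _ => ?_
  rw [← Finset.mul_sum, ← sum_char_mul_conj χ a⁻¹ b]
  congr 1
  refine Finset.sum_congr rfl fun t _ => ?_
  exact char_conj_invariant χ _ _ (isConj_iff.2 ⟨a⁻¹, by group⟩)

/-- The weight of a character. -/
noncomputable def pairWeight (S : Subgroup G) (c : ℕ) (χ : IrrCharacter G) : ℂ :=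
  (Nat.card S : ℂ) / (Nat.card G : ℂ) * ((charDegree (χ : G → ℂ) : ℂ) / (c : ℂ)) * permMult S χ

theorem pairCount_div_eq [Fintype G] (S : Subgroup G) (a b : G) {c : ℕ} (hc : c ≠ 0) :
    (pairCount S a b : ℂ) / (c : ℂ) = ∑ χ : IrrCharacter G,
      pairWeight S c χ * (centralChar (χ : G → ℂ) a⁻¹ * centralChar (χ : G → ℂ) b) := by
  have h := card_mul_pairCount S a b
  have ha : (Nat.card (Subgroup.centralizer ({a} : Set G)) : ℂ) * (csize a : ℂ) = Nat.card G := by
    exact_mod_cast csize_mul_card a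
  have hb : (Nat.card (Subgroup.centralizer ({b} : Set G)) : ℂ) * (csize b : ℂ) = Nat.card G := by
    exact_mod_cast csize_mul_card b
  have hG : (Nat.card G : ℂ) ≠ 0 := Nat.cast_ne_zero.2 Nat.card_pos.ne'
  have hc' : (c : ℂ) ≠ 0 := Nat.cast_ne_zero.2 hc
  have h4 : (Nat.card G : ℂ) * (Nat.card G : ℂ) * (pairCount S a b : ℂ) =
      (csize a : ℂ) * (csize b : ℂ) * ((Nat.card S : ℂ) * ∑ χ : IrrCharacter G, permMult S χ *
        ((Nat.card G : ℂ) * (χ : G → ℂ) a⁻¹ * (χ : G → ℂ) b / (χ : G → ℂ) 1)) := by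
    rw [← h]
    conv_lhs => rw [show (Nat.card G : ℂ) * (Nat.card G : ℂ) =
      ((Nat.card (Subgroup.centralizer ({a} : Set G)) : ℂ) * (csize a : ℂ)) *
      ((Nat.card (Subgroup.centralizer ({b} : Set G)) : ℂ) * (csize b : ℂ)) by rw [ha, hb]]
    ring
  rw [div_eq_iff hc']
  refine mul_left_cancel₀ (mul_ne_zero hG hG) (h4.trans ?_)
  rw [Finset.mul_sum, Finset.mul_sum, Finset.sum_mul, Finset.mul_sum]
  refine Finset.sum_congr rfl fun χ _ => ?_
  rw [pairWeight, centralChar_eq, centralChar_eq, csize_inv, deg_cast]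
  have hχ : (χ : G → ℂ) 1 ≠ 0 := deg_ne_zero χ
  field_simp

theorem pairCount_self_of_separated {S : Subgroup G} {p : ℕ} (hS : IsPGroup p S) (hp : p.Prime)
    {a b : G} (hsep : ∀ y z : G, IsConj a y → IsConj b z → ∀ k : ℕ, 0 < k →
      orderOf (z * y⁻¹) ≠ p ^ k) :
    pairCount S a b = if IsConj a b then csize a else 0 := by
  have key : ∀ y z : G, IsConj a y → IsConj b z → z * y⁻¹ ∈ S → z = y := by
    intro y z hy hz hmem
    haveI := Fact.mk hp
    obtain ⟨k, hk⟩ := IsPGroup.iff_orderOf.1 hS ⟨_, hmem⟩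
    rw [Subgroup.orderOf_mk] at hk
    rcases Nat.eq_zero_or_pos k with rfl | hk0
    · rw [pow_zero, orderOf_eq_one_iff, mul_inv_eq_one] at hk
      exact hk
    · exact absurd hk (hsep y z hy hz k hk0)
  split_ifs with hab
  · rw [pairCount, show csize a = Nat.card {y : G // IsConj a y} from
      index_centralizer_eq_card_isConj a]
    exact Nat.card_congr
      ⟨fun yz => ⟨yz.1.1, yz.2.1⟩, fun y => ⟨(y.1, y.1), y.2, hab.symm.trans y.2, by simp⟩,
        fun yz => Subtype.ext (Prod.ext rfl (key _ _ yz.2.1 yz.2.2.1 yz.2.2.2).symm), fun y => rfl⟩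
  · rw [pairCount, Nat.card_eq_zero]
    left
    refine ⟨fun yz => hab ?_⟩
    have h := key _ _ yz.2.1 yz.2.2.1 yz.2.2.2
    exact yz.2.1.trans (h ▸ yz.2.2.1.symm)

variable {p : ℕ} [Fact p.Prime] {M : Ideal AlgInt}

omit [Fact p.Prime] in
theorem memRing_pairWeight (hM : IsPModular p M) (S : Sylow p G) {k : ℕ} {χ : IrrCharacter G}
    (hk : k ≤ (charDegree (χ : G → ℂ)).factorization p) :
    MemLocalRing M (pairWeight (S : Subgroup G) (p ^ k) χ) := by
  haveI := Fact.mk hM.1
  obtain ⟨m, hm⟩ := exists_nat_permMult (S : Subgroup G) χ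
  have hidx : (Nat.card (S : Subgroup G) : ℂ) / (Nat.card G : ℂ) =
      (((S : Subgroup G).index : ℕ) : ℂ)⁻¹ := by
    rw [← Subgroup.card_mul_index (S : Subgroup G), Nat.cast_mul, ← div_div,
      div_self (Nat.cast_ne_zero.2 Nat.card_pos.ne'), one_div]
  rw [pairWeight, hidx, hm]
  refine memRing_mul hM (memRing_mul hM (memRing_inv_natCast hM S.not_dvd_index)
    (natCast_div_memRing hM (pow_ne_zero _ hM.1.ne_zero) (Or.inr ?_))) (memRing_natCast hM m)
  rwa [hM.1.factorization_pow, Finsupp.single_eq_same]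

omit [Fact p.Prime] in
/-- Modulo `M`, only the characters with `p`-part `p ^ k` of the degree count. -/
theorem pairCount_congr (hM : IsPModular p M) [Fintype G] (S : Sylow p G) {k : ℕ} {a b : G}
    (ha : (csize a).factorization p = k) (hb : (csize b).factorization p = k) :
    p ^ k ∣ pairCount (S : Subgroup G) a b ∧
      MemLocalIdeal M (((pairCount (S : Subgroup G) a b / p ^ k : ℕ) : ℂ) -
        ∑ χ : IrrCharacter G, (if (charDegree (χ : G → ℂ)).factorization p = k
          then pairWeight (S : Subgroup G) (p ^ k) χ else 0) *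
          (centralChar (χ : G → ℂ) a⁻¹ * centralChar (χ : G → ℂ) b)) := by
  haveI := Fact.mk hM.1
  have hpk : (p ^ k : ℕ) ≠ 0 := pow_ne_zero _ hM.1.ne_zero
  have hfk : (p ^ k).factorization p = k := by rw [hM.1.factorization_pow, Finsupp.single_eq_same]
  set q : ℂ := (pairCount (S : Subgroup G) a b : ℂ) / ((p ^ k : ℕ) : ℂ) with hq
  set W : IrrCharacter G → ℂ := fun χ => if (charDegree (χ : G → ℂ)).factorization p = k
    then pairWeight (S : Subgroup G) (p ^ k) χ else 0 with hW
  have hdiff : MemLocalIdeal M (q - ∑ χ : IrrCharacter G,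
      W χ * (centralChar (χ : G → ℂ) a⁻¹ * centralChar (χ : G → ℂ) b)) := by
    rw [hq, pairCount_div_eq (S : Subgroup G) a b hpk, ← Finset.sum_sub_distrib]
    refine memIdeal_sum hM _ fun χ _ => ?_
    obtain ⟨m, hm⟩ := exists_nat_permMult (S : Subgroup G) χ
    have hidx : (Nat.card (S : Subgroup G) : ℂ) / (Nat.card G : ℂ) =
        (((S : Subgroup G).index : ℕ) : ℂ)⁻¹ := by
      rw [← Subgroup.card_mul_index (S : Subgroup G), Nat.cast_mul, ← div_div,
        div_self (Nat.cast_ne_zero.2 Nat.card_pos.ne'), one_div]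
    rcases lt_trichotomy ((charDegree (χ : G → ℂ)).factorization p) k with hlt | heq | hgt
    · simp only [hW]
      rw [if_neg (by omega), zero_mul, sub_zero]
      have e : pairWeight (S : Subgroup G) (p ^ k) χ *
          (centralChar (χ : G → ℂ) a⁻¹ * centralChar (χ : G → ℂ) b) =
          ((((S : Subgroup G).index : ℕ) : ℂ)⁻¹ * (m : ℂ) *
            (((csize a : ℕ) : ℂ) / ((p ^ k : ℕ) : ℂ)) * (χ : G → ℂ) a⁻¹) *
            centralChar (χ : G → ℂ) b := by
        rw [pairWeight, hm, hidx, char_eq_centralChar_mul χ a⁻¹, csize_inv]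
        have h0 : (csize a : ℂ) ≠ 0 := Nat.cast_ne_zero.2 (csize_ne_zero a)
        field_simp
      rw [e]
      exact memIdeal_mul_left hM
        (memRing_mul hM (memRing_mul hM (memRing_mul hM
          (memRing_inv_natCast hM S.not_dvd_index) (memRing_natCast hM m))
          (natCast_div_memRing hM hpk (Or.inr (by omega)))) (memRing_char hM χ _))
        (centralChar_memIdeal hM χ b (by omega))
    · simp only [hW]
      rw [if_pos heq, sub_self]
      exact memIdeal_zero hM
    · simp only [hW]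
      rw [if_neg (by omega), zero_mul, sub_zero]
      refine memIdeal_mul_right hM ?_
        (memRing_mul hM (memRing_centralChar hM χ _) (memRing_centralChar hM χ _))
      rw [pairWeight, hm, hidx]
      exact memIdeal_mul_right hM (memIdeal_mul_left hM
        (memRing_inv_natCast hM S.not_dvd_index)
        (natCast_div_memIdeal hM hpk (by omega))) (memRing_natCast hM m)
  have hR : MemLocalRing M q := by
    have hs : MemLocalRing M (∑ χ : IrrCharacter G,
        W χ * (centralChar (χ : G → ℂ) a⁻¹ * centralChar (χ : G → ℂ) b)) := by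
      refine memRing_sum hM _ fun χ _ => memRing_mul hM ?_
        (memRing_mul hM (memRing_centralChar hM χ _) (memRing_centralChar hM χ _))
      simp only [hW]
      split_ifs with h
      · exact memRing_pairWeight hM S (by omega)
      · exact memRing_zero hM
    have h := memRing_add hM (memIdeal_memRing hdiff) hs
    rwa [sub_add_cancel] at h
  have hdvd : p ^ k ∣ pairCount (S : Subgroup G) a b := by
    have h := (memIdeal_intCast_div hM (pairCount (S : Subgroup G) a b : ℤ) k).1.2
      (by rw [Int.cast_natCast]; exact hR)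
    exact_mod_cast h
  refine ⟨hdvd, ?_⟩
  rw [Nat.cast_div hdvd (Nat.cast_ne_zero.2 hpk)]
  exact hdiff

end CfsgLib.Blocks
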