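import Cfsg.Agent.Lib.Blocks.Induced
import Cfsg.Agent.Lib.Blocks.Kulshammer
import Cfsg.Agent.S0962

/-!
# Blocks of maximal defect
-/

set_option autoImplicit false
set_option maxHeartbeats 1000000
set_option synthInstance.maxHeartbeats 400000

namespace CfsgLib.Blocks

open Cfsg
open scoped Classical

universe u

variable {G : Type u} [Group G] [Finite G] {p : ℕ} [Fact p.Prime] {M : Ideal AlgInt} [M.IsMaximal]

/-- With a normal Sylow subgroup every block has that defect group. -/
theorem isDefectGroup_normal_sylow (hM : IsPModular p M) (P : Sylow p G)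
    [(P : Subgroup G).Normal] {B : Set (IrrCharacter G)} (hB : IsPBlock M B) :
    IsDefectGroup p M B (P : Subgroup G) := by
  obtain ⟨D, hD⟩ := exists_defectGroup hM hB
  have hle := le_defectGroup_of_normal hM hB hD P.isPGroup'
  rwa [← P.3 (isPGroup_defectGroup hD) hle]

/-- With a normal Sylow subgroup `P`, the regular classes in the centralizer of `P` have
independent class sums on the blocks. -/
theorem card_classes_le_card_blocks (hM : IsPModular p M) (P : Sylow p G)
    [(P : Subgroup G).Normal] :
    Nat.card {C : ConjClasses G // ∀ n : G, ConjClasses.mk n = C →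
        ¬ p ∣ orderOf n ∧ n ∈ Subgroup.centralizer ((P : Subgroup G) : Set G)} ≤
      Nat.card {B : Set (IrrCharacter G) // IsPBlock M B} := by
  haveI := Fintype.ofFinite G
  haveI : CharP (ResField M) p := charP_resField hM.1 (natCast_mem_of_isPModular hM)
  set J := {C : ConjClasses G // ∀ n : G, ConjClasses.mk n = C →
    ¬ p ∣ orderOf n ∧ n ∈ Subgroup.centralizer ((P : Subgroup G) : Set G)}
  set I := {B : Set (IrrCharacter G) // IsPBlock M B}
  haveI : Fintype J := Fintype.ofFinite _
  haveI : Fintype I := Fintype.ofFinite _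
  choose χ hχ using fun B : I => IsPBlock.nonempty B.2
  let z : (J → ResField M) → Subalgebra.center (ResField M) (MonoidAlgebra (ResField M) G) :=
    fun c => ∑ C : J, c C • classSumC (ResField M) (Quotient.out C.1)
  have hzcoeff : ∀ c x, (z c : MonoidAlgebra (ResField M) G).coeff x =
      ∑ C : J, if C.1 = ConjClasses.mk x then c C else 0 := by
    intro c x
    simp only [z, AddSubmonoidClass.coe_finsetSum, MonoidAlgebra.coeff_sum, Finsupp.finsetSum_apply,
      SetLike.val_smul, coe_classSumC, MonoidAlgebra.coeff_smul, Finsupp.smul_apply, smul_eq_mul,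
      coeff_classSum]
    refine Finset.sum_congr rfl fun C _ => ?_
    have h : IsConj (Quotient.out C.1) x ↔ C.1 = ConjClasses.mk x := by
      rw [← ConjClasses.mk_eq_mk_iff_isConj]
      exact ⟨fun h => (Quotient.out_eq C.1).symm.trans h, fun h => (Quotient.out_eq C.1).trans h⟩
    simp only [h]
    split_ifs <;> simp
  let Φ : (J → ResField M) →ₗ[ResField M] (I → ResField M) :=
    { toFun := fun c B => lam M (χ B) (z c)
      map_add' := fun c d => funext fun B => by
        show lam M (χ B) (z (c + d)) = _
        rw [show z (c + d) = z c + z d by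
          simp [z, add_smul, Finset.sum_add_distrib], map_add]
        rfl
      map_smul' := fun r c => funext fun B => by
        show lam M (χ B) (z (r • c)) = _
        rw [show z (r • c) = r • z c by simp [z, Finset.smul_sum, smul_smul], map_smul]
        rfl }
  have hinj : Function.Injective Φ := by
    rw [← LinearMap.ker_eq_bot, LinearMap.ker_eq_bot']
    intro c hc
    have h0 : ∀ ψ, lam M ψ (z c) = 0 := by
      intro ψ
      let B : I := ⟨blockOf M (ψ : G → ℂ), isPBlock_blockOf ψ⟩
      have h1 := congrFun hc B
      rw [show lam M ψ = lam M (χ B) from mem_blockOf_iff.1 (hχ B)]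
      exact h1
    obtain ⟨m, hm⟩ := isNilpotent_of_lam_eq_zero _ h0
    funext C
    set k := Quotient.out C.1 with hk
    obtain ⟨hkreg, hkC⟩ := C.2 k (Quotient.out_eq C.1)
    have hzk : (z c : MonoidAlgebra (ResField M) G).coeff k = c C := by
      rw [hzcoeff, Finset.sum_eq_single C]
      · exact if_pos (Quotient.out_eq C.1).symm
      · intro C' _ hne
        rw [if_neg]
        intro h
        exact hne (Subtype.ext (h.trans (Quotient.out_eq C.1)))
      · simp
    set q := Nat.card G + m with hq
    have hmain := pSum_pow hM k (k := q) (Nat.le_add_right _ _) (z c)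
    have hmq : m ≤ p ^ q :=
      le_trans (Nat.le_add_left _ _) (Nat.lt_pow_self hM.1.one_lt).le
    have hz0 : (z c : MonoidAlgebra (ResField M) G) ^ p ^ q = 0 := by
      have h1 := congrArg Subtype.val hm
      rw [SubmonoidClass.coe_pow] at h1
      rw [show p ^ q = m + (p ^ q - m) by omega, pow_add, h1]
      simp
    rw [hz0] at hmain
    simp only [MonoidAlgebra.coeff_zero, Finsupp.zero_apply] at hmain
    have hsum := eq_zero_of_pow_eq_zero hmain
    rw [pSum, Finset.sum_eq_single 1] at hsum
    · rwa [one_mul, hzk] at hsum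
    · intro x hx hx1
      obtain ⟨j, hj⟩ := (Finset.mem_filter.1 hx).2
      rw [hzcoeff]
      refine Finset.sum_eq_zero fun C' _ => if_neg fun hC' => hx1 ?_
      obtain ⟨hxreg, hxC⟩ := C'.2 (x * k) hC'.symm
      have hxP : x ∈ (P : Subgroup G) := by
        have hxp : IsPGroup p (Subgroup.zpowers x) :=
          IsPGroup.of_card (n := j) (by rw [Nat.card_zpowers, hj])
        obtain ⟨g, hg⟩ := IsPGroup.exists_le_sylow hxp
        have := (Sylow.unique_of_normal P ‹_›).uniq
        rw [show g = P from (this g).trans (this P).symm] at hg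
        exact hg (Subgroup.mem_zpowers x)
      have hcomm : Commute k x :=
        (Subgroup.mem_centralizer_iff.1 hkC x hxP).symm
      refine CfsgLib.BlockReg.eq_one_of_regular_mul (p := p) (k := j) hcomm hkreg ?_
        (by rwa [hcomm.eq])
      rw [← hj]; exact pow_orderOf_eq_one x
    · intro h
      exact absurd (Finset.mem_filter.2 ⟨Finset.mem_univ _, 0, by simp⟩) h
  have hrank := LinearMap.finrank_le_finrank_of_injective hinj
  rwa [Module.finrank_fintype_fun_eq_card, Module.finrank_fintype_fun_eq_card,
    ← Nat.card_eq_fintype_card, ← Nat.card_eq_fintype_card] at hrank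

/-- With a normal Sylow subgroup, blocks correspond to the regular classes centralizing it. -/
theorem card_blocks_normal_sylow (hM : IsPModular p M) (P : Sylow p G) [(P : Subgroup G).Normal] :
    Nat.card {B : Set (IrrCharacter G) // IsPBlock M B} =
      Nat.card {C : ConjClasses G // ∀ n : G, ConjClasses.mk n = C →
        ¬ p ∣ orderOf n ∧ n ∈ Subgroup.centralizer ((P : Subgroup G) : Set G)} := by
  refine le_antisymm ?_ (card_classes_le_card_blocks hM P)
  have h := Cfsg.Agent.S0962.result (G := G) p M hM ((Nat.card G).factorization p)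
  have e1 : Nat.card {B : Set (IrrCharacter G) // IsPBlock M B ∧
      (Nat.card G).factorization p ≤ blockDefect p B} =
        Nat.card {B : Set (IrrCharacter G) // IsPBlock M B} := by
    refine Nat.card_congr (Equiv.subtypeEquivRight fun B => ⟨fun h => h.1, fun hB => ⟨hB, ?_⟩⟩)
    have hc := card_defectGroup hM hB (isDefectGroup_normal_sylow hM P hB)
    rw [P.card_eq_multiplicity] at hc
    exact le_of_eq (Nat.pow_right_injective hM.1.two_le hc)
  rw [e1] at h
  refine h.trans (le_of_eq (Nat.card_congr (Equiv.subtypeEquivRight fun C => ?_)))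
  constructor
  · rintro ⟨g, rfl, hreg, hd⟩ n hn
    obtain ⟨c, hc⟩ := isConj_iff.1 (ConjClasses.mk_eq_mk_iff_isConj.1 hn.symm)
    obtain ⟨D, hD⟩ := exists_centSylow p g
    have hPC : (P : Subgroup G) ≤ Subgroup.centralizer ({g} : Set G) := by
      have hcard := hD.card
      have hDP : D ≤ (P : Subgroup G) := by
        obtain ⟨S, hS⟩ := IsPGroup.exists_le_sylow hD.isPGroup
        have := (Sylow.unique_of_normal P ‹_›).uniq
        rwa [show S = P from (this S).trans (this P).symm] at hS
      rw [← Subgroup.eq_of_le_of_card_ge hDP (by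
        rw [hcard, P.card_eq_multiplicity]; exact Nat.pow_le_pow_right hM.1.pos hd)]
      exact hD.le
    rw [← hc]
    refine ⟨fun h => hreg (by rwa [show orderOf (c * g * c⁻¹) = orderOf g from
      MulEquiv.orderOf_eq (MulAut.conj c) g] at h), ?_⟩
    refine (conj_mem_centralizer_iff ?_ g).2 (le_centralizer_singleton_iff.1 hPC)
    rw [Subgroup.normalizer_eq_top (H := (P : Subgroup G))]
    trivial
  · intro hC
    obtain ⟨hreg, hc⟩ := hC C.out (Quotient.out_eq C)
    refine ⟨C.out, Quotient.out_eq C, hreg, ?_⟩
    obtain ⟨D, hD, hPD⟩ := exists_centSylow_ge P.isPGroup' (le_centralizer_singleton_iff.2 hc)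
    have h1 := Subgroup.card_le_of_le hPD
    rw [P.card_eq_multiplicity, hD.card] at h1
    exact (Nat.pow_le_pow_iff_right hM.1.one_lt).1 h1

/-- Brauer correspondence for Sylow defect groups, counted. -/
theorem card_blocks_sylow_defect (hM : IsPModular p M) (P : Sylow p G) :
    Nat.card {B : Set (IrrCharacter G) // IsPBlock M B ∧ IsDefectGroup p M B (P : Subgroup G)} =
      Nat.card {C : ConjClasses (Subgroup.normalizer ((P : Subgroup G) : Set G)) //
        ∀ n : Subgroup.normalizer ((P : Subgroup G) : Set G), ConjClasses.mk n = C →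
          ¬ p ∣ orderOf n ∧ (n : G) ∈ Subgroup.centralizer ((P : Subgroup G) : Set G)} := by
  set N := Subgroup.normalizer ((P : Subgroup G) : Set G)
  let Q : Sylow p N := P.subtype Subgroup.le_normalizer
  have hQ : (Q : Subgroup N) = (P : Subgroup G).subgroupOf N := Sylow.coe_subtype _ _
  haveI : (Q : Subgroup N).Normal := by
    rw [hQ]
    exact (Subgroup.normal_subgroupOf_iff Subgroup.le_normalizer).2
      fun u n hu hn => (Subgroup.mem_normalizer_iff.1 hn u).1 hu
  have hP := P.isPGroup'
  have hdef : ∀ b : {b : Set (IrrCharacter N) // IsPBlock M b},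
      IsDefectGroup p M b.1 ((P : Subgroup G).subgroupOf N) :=
    fun b => hQ ▸ isDefectGroup_normal_sylow hM Q b.2
  choose F hF using fun b : {b : Set (IrrCharacter N) // IsPBlock M b} =>
    firstMain_exists_induced hM hP b.2 (hdef b)
  have e : {B : Set (IrrCharacter G) // IsPBlock M B ∧ IsDefectGroup p M B (P : Subgroup G)} ≃
      {b : Set (IrrCharacter N) // IsPBlock M b} := by
    refine (Equiv.ofBijective (fun b => ⟨F b, (hF b).1, (hF b).2.1⟩) ⟨?_, ?_⟩).symm
    · intro b b' h
      exact Subtype.ext (firstMain_unique hM hP (hdef b) (hdef b') (hF b).2.2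
        (by rw [show F b = F b' from congrArg Subtype.val h]; exact (hF b').2.2))
    · rintro ⟨B, hB, hBP⟩
      obtain ⟨b, -, hind⟩ := firstMain_exists_correspondent hM hB hBP
      exact ⟨⟨b, hind.1⟩, Subtype.ext (IsInducedBlock.unique (hF _).2.2 hind)⟩
  rw [Nat.card_congr e, card_blocks_normal_sylow hM Q]
  refine Nat.card_congr (Equiv.subtypeEquivRight fun C =>
    forall₂_congr fun n _ => and_congr_right fun _ => ?_)
  rw [hQ, Subgroup.mem_centralizer_iff, Subgroup.mem_centralizer_iff]
  exact ⟨fun h u hu => congrArg Subtype.val (h ⟨u, Subgroup.le_normalizer hu⟩ hu),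
    fun h u hu => Subtype.ext (h u.1 hu)⟩

end CfsgLib.Blocks
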