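import Mathlib.LinearAlgebra.Matrix.NonsingularInverse
import Mathlib.LinearAlgebra.Matrix.Trace
import Mathlib.GroupTheory.Perm.Cycle.Basic
import Mathlib.Tactic.NoncommRing

/-!
# The trace of a permutation times a commuting idempotent matrix

If `E` is an idempotent matrix over a local domain commuting with a permutation `σ`, and
the block of `E` on the set `Φ` vanishes in the residue field, where all periods of `σ`
off `Φ` are divisible by `p`, then `σ E` has trace zero.
-/

set_option autoImplicit false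

namespace CfsgLib.Blocks

open Matrix

variable {R F X : Type*} [CommRing R] [IsDomain R] [Field F] [Fintype X] [DecidableEq X]

/-- The matrix of a permutation, with `(x, σ x)` entries equal to one. -/
def permMat (σ : Equiv.Perm X) : Matrix X X R := fun x y => if y = σ x then 1 else 0

omit [IsDomain R] in
theorem permMat_mul_apply (σ : Equiv.Perm X) (A : Matrix X X R) (x y : X) :
    ((permMat σ : Matrix X X R) * A) x y = A (σ x) y := by
  simp [Matrix.mul_apply, permMat]

omit [IsDomain R] in
theorem mul_permMat_apply (σ : Equiv.Perm X) (A : Matrix X X R) (x y : X) :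
    (A * (permMat σ : Matrix X X R)) x y = A x (σ.symm y) := by
  rw [Matrix.mul_apply, Finset.sum_eq_single (σ.symm y)]
  · simp [permMat]
  · intro b _ hb
    have : y ≠ σ b := fun h => hb (by simp [h])
    simp [permMat, this]
  · simp

omit [IsDomain R] in
theorem isUnit_of_map_eq_one (f : R →+* F) (hf : ∀ r, f r ≠ 0 → IsUnit r) (U V : Matrix X X R)
    (h : f.mapMatrix (U * V) = 1) : IsUnit U := by
  rw [Matrix.isUnit_iff_isUnit_det]
  apply hf
  intro h0
  have h2 := congrArg Matrix.det h
  rw [← RingHom.map_det, Matrix.det_mul, map_mul, h0, zero_mul, Matrix.det_one] at h2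
  exact zero_ne_one h2

omit [IsDomain R] [DecidableEq X] in
theorem exists_period_labelling {p : ℕ} {η : R} (hη : η ^ p = 1) (σ : Equiv.Perm X) (Φ : Set X)
    (hΦ : ∀ x, σ x ∈ Φ ↔ x ∈ Φ) (hper : ∀ x, x ∉ Φ → ∀ j : ℕ, (σ ^ j) x = x → p ∣ j) :
    ∃ d : X → R, (∀ x, ∃ j : ℕ, d x = η ^ j) ∧ (∀ x, x ∉ Φ → d (σ x) = η * d x) := by
  classical
  let r : X → X := fun x => (Quotient.mk (Equiv.Perm.SameCycle.setoid σ) x).out
  have hr : ∀ x, σ.SameCycle (r x) x := fun x =>
    Quotient.exact (s := Equiv.Perm.SameCycle.setoid σ) (Quotient.out_eq _)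
  choose j hj using fun x => (hr x).exists_nat_pow_eq
  refine ⟨fun x => η ^ j x, fun x => ⟨_, rfl⟩, fun x hx => ?_⟩
  have hrx : r (σ x) = r x := congrArg Quotient.out
    (Quotient.sound (s := Equiv.Perm.SameCycle.setoid σ)
      (a := σ x) (b := x) (Equiv.Perm.sameCycle_apply_left.2 (Equiv.Perm.SameCycle.refl σ x)))
  have hj' : (σ ^ j (σ x)) (r x) = σ x := hrx ▸ hj (σ x)
  have hmem : ∀ n : ℕ, ∀ z, (σ ^ n) z ∈ Φ ↔ z ∈ Φ := by
    intro n
    induction n with
    | zero => simp
    | succ n ih => intro z; rw [pow_succ', Equiv.Perm.mul_apply, hΦ, ih]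
  have hrΦ : r x ∉ Φ := by
    intro h
    exact hx (by rw [← hj x]; exact (hmem _ _).2 h)
  have hj2 : (σ ^ (j x + 1)) (r x) = σ x := by
    rw [pow_succ', Equiv.Perm.mul_apply, hj x]
  have key : ∀ a b : ℕ, a ≤ b → (σ ^ a) (r x) = (σ ^ b) (r x) → η ^ a = η ^ b := by
    intro a b hab h
    obtain ⟨c, rfl⟩ := Nat.exists_eq_add_of_le hab
    rw [pow_add σ a c, Equiv.Perm.mul_apply] at h
    obtain ⟨q, rfl⟩ := hper _ hrΦ c ((σ ^ a).injective h).symm
    rw [pow_add, pow_mul, hη, one_pow, mul_one]
  rw [← pow_succ']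
  rcases le_total (j (σ x)) (j x + 1) with h | h
  · exact key _ _ h (hj'.trans hj2.symm)
  · exact (key _ _ h (hj2.trans hj'.symm)).symm

/-- The key trace lemma. -/
theorem sum_apply_perm_eq_zero (f : R →+* F) (hf : ∀ r, f r ≠ 0 → IsUnit r) {p : ℕ} (hp : 0 < p)
    {η : R} (hη : η ^ p = 1) (hη1 : η ≠ 1) (hηf : f η = 1)
    (σ : Equiv.Perm X) (Φ : Set X)
    (hΦ : ∀ x, σ x ∈ Φ ↔ x ∈ Φ) (hper : ∀ x, x ∉ Φ → ∀ j : ℕ, (σ ^ j) x = x → p ∣ j)
    (E : Matrix X X R) (hE : E * E = E) (hEσ : ∀ x y, E (σ x) (σ y) = E x y)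
    (hEΦ : ∀ x ∈ Φ, ∀ y ∈ Φ, f (E x y) = 0) :
    ∑ x, E (σ x) x = 0 := by
  classical
  set S : Matrix X X R := permMat σ with hS
  have htrace : ∑ x, E (σ x) x = Matrix.trace (S * E) := by
    simp [Matrix.trace, hS, permMat_mul_apply]
  have hSE : S * E = E * S := by
    ext x y
    rw [hS, permMat_mul_apply, mul_permMat_apply]
    conv_lhs => rw [← σ.apply_symm_apply y]
    rw [hEσ]
  set π : X → R := fun x => if x ∈ Φ then 0 else 1 with hπ
  set P : Matrix X X R := diagonal π with hP
  have hπσ : ∀ x, π (σ x) = π x := fun x => by simp [hπ, hΦ]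
  have hSP : S * P = P * S := by
    ext x y
    rw [hP, hS, mul_diagonal, diagonal_mul]
    unfold permMat
    split_ifs with h
    · rw [h, hπσ, one_mul, mul_one]
    · simp
  have hPP : P * P = P := by
    ext x y
    rw [hP, diagonal_mul_diagonal]
    congr 1
    funext z
    by_cases hz : z ∈ Φ <;> simp [hπ, hz]
  -- the nilpotent correction
  have hQ : f.mapMatrix ((1 - P) * E * (1 - P)) = 0 := by
    ext x y
    rw [RingHom.mapMatrix_apply, Matrix.map_apply, hP,
      show (1 : Matrix X X R) - diagonal π = diagonal (fun z => 1 - π z) by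
        rw [← diagonal_one, diagonal_sub],
      mul_diagonal, diagonal_mul, Matrix.zero_apply]
    by_cases hx : x ∈ Φ <;> by_cases hy : y ∈ Φ <;> simp [hπ, hx, hy]
    exact hEΦ x hx y hy
  set N : Matrix X X R := E * (1 - P) * E with hN
  have hNN : f.mapMatrix (N * N) = 0 := by
    have : N * N = E * ((1 - P) * E * (1 - P)) * E := by
      rw [hN]
      simp only [Matrix.mul_assoc]
      rw [← Matrix.mul_assoc E E, hE]
    rw [this, map_mul, map_mul, hQ, mul_zero, zero_mul]
  set K : Matrix X X R := 1 - N with hK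
  have hKu : IsUnit K := by
    apply isUnit_of_map_eq_one f hf K (1 + N)
    rw [show K * (1 + N) = 1 - N * N by rw [hK]; noncomm_ring, map_sub, hNN, map_one, sub_zero]
  obtain ⟨Ku, hKu'⟩ := hKu
  have hKE : K * E = E * P * E := by
    have : E * (1 - P) * E = E - E * P * E := by
      rw [Matrix.mul_sub, Matrix.sub_mul, Matrix.mul_one, hE]
    rw [hK, hN, Matrix.sub_mul, Matrix.one_mul, Matrix.mul_assoc (E * (1 - P)) E E, hE, this]
    abel
  have hEK : E * K = E * P * E := by
    have : E * (1 - P) * E = E - E * P * E := by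
      rw [Matrix.mul_sub, Matrix.sub_mul, Matrix.mul_one, hE]
    rw [hK, hN, Matrix.mul_sub, Matrix.mul_one, ← Matrix.mul_assoc E, ← Matrix.mul_assoc E E, hE,
      this]
    abel
  have hKEc : Commute E (Ku : Matrix X X R) := by
    rw [hKu']; exact hEK.trans hKE.symm
  have hKEi : E * (↑Ku⁻¹ : Matrix X X R) = (↑Ku⁻¹ : Matrix X X R) * E := hKEc.units_inv_right
  have hKSc : Commute S (Ku : Matrix X X R) := by
    rw [hKu', hK, hN]
    have h1 : Commute S E := hSE
    have h2 : Commute S P := hSP
    exact (Commute.one_right S).sub_right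
      ((h1.mul_right ((Commute.one_right S).sub_right h2)).mul_right h1)
  set Ki : Matrix X X R := (↑Ku⁻¹ : Matrix X X R) with hKi
  have hKiS : Commute S Ki := hKSc.units_inv_right
  have hKKi : K * Ki = 1 := by rw [← hKu']; exact Ku.mul_inv
  set W : Matrix X X R := E * Ki * E with hW
  set E2 : Matrix X X R := P * W * P with hE2
  have hWPW : W * P * W = W := by
    rw [hW]
    calc E * Ki * E * P * (E * Ki * E) = E * Ki * (E * P * E) * (Ki * E) := by
          simp only [Matrix.mul_assoc]
      _ = E * Ki * (E * K) * (Ki * E) := by rw [hEK]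
      _ = E * Ki * E * (K * Ki) * E := by simp only [Matrix.mul_assoc]
      _ = E * Ki * E := by
          rw [hKKi, Matrix.mul_one, Matrix.mul_assoc (E * Ki) E E, hE]
  have hE2E2 : E2 * E2 = E2 := by
    rw [hE2]
    calc P * W * P * (P * W * P) = P * (W * (P * P) * W) * P := by
          simp only [Matrix.mul_assoc]
      _ = P * W * P := by rw [hPP, hWPW]
  have hSW : S * W = W * S := by
    rw [hW]
    exact ((show Commute S E from hSE).mul_right hKiS).mul_right hSE
  have hSE2 : S * E2 = E2 * S := by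
    rw [hE2]
    exact ((show Commute S P from hSP).mul_right hSW).mul_right hSP
  have hPE2 : P * E2 = E2 := by rw [hE2, ← Matrix.mul_assoc, ← Matrix.mul_assoc, hPP]
  have hE2P : E2 * P = E2 := by rw [hE2, Matrix.mul_assoc (P * W), hPP]
  have htr2 : Matrix.trace (S * E2) = Matrix.trace (S * E) := by
    calc Matrix.trace (S * E2) = Matrix.trace ((S * P * W) * P) := by
          rw [hE2]; simp only [Matrix.mul_assoc]
      _ = Matrix.trace (P * (S * P * W)) := Matrix.trace_mul_comm _ _
      _ = Matrix.trace ((S * (P * P) * W)) := by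
          congr 1
          simp only [← Matrix.mul_assoc]
          rw [← hSP]
      _ = Matrix.trace ((S * P * E * Ki) * E) := by
          rw [hPP, hW]; simp only [Matrix.mul_assoc]
      _ = Matrix.trace (E * (S * P * E * Ki)) := Matrix.trace_mul_comm _ _
      _ = Matrix.trace (S * (E * P * E) * Ki) := by
          congr 1
          simp only [← Matrix.mul_assoc]
          rw [← hSE]
      _ = Matrix.trace (S * E * (K * Ki)) := by
          rw [← hEK]; simp only [Matrix.mul_assoc]
      _ = Matrix.trace (S * E) := by rw [hKKi, Matrix.mul_one]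
  -- the twist
  obtain ⟨d, hdpow, hdσ⟩ := exists_period_labelling hη σ Φ hΦ hper
  have hdp : ∀ x, d x ^ p = 1 := fun x => by
    obtain ⟨j, hj⟩ := hdpow x
    rw [hj, ← pow_mul, mul_comm, pow_mul, hη, one_pow]
  have hdf : ∀ x, f (d x) = 1 := fun x => by
    obtain ⟨j, hj⟩ := hdpow x
    rw [hj, map_pow, hηf, one_pow]
  set D : Matrix X X R := diagonal d with hD
  set Di : Matrix X X R := diagonal (fun x => d x ^ (p - 1)) with hDi
  have hddi : ∀ x, d x ^ (p - 1) * d x = 1 := fun x => by
    rw [← pow_succ, Nat.sub_add_cancel hp, hdp]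
  have hDiD : Di * D = 1 := by
    rw [hD, hDi, diagonal_mul_diagonal]; simp [hddi]
  have hfD : f.mapMatrix D = 1 := by
    rw [hD, RingHom.mapMatrix_apply, diagonal_map (map_zero f), ← diagonal_one]
    congr 1; funext z; exact hdf z
  have hfDi : f.mapMatrix Di = 1 := by
    rw [hDi, RingHom.mapMatrix_apply, diagonal_map (map_zero f), ← diagonal_one]
    congr 1; funext z; simp [hdf]
  have hSDP : S * (D * P) = η • (D * S * P) := by
    ext x y
    rw [hS, hD, hP, permMat_mul_apply, Matrix.smul_apply, Matrix.mul_assoc, diagonal_mul,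
      diagonal_mul, mul_diagonal, smul_eq_mul]
    unfold permMat
    by_cases hy : y = σ x
    · subst hy
      by_cases hx : x ∈ Φ
      · simp [hπ, hπσ x, hx, (hΦ x).2 hx]
      · simp [hπ, hx, hdσ x hx, (not_congr (hΦ x)).2 hx]
    · simp [hy, Ne.symm hy]
  have hPDiS : P * Di * S = η • (P * S * Di) := by
    ext x y
    rw [hS, hDi, hP, Matrix.smul_apply, Matrix.mul_assoc, diagonal_mul, diagonal_mul,
      Matrix.mul_assoc, diagonal_mul, mul_diagonal, smul_eq_mul]
    unfold permMat
    by_cases hy : y = σ x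
    · subst hy
      by_cases hx : x ∈ Φ
      · simp [hπ, hx]
      · simp only [hπ, hx, if_false, if_true, one_mul, mul_one, hdσ x hx]
        rw [mul_pow, ← mul_assoc, ← pow_succ', Nat.sub_add_cancel hp, hη, one_mul]
    · simp [hy]
  set E' : Matrix X X R := D * E2 * Di with hE'
  have hE'E' : E' * E' = E' := by
    rw [hE']
    calc D * E2 * Di * (D * E2 * Di) = D * (E2 * (Di * D) * E2) * Di := by
          simp only [Matrix.mul_assoc]
      _ = D * E2 * Di := by rw [hDiD, Matrix.mul_one, hE2E2]
  have hSE' : S * E' = η • (D * (S * E2) * Di) := by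
    calc S * E' = S * (D * P) * E2 * Di := by
          rw [hE']; conv_lhs => rw [← hPE2]
          simp only [Matrix.mul_assoc]
      _ = η • (D * S * (P * E2) * Di) := by
          rw [hSDP]; simp only [Matrix.smul_mul, Matrix.mul_assoc]
      _ = η • (D * (S * E2) * Di) := by rw [hPE2]; simp only [Matrix.mul_assoc]
  have hE'S : E' * S = η • (D * (E2 * S) * Di) := by
    calc E' * S = D * E2 * (P * Di * S) := by
          rw [hE']; conv_lhs => rw [← hE2P]
          simp only [Matrix.mul_assoc]
      _ = η • (D * (E2 * P) * S * Di) := by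
          rw [hPDiS]; simp only [Matrix.mul_smul, Matrix.mul_assoc]
      _ = η • (D * (E2 * S) * Di) := by rw [hE2P]; simp only [Matrix.mul_assoc]
  have hSE'c : S * E' = E' * S := by rw [hSE', hE'S, hSE2]
  set U : Matrix X X R := E' * E2 + (1 - E') * (1 - E2) with hU
  have hmap : f.mapMatrix E' = f.mapMatrix E2 := by
    rw [hE', map_mul, map_mul, hfD, hfDi, one_mul, mul_one]
  have hUu : IsUnit U := by
    apply isUnit_of_map_eq_one f hf U 1
    have hadd : f.mapMatrix U = f.mapMatrix E' * f.mapMatrix E2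
        + (1 - f.mapMatrix E') * (1 - f.mapMatrix E2) := by
      rw [hU]; simp only [map_add, map_sub, map_one, map_mul]
    rw [mul_one, hadd, hmap]
    have h1 : f.mapMatrix E2 * f.mapMatrix E2 = f.mapMatrix E2 := by rw [← map_mul, hE2E2]
    calc f.mapMatrix E2 * f.mapMatrix E2 + (1 - f.mapMatrix E2) * (1 - f.mapMatrix E2)
        = 2 * (f.mapMatrix E2 * f.mapMatrix E2) - 2 * f.mapMatrix E2 + 1 := by noncomm_ring
      _ = 1 := by rw [h1]; noncomm_ring
  obtain ⟨Uu, hUu'⟩ := hUu
  have hUE : U * E2 = E' * U := by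
    calc U * E2 = E' * (E2 * E2) + (1 - E') * (E2 - E2 * E2) := by rw [hU]; noncomm_ring
      _ = E' * E2 := by rw [hE2E2, sub_self, Matrix.mul_zero, add_zero]
      _ = E' * E' * E2 + (E' - E' * E') * (1 - E2) := by
          rw [hE'E', sub_self, Matrix.zero_mul, add_zero]
      _ = E' * U := by rw [hU]; noncomm_ring
  have hSU : S * U = U * S := by
    have h1 : Commute S E' := hSE'c
    have h2 : Commute S E2 := hSE2
    exact (h1.mul_right h2).add_right
      (((Commute.one_right S).sub_right h1).mul_right ((Commute.one_right S).sub_right h2))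
  have hUUi : U * (↑Uu⁻¹ : Matrix X X R) = 1 := by rw [← hUu']; exact Uu.mul_inv
  have hUiU : (↑Uu⁻¹ : Matrix X X R) * U = 1 := by rw [← hUu']; exact Uu.inv_mul
  have e1 : Matrix.trace (S * E') = Matrix.trace (S * E2) := by
    calc Matrix.trace (S * E') = Matrix.trace (S * (E' * U) * (↑Uu⁻¹ : Matrix X X R)) := by
          simp only [Matrix.mul_assoc]
          rw [hUUi, Matrix.mul_one]
      _ = Matrix.trace (U * (S * E2) * (↑Uu⁻¹ : Matrix X X R)) := by
          rw [← hUE, ← Matrix.mul_assoc S, hSU, Matrix.mul_assoc U]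
      _ = Matrix.trace ((↑Uu⁻¹ : Matrix X X R) * U * (S * E2)) := by
          rw [Matrix.trace_mul_cycle]
      _ = Matrix.trace (S * E2) := by rw [hUiU, Matrix.one_mul]
  have e2 : Matrix.trace (S * E') = η * Matrix.trace (S * E2) := by
    rw [hSE', Matrix.trace_smul, smul_eq_mul, Matrix.trace_mul_cycle, hDiD, Matrix.one_mul]
  have e3 : (1 - η) * Matrix.trace (S * E2) = 0 := by rw [sub_mul, one_mul, ← e2, e1, sub_self]
  rw [htrace, ← htr2]
  exact (mul_eq_zero.1 e3).resolve_left (sub_ne_zero.2 (Ne.symm hη1))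

end CfsgLib.Blocks
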